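import Groth.Agent.AGF80.SepPoints
import Groth.Agent.SGA3a.SubGrpOfMono
import Mathlib.AlgebraicGeometry.Group.Smooth

/-!
The maximal geometrically reduced subscheme of a group scheme is a smooth subgroup.
-/

set_option autoImplicit false
set_option linter.style.haveILetI false
set_option backward.isDefEq.respectTransparency.types false

universe u

open CategoryTheory CategoryTheory.Limits MonoidalCategory CartesianMonoidalCategory MonObj GrpObj
  AlgebraicGeometry

namespace Groth.Agent.AGF80.SepPoints

variable {k : Type u} [Field k]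

theorem geometricallyReduced_prod {Z : Scheme.{u}} (h : Z ⟶ Spec (CommRingCat.of k))
    [LocallyOfFiniteType h] [GeometricallyReduced h] :
    GeometricallyReduced (pullback.fst h h ≫ h) := by
  refine ⟨geometrically_iff_of_commRing_of_isClosedUnderIsomorphisms.mpr fun K _ _ => ?_⟩
  let t := Spec.map (CommRingCat.ofHom (algebraMap k K))
  haveI : LocallyOfFiniteType (pullback.snd h t) := MorphismProperty.pullback_snd _ _ inferInstance
  haveI : IsLocallyNoetherian (pullback h t) :=
    LocallyOfFiniteType.isLocallyNoetherian (pullback.snd h t)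
  haveI : IsReduced (pullback h t) :=
    pullback_of_geometrically GeometricallyReduced.geometrically_isReduced _ _
  haveI : IsReduced (pullback (pullback.fst h h) (pullback.fst h t)) := inferInstance
  exact isReduced_of_isOpenImmersion (pullbackRightPullbackFstIso h t (pullback.fst h h)).inv

theorem isReduced_of_geometricallyReduced_field {Z : Scheme.{u}} (h : Z ⟶ Spec (CommRingCat.of k))
    [LocallyOfFiniteType h] [GeometricallyReduced h] : IsReduced Z := by
  exact GeometricallyReduced.isReduced_of_flat_of_isLocallyNoetherian h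

/-- A morphism from a reduced, geometrically reduced scheme factors through a closed subscheme
containing all separable points. -/
theorem exists_factor {P X Z : Scheme.{u}} (f : X ⟶ Spec (CommRingCat.of k)) (z : Z ⟶ X)
    [IsClosedImmersion z] (hz : sepPts f ⊆ Set.range z) (φ : P ⟶ X) [IsReduced P]
    (hP : GeometricallyReduced (φ ≫ f)) : ∃ ψ : P ⟶ Z, ψ ≫ z = φ := by
  refine ⟨IsClosedImmersion.lift z φ (SchBasics.ker_le_ker_of_range_subset φ z ?_),
    IsClosedImmersion.lift_fac _ _ _⟩
  rintro _ ⟨w, rfl⟩
  obtain ⟨ξ, hξ, hmax⟩ := VarGal.exists_maximal_generization P w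
  exact (hξ.map φ.continuous).mem_closed z.isClosedEmbedding.isClosed_range
    (hz (mem_sepPts_of_maximal f φ hP hmax))

theorem smooth_subgroup (G : Over (Spec (CommRingCat.of k))) [GrpObj G]
    [LocallyOfFiniteType G.hom] (Z : Over (Spec (CommRingCat.of k))) (z : Z ⟶ G)
    (hz : IsClosedImmersion z.left) (hred : GeometricallyReduced Z.hom)
    (hpts : ∀ (k' : Type u) [Field k'] [Algebra k k'] [Algebra.IsGeometricallyReduced k k']
      (x : Spec (CommRingCat.of k') ⟶ G.left),
      x ≫ G.hom = Spec.map (CommRingCat.ofHom (algebraMap k k')) →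
      ∃ y : Spec (CommRingCat.of k') ⟶ Z.left, y ≫ z.left = x) :
    Smooth Z.hom ∧ ∃ inst : GrpObj Z, IsMonHom z := by
  haveI := hz
  haveI : LocallyOfFiniteType Z.hom := by rw [← Over.w z]; infer_instance
  haveI : Mono z := Over.mono_of_mono_left z
  have hsub : sepPts G.hom ⊆ Set.range z.left := by
    rintro _ ⟨L, _, _, hL, q, hq, rfl⟩
    haveI := hL
    obtain ⟨y, rfl⟩ := hpts L q hq
    exact ⟨y (IsLocalRing.closedPoint L), (Scheme.Hom.comp_apply y z.left _).symm⟩
  have hfac : ∀ (P : Over (Spec (CommRingCat.of k))) (φ : P ⟶ G),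
      IsReduced P.left → GeometricallyReduced P.hom → ∃ ψ : P ⟶ Z, ψ ≫ z = φ := by
    intro P φ hP hP'
    haveI := hP
    obtain ⟨ψ, hψ⟩ := exists_factor G.hom z.left hsub φ.left (by rw [Over.w]; exact hP')
    refine ⟨Over.homMk ψ ?_, ?_⟩
    · rw [← Over.w φ, ← hψ, Category.assoc, Over.w]
    · ext; simpa using hψ
  haveI := hred
  have hZred : IsReduced Z.left := isReduced_of_geometricallyReduced_field Z.hom
  have hZZ : GeometricallyReduced (Z ⊗ Z).hom := geometricallyReduced_prod Z.hom
  haveI : LocallyOfFiniteType (Z ⊗ Z).hom :=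
    inferInstanceAs (LocallyOfFiniteType (pullback.fst Z.hom Z.hom ≫ Z.hom))
  have hZZred : IsReduced (Z ⊗ Z).left := isReduced_of_geometricallyReduced_field (Z ⊗ Z).hom
  have hone : ∃ w, w ≫ z = (1 : 𝟙_ (Over (Spec (CommRingCat.of k))) ⟶ G) := by
    refine hfac _ _ (inferInstanceAs (IsReduced (Spec (CommRingCat.of k)))) ?_
    have : Algebra.IsGeometricallyReduced k k := by
      rw [Algebra.isGeometricallyReduced_field_iff]
      exact isReduced_of_injective (Algebra.TensorProduct.rid k k (AlgebraicClosure k)).toRingEquiv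
        (AlgEquiv.injective _)
    refine ⟨geometrically_iff_of_commRing_of_isClosedUnderIsomorphisms.mpr fun K _ _ => ?_⟩
    exact isReduced_of_isOpenImmersion
      (pullback.snd (𝟙 (Spec (CommRingCat.of k))) (Spec.map (CommRingCat.ofHom (algebraMap k K))))
  have hmul := hfac (Z ⊗ Z) ((fst Z Z ≫ z) * (snd Z Z ≫ z)) hZZred hZZ
  have hinv := hfac Z z⁻¹ hZred hred
  letI inst := SGA3a.grpObjOfMono z hone hmul hinv
  refine ⟨?_, inst, SGA3a.isMonHom_grpObjOfMono z hone hmul hinv⟩
  let : GrpObj (Over.mk Z.hom) := inst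
  exact @smooth_of_grpObj k _ _ Z.hom ‹LocallyOfFiniteType Z.hom› _ hred

end Groth.Agent.AGF80.SepPoints
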