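import Groth.Agent.AlgGrp79.BorelImage
import Groth.Agent.AlgGrp79.ToriConj
import Groth.Agent.AlgGrp33.IsogSub

/-!
Consequences of the conjugacy of Borel subgroups and maximal tori over an algebraically closed field.
-/

set_option autoImplicit false
set_option linter.unusedSectionVars false
set_option backward.isDefEq.respectTransparency.types false

universe u

open CategoryTheory MonoidalCategory CartesianMonoidalCategory MonObj GrpObj AlgebraicGeometry

noncomputable section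

namespace Groth.Agent.AGF80.BorelCor

open AlgGrp79

variable {k : Type u} [Field k] [IsAlgClosed k]


/-- A morphism from a reduced scheme of finite type factors through a closed subscheme containing its rational points. -/
theorem exists_factor_of_pts {H K G : Over (Spec (CommRingCat.of k))} [LocallyOfFiniteType H.hom] [IsReduced H.left] (iH : H ⟶ G) (iK : K ⟶ G)
    [IsClosedImmersion iK.left] (h : ∀ p : 𝟙_ (Over (Spec (CommRingCat.of k))) ⟶ H, ∃ q : 𝟙_ (Over (Spec (CommRingCat.of k))) ⟶ K, q ≫ iK = p ≫ iH) : ∃ f : H ⟶ K, f ≫ iK = iH :=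
  exists_lift_of_range_subset iK iH (range_subset_of_pts iH iK.left.isClosedEmbedding.isClosed_range fun p => by
    obtain ⟨q, hq⟩ := h p
    exact ⟨q.left (IsLocalRing.closedPoint k), by rw [← hq, Over.comp_left, Scheme.Hom.comp_apply]⟩)

/-- A factor through a monomorphic homomorphism is a homomorphism. -/
theorem isMonHom_factor {M N G : Over (Spec (CommRingCat.of k))} [GrpObj M] [GrpObj N] [GrpObj G] (p : M ⟶ N) (i : N ⟶ G) [IsMonHom i] [Mono i]
    (φ : M ⟶ G) [IsMonHom φ] (h : p ≫ i = φ) : IsMonHom p :=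
  AlgGrp33.AffineProper.isMonHom_of_mono p i φ h

/-- A maximal torus contained in a subgroup is a maximal torus of that subgroup. -/
theorem isMaxTorus_of_factor {T H G : Over (Spec (CommRingCat.of k))} [GrpObj T] [GrpObj H] [GrpObj G] {iT : T ⟶ G} (hT : AGF.IsMaxTorus iT)
    (iH : H ⟶ G) [IsMonHom iH] [Mono iH] (t : T ⟶ H) (ht : t ≫ iH = iT) : AGF.IsMaxTorus t := by
  obtain ⟨_, _, hTt, hmax⟩ := hT
  haveI := isMonHom_factor t iH iT ht
  haveI : Mono (t ≫ iH) := by rw [ht]; infer_instance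
  haveI : Mono t := mono_of_mono t iH
  refine ⟨inferInstance, inferInstance, hTt, ?_⟩
  intro T' _ j _ _ f hT' hf
  exact hmax T' (j ≫ iH) f hT' (by rw [reassoc_of% hf, ht])

/-- Conjugates of maximal tori are maximal tori. -/
theorem isMaxTorus_conjBy {T G : Over (Spec (CommRingCat.of k))} [GrpObj T] [GrpObj G] {iT : T ⟶ G} (hT : AGF.IsMaxTorus iT) (g : 𝟙_ (Over (Spec (CommRingCat.of k))) ⟶ G) :
    AGF.IsMaxTorus (AGF.conjBy g iT) := by
  obtain ⟨_, _, hTt, hmax⟩ := hT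
  have hmono : ∀ {Y : Over (Spec (CommRingCat.of k))} (i : Y ⟶ G) [Mono i] (g : 𝟙_ (Over (Spec (CommRingCat.of k))) ⟶ G), Mono (AGF.conjBy g i) := by
    intro Y i _ g
    refine ⟨fun {Z} a b h => ?_⟩
    rw [BorelConj.comp_conjBy, BorelConj.comp_conjBy] at h
    have h' := congrArg (AGF.conjBy g⁻¹) h
    simp only [BorelConj.conjBy_conjBy, inv_mul_cancel, BorelConj.conjBy_one] at h'
    exact (cancel_mono i).1 h'
  refine ⟨BorelConj.isMonHom_conjBy g iT, hmono iT g, hTt, ?_⟩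
  intro T' _ j _ _ f hT' hf
  haveI := BorelConj.isMonHom_conjBy g⁻¹ j
  haveI := hmono j g⁻¹
  refine hmax T' (AGF.conjBy g⁻¹ j) f hT' ?_
  rw [BorelConj.comp_conjBy, hf, BorelConj.conjBy_conjBy, inv_mul_cancel, BorelConj.conjBy_one]

variable (G : Over (Spec (CommRingCat.of k))) [GrpObj G] [IsAffine G.left] [Smooth G.hom] [ConnectedSpace G.left]

/-- Borel subgroups exist. -/
theorem exists_borel : ∃ (B : Over (Spec (CommRingCat.of k))) (_ : GrpObj B) (iB : B ⟶ G), Red.IsBorelOver k iB := by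
  obtain ⟨B, _, iB, _, _, _, _, hs, X, a, o, hX, _⟩ := BorelConj.exists_solvable_proper G
  exact ⟨B, inferInstance, iB, BorelConj.isBorelOver_of_proper iB hs hX⟩

/-- A solvable smooth connected subgroup lies in a Borel subgroup. -/
theorem exists_borel_ge {H : Over (Spec (CommRingCat.of k))} [GrpObj H] (iH : H ⟶ G) [IsMonHom iH] [IsClosedImmersion iH.left] [Smooth H.hom]
    [ConnectedSpace H.left] (hs : Red.IsSolvableGrp H) :
    ∃ (B : Over (Spec (CommRingCat.of k))) (_ : GrpObj B) (iB : B ⟶ G) (f : H ⟶ B), Red.IsBorelOver k iB ∧ f ≫ iB = iH := by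
  obtain ⟨B, _, iB, _, _, _, _, hsB, X, a, o, hX, _⟩ := BorelConj.exists_solvable_proper G
  haveI : IsAffine H.left := isAffine_of_isAffineHom iH.left
  obtain ⟨g, φ, hφ⟩ := BorelConj.exists_conj_into iB hX hs iH
  exact ⟨B, inferInstance, AGF.conjBy g iB, φ,
    BorelOps.isBorelOver_conjBy (BorelConj.isBorelOver_of_proper iB hsB hX) g, hφ⟩

/-- An inclusion of Borel subgroups is an isomorphism. -/
theorem borel_le {B B' : Over (Spec (CommRingCat.of k))} [GrpObj B] [GrpObj B'] {iB : B ⟶ G} {iB' : B' ⟶ G} (hB : Red.IsBorelOver k iB)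
    (hB' : Red.IsBorelOver k iB') (f : B ⟶ B') (hf : f ≫ iB' = iB) : IsIso f := by
  obtain ⟨_, _, hs', hc', hsolv', -⟩ := id hB'
  exact hB.2.2.2.2.2 B' iB' f inferInstance hs' hc' hsolv' hf

/-- Tori are solvable. -/
theorem isSolvableGrp_torus {T : Over (Spec (CommRingCat.of k))} [GrpObj T] (hT : Red.IsTorus T) : Red.IsSolvableGrp T := by
  obtain ⟨_, _, _, _, _⟩ := AlgGrp33.IsogSub.torus_props hT
  exact ⟨1, fun X => by
    rw [derivedSeries_one, commutator_eq_bot_iff_center_eq_top, eq_top_iff]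
    intro x _
    rw [Subgroup.mem_center_iff]
    exact fun y => mul_comm y x⟩

omit [IsAffine G.left] [Smooth G.hom] [ConnectedSpace G.left] in
/-- Subtori of groups of finite type are closed. -/
theorem isClosedImmersion_torus [LocallyOfFiniteType G.hom] {T : Over (Spec (CommRingCat.of k))} [GrpObj T] (hT : Red.IsTorus T) (iT : T ⟶ G)
    [IsMonHom iT] [Mono iT] : IsClosedImmersion iT.left := by
  obtain ⟨_, _, _, _, _⟩ := AlgGrp33.IsogSub.torus_props hT
  exact QuotSub.isClosedImmersion_of_mono iT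

/-- Borel pairs are conjugate. -/
theorem borelPair_conj {B B' T T' : Over (Spec (CommRingCat.of k))} [GrpObj B] [GrpObj B'] [GrpObj T] [GrpObj T'] {iB : B ⟶ G} {iB' : B' ⟶ G}
    (hB : Red.IsBorelOver k iB) (hB' : Red.IsBorelOver k iB') {iT : T ⟶ G} {iT' : T' ⟶ G} (hT : AGF.IsMaxTorus iT)
    (hT' : AGF.IsMaxTorus iT') (t : T ⟶ B) (ht : t ≫ iB = iT) (t' : T' ⟶ B') (ht' : t' ≫ iB' = iT') :
    ∃ (g : 𝟙_ (Over (Spec (CommRingCat.of k))) ⟶ G) (f : B ≅ B') (f' : T ≅ T'), f.hom ≫ iB' = AGF.conjBy g iB ∧ f'.hom ≫ iT' = AGF.conjBy g iT := by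
  obtain ⟨g, f, hf⟩ := BorelConj.borel_conj G B B' iB iB' hB hB'
  obtain ⟨_, _, _, _, -, -⟩ := id hB'
  haveI : IsAffine B'.left := isAffine_of_isAffineHom iB'.left
  haveI : Mono iB' := Over.mono_of_mono_left iB'
  have h1 : AGF.IsMaxTorus (t ≫ f.hom) := isMaxTorus_of_factor (isMaxTorus_conjBy hT g) iB' _ (by
    rw [Category.assoc, hf, BorelConj.comp_conjBy, ht])
  obtain ⟨b, e, he⟩ := ToriConj.maxTorus_conj B' T T' (t ≫ f.hom) t' h1 (isMaxTorus_of_factor hT' iB' t' ht')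
  let c : B' ≅ B' := ⟨AGF.conjBy b (𝟙 B'), AGF.conjBy b⁻¹ (𝟙 B'),
    by rw [BorelConj.comp_conjBy, Category.comp_id, BorelConj.conjBy_conjBy, inv_mul_cancel, BorelConj.conjBy_one],
    by rw [BorelConj.comp_conjBy, Category.comp_id, BorelConj.conjBy_conjBy, mul_inv_cancel, BorelConj.conjBy_one]⟩
  have hcomp : ∀ {K : Over (Spec (CommRingCat.of k))} (j : K ⟶ B'), AGF.conjBy b j ≫ iB' = AGF.conjBy (b ≫ iB') (j ≫ iB') := by
    intro K j
    simp only [AGF.conjBy, MonObj.mul_comp _ _ iB', GrpObj.inv_comp, Category.assoc]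
  refine ⟨(b ≫ iB') * g, f ≪≫ c, e, ?_, ?_⟩
  · show (f.hom ≫ AGF.conjBy b (𝟙 B')) ≫ iB' = _
    rw [BorelConj.comp_conjBy, Category.comp_id, hcomp, hf, BorelConj.conjBy_conjBy]
  · rw [← ht', reassoc_of% he, hcomp, Category.assoc, hf, BorelConj.comp_conjBy, ht, BorelConj.conjBy_conjBy]

omit [IsAlgClosed k] [IsAffine G.left] [Smooth G.hom] [ConnectedSpace G.left] in
/-- A conjugate of a centralizer centralizes the conjugate. -/
theorem isCentralizerOf_conjBy {H C : Over (Spec (CommRingCat.of k))} [GrpObj H] [GrpObj C] {i : H ⟶ G} {c : C ⟶ G}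
    (hc : Red.IsCentralizerOf i c) (g : 𝟙_ (Over (Spec (CommRingCat.of k))) ⟶ G) :
    ∀ (X : Over (Spec (CommRingCat.of k))) (x : X ⟶ G), (∃ z : X ⟶ C, z ≫ AGF.conjBy g c = x) ↔
      ∀ (X' : Over (Spec (CommRingCat.of k))) (u : X' ⟶ X) (h : X' ⟶ H),
        (u ≫ x) * (h ≫ AGF.conjBy g i) = (h ≫ AGF.conjBy g i) * (u ≫ x) := by
  intro X x
  have e : ∀ {Y K : Over (Spec (CommRingCat.of k))} (h : Y ⟶ K) (i : K ⟶ G),
      h ≫ AGF.conjBy g i = (toUnit Y ≫ g) * (h ≫ i) * (toUnit Y ≫ g)⁻¹ := by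
    intro Y K h i
    simp only [AGF.conjBy, MonObj.comp_mul, GrpObj.comp_inv, ← Category.assoc, toUnit_unique (h ≫ toUnit K) (toUnit Y)]
  have h2 := hc.2.2 X ((toUnit X ≫ g)⁻¹ * x * (toUnit X ≫ g))
  constructor
  · rintro ⟨z, rfl⟩ X' u h
    have h3 := (hc.2.2 X (z ≫ c)).1 ⟨z, rfl⟩ X' u h
    rw [← Category.assoc, e, e, Category.assoc]
    have := congrArg (fun y => (toUnit X' ≫ g) * y * (toUnit X' ≫ g)⁻¹) h3
    simpa only [_root_.mul_assoc, inv_mul_cancel_left] using this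
  · intro h
    obtain ⟨z, hz⟩ := h2.2 fun X' u k' => by
      have h3 := h X' u k'
      rw [e] at h3
      simp only [MonObj.comp_mul, GrpObj.comp_inv, ← Category.assoc, toUnit_unique (u ≫ toUnit X) (toUnit X')]
      have := congrArg (fun y => (toUnit X' ≫ g)⁻¹ * y * (toUnit X' ≫ g)) h3
      simpa only [_root_.mul_assoc, inv_mul_cancel_left, inv_mul_cancel, _root_.mul_one] using this
    exact ⟨z, by rw [e, hz]; group⟩

/-- Centralizers of maximal tori are conjugate. -/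
theorem cartan_conj {T T' C C' : Over (Spec (CommRingCat.of k))} [GrpObj T] [GrpObj T'] [GrpObj C] [GrpObj C'] {iT : T ⟶ G} {iT' : T' ⟶ G}
    (hT : AGF.IsMaxTorus iT) (hT' : AGF.IsMaxTorus iT') {c : C ⟶ G} {c' : C' ⟶ G}
    (hc : Red.IsCentralizerOf iT c) (hc' : Red.IsCentralizerOf iT' c') :
    ∃ (g : 𝟙_ (Over (Spec (CommRingCat.of k))) ⟶ G) (f : C ≅ C'), f.hom ≫ c' = AGF.conjBy g c := by
  obtain ⟨g, e, he⟩ := ToriConj.maxTorus_conj G T T' iT iT' hT hT'
  have key : ∀ (X : Over (Spec (CommRingCat.of k))) (x : X ⟶ G), (∃ z : X ⟶ C, z ≫ AGF.conjBy g c = x) ↔ ∃ z : X ⟶ C', z ≫ c' = x := by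
    intro X x
    rw [isCentralizerOf_conjBy G hc g, hc'.2.2]
    constructor
    · intro h X' u t'
      have := h X' u (t' ≫ e.inv)
      rwa [Category.assoc, ← he, Iso.inv_hom_id_assoc] at this
    · intro h X' u t
      have := h X' u (t ≫ e.hom)
      rwa [Category.assoc, he] at this
  obtain ⟨_, _, -⟩ := hc
  obtain ⟨_, _, -⟩ := hc'
  obtain ⟨f, hf⟩ := (key C (AGF.conjBy g c)).1 ⟨𝟙 C, Category.id_comp _⟩
  obtain ⟨f', hf'⟩ := (key C' c').2 ⟨𝟙 C', Category.id_comp _⟩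
  have hmono : Mono (AGF.conjBy g c) := ⟨fun {Z} a b h => by
    rw [BorelConj.comp_conjBy, BorelConj.comp_conjBy] at h
    have h' := congrArg (AGF.conjBy g⁻¹) h
    simp only [BorelConj.conjBy_conjBy, inv_mul_cancel, BorelConj.conjBy_one] at h'
    exact (cancel_mono c).1 h'⟩
  refine ⟨g, ⟨f, f', ?_, ?_⟩, hf⟩
  · rw [← cancel_mono (AGF.conjBy g c), Category.assoc, hf', hf, Category.id_comp]
  · rw [← cancel_mono c', Category.assoc, hf, hf', Category.id_comp]

/-- In a group that is solvable, every parabolic subgroup is everything; otherwise a Borel subgroup is proper. -/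
theorem exists_proper_parabolic_iff :
    (∃ (P : Over (Spec (CommRingCat.of k))) (_ : GrpObj P) (iP : P ⟶ G), Red.IsParabolicOver k iP ∧ ¬ IsIso iP) ↔ ¬ Red.IsSolvableGrp G := by
  constructor
  · rintro ⟨P, _, iP, ⟨_, _, _, B, _, b, hB⟩, hne⟩ hsolv
    haveI : IsClosedImmersion (𝟙 G : G ⟶ G).left := inferInstanceAs (IsClosedImmersion (𝟙 G.left))
    haveI : IsIso (b ≫ iP) :=
      hB.2.2.2.2.2 G (𝟙 G) (b ≫ iP) inferInstance inferInstance inferInstance hsolv (Category.comp_id _)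
    haveI : IsSplitEpi iP := ⟨⟨⟨inv (b ≫ iP) ≫ b, by rw [Category.assoc, IsIso.inv_hom_id]⟩⟩⟩
    haveI : Mono iP := Over.mono_of_mono_left iP
    exact hne (isIso_of_mono_of_isSplitEpi iP)
  · intro hns
    obtain ⟨B, _, iB, hB⟩ := exists_borel G
    obtain ⟨_, _, _, _, ⟨n, hn⟩, -⟩ := id hB
    refine ⟨B, inferInstance, iB, ⟨inferInstance, inferInstance, inferInstance, B, inferInstance, 𝟙 B,
      by rw [Category.id_comp]; exact hB⟩, fun _ => hns ⟨n, fun X => ?_⟩⟩
    let φ : (X ⟶ B) →* (X ⟶ G) := IsMonHom.monoidHom iB X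
    have hs : Function.Surjective φ := fun x => ⟨x ≫ inv iB, by
      show (x ≫ inv iB) ≫ iB = x
      rw [Category.assoc, IsIso.inv_hom_id, Category.comp_id]⟩
    rw [← map_derivedSeries_eq hs n, hn X, Subgroup.map_bot]

end Groth.Agent.AGF80.BorelCor
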