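import Groth.Agent.AGF80.Orbit
import Groth.Agent.AlgGrp79.Homogeneous
import Groth.Agent.AlgGrp79.SmoothDescent
import Groth.Agent.Unr55.DescProps
import Groth.Agent.S8019
import Groth.Agent.LimTop61.Reduced

/-!
Orbit maps of homogeneous spaces are immersions onto the orbit.
-/

set_option autoImplicit false

universe u

open CategoryTheory MonoidalCategory CartesianMonoidalCategory MonObj GrpObj AlgebraicGeometry Limits

namespace Groth.Agent.AGF80.OrbitImm

section Mono
variable {S : Scheme.{u}} {G H X Y : Over S} [GrpObj G] [GrpObj H] {i : H ⟶ G}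
  {a : AlgGrp.Action G X} {b : AlgGrp.Action G Y} {o : 𝟙_ (Over S) ⟶ X} {y : 𝟙_ (Over S) ⟶ Y}

/-- A map of homogeneous spaces with the same isotropy is a monomorphism. -/
theorem mono_of_isotropy [Mono i] (hH : IsPullback i (toUnit H) (a.orbitMap o) o)
    (hcov : AlgGrp79.IsCov (b.orbitMap y))
    (hY : fst G H ≫ b.orbitMap y = ((G ◁ i) ≫ μ[G]) ≫ b.orbitMap y)
    (f : Y ⟶ X) (hf : b.orbitMap y ≫ f = a.orbitMap o) : Mono f := by
  constructor
  intro T u v huv
  obtain ⟨T₁, c₁, g, hc₁, hg⟩ := hcov.exists_lift u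
  obtain ⟨T₂, c₂, g', hc₂, hg'⟩ := hcov.exists_lift (c₁ ≫ v)
  have := (hc₂.comp hc₁).epi
  rw [← cancel_epi (c₂ ≫ c₁)]
  have h : (c₂ ≫ g) ≫ a.orbitMap o = g' ≫ a.orbitMap o := by
    rw [← hf, Category.assoc, reassoc_of% hg, huv, reassoc_of% hg']
  let w := (Orbit.isPullback_of_stabilizer a o i hH).lift (c₂ ≫ g) g' h
  have h1 : w ≫ fst G H = c₂ ≫ g := IsPullback.lift_fst _ _ _ _
  have h2 : w ≫ (G ◁ i) ≫ μ[G] = g' := IsPullback.lift_snd _ _ _ _
  have h3 := congr(w ≫ $hY)
  rw [reassoc_of% h1, Category.assoc, reassoc_of% h2, hg, hg'] at h3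
  simpa [Category.assoc] using h3

end Mono

section Translates
open Var76.ActTrans

/-- Over an algebraically closed field, an equivariant map from a space with transitive rational points which is an
immersion over some open meeting its image is an immersion. -/
theorem isImmersion_of_transitive {K : Type u} [Field K] [IsAlgClosed K]
    {G X Y : Over (Spec (CommRingCat.of K))} [GrpObj G]
    [LocallyOfFiniteType X.hom]
    (a : AlgGrp.Action G X) (b : AlgGrp.Action G Y) (f : X ⟶ Y) (hf : (G ◁ f) ≫ b.act = a.act ≫ f)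
    (htr : ∀ x x' : 𝟙_ (Over (Spec (CommRingCat.of K))) ⟶ X,
      ∃ g : 𝟙_ (Over (Spec (CommRingCat.of K))) ⟶ G, lift g x ≫ a.act = x')
    (V : Y.left.Opens) (hV : Nonempty ↥(f.left ⁻¹ᵁ V)) (himm : IsImmersion (f.left ∣_ V)) :
    IsImmersion f.left := by
  have : JacobsonSpace X.left := LocallyOfFiniteType.jacobsonSpace X.hom
  have hcomm : ∀ σ : 𝟙_ (Over (Spec (CommRingCat.of K))) ⟶ G,
      (xTrans a σ).hom ≫ f = f ≫ (xTrans b σ).hom := fun σ => by
    rw [comp_xTrans b f σ]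
    have h := congr(lift (toUnit X ≫ σ) (𝟙 X) ≫ $hf)
    rw [lift_whiskerLeft_assoc, Category.id_comp] at h
    rw [h, ← Category.assoc]
    rfl
  have hmove : ∀ (x x' : X.left), IsClosed {x} → IsClosed {x'} → ∃ σ : 𝟙_ (Over (Spec (CommRingCat.of K))) ⟶ G,
      (xTrans a σ).hom.left x = x' := by
    intro x x' hx hx'
    obtain ⟨σ, hσ⟩ := htr (sec X x hx) (sec X x' hx')
    refine ⟨σ, ?_⟩
    have h : sec X x hx ≫ (xTrans a σ).hom = sec X x' hx' := by
      rw [comp_xTrans, toUnit_unique (toUnit _) (𝟙 _), Category.id_comp, hσ]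
    have h1 := congr(($h).left (IsLocalRing.closedPoint K))
    rwa [Over.comp_left, Scheme.Hom.comp_apply, sec_apply, sec_apply] at h1
  obtain ⟨⟨v₀, hv₀⟩⟩ := hV
  obtain ⟨v, hv, hvc⟩ := nonempty_inter_closedPoints ⟨v₀, hv₀⟩ (f.left ⁻¹ᵁ V).isOpen.isLocallyClosed
  let W : (𝟙_ (Over (Spec (CommRingCat.of K))) ⟶ G) → Y.left.Opens := fun σ => (xTrans b σ).hom.left ⁻¹ᵁ V
  let U' : Y.left.Opens := ⨆ σ, W σ
  have hrange : Set.range f.left ⊆ Set.range U'.ι := by
    rw [Scheme.Opens.range_ι]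
    rintro _ ⟨x, rfl⟩
    obtain ⟨x', hx'mem, hx'⟩ : ∃ x', x' ∈ closure {x} ∧ x' ∈ closedPoints X.left :=
      nonempty_inter_closedPoints ⟨x, subset_closure rfl⟩ isClosed_closure.isLocallyClosed
    obtain ⟨σ, hσ⟩ := hmove x' v hx' hvc
    have hx'' : x' ∈ f.left ⁻¹ᵁ W σ := by
      show (xTrans b σ).hom.left (f.left x') ∈ V
      rw [← Scheme.Hom.comp_apply, ← Over.comp_left, ← hcomm, Over.comp_left, Scheme.Hom.comp_apply, hσ]
      exact hv
    exact TopologicalSpace.Opens.mem_iSup.2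
      ⟨σ, (specializes_iff_mem_closure.2 hx'mem).mem_open (f.left ⁻¹ᵁ W σ).isOpen hx''⟩
  let f' : X.left ⟶ (U' : Scheme.{u}) := IsOpenImmersion.lift U'.ι f.left hrange
  have hf' : f' ≫ U'.ι = f.left := IsOpenImmersion.lift_fac _ _ _
  have hpb : IsPullback (𝟙 X.left) f' f.left U'.ι :=
    .of_horiz_isIso_mono ⟨by rw [Category.id_comp, hf']⟩
  suffices IsImmersion f' by rw [← hf']; infer_instance
  refine (IsZariskiLocalAtTarget.iff_of_iSup_eq_top (P := @IsImmersion) (fun σ => U'.ι ⁻¹ᵁ W σ) ?_).2 fun σ => ?_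
  · refine top_le_iff.1 fun z _ => ?_
    obtain ⟨σ, hσ⟩ := TopologicalSpace.Opens.mem_iSup.1 (show U'.ι z ∈ ⨆ σ, W σ from z.2)
    exact TopologicalSpace.Opens.mem_iSup.2 ⟨σ, hσ⟩
  · let T : Y.left ⟶ Y.left := (xTrans b σ).hom.left
    let T' : X.left ⟶ X.left := (xTrans a σ).hom.left
    have : IsIso T := ((Over.forget _).mapIso (xTrans b σ)).isIso_hom
    have : IsIso T' := ((Over.forget _).mapIso (xTrans a σ)).isIso_hom
    have hsq : IsPullback T' f.left f.left T := IsPullback.of_horiz_isIso ⟨by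
      rw [← Over.comp_left, ← Over.comp_left, hcomm]⟩
    let W' : (U' : Scheme.{u}).Opens := U'.ι ⁻¹ᵁ W σ
    have e1 : IsPullback ((f' ⁻¹ᵁ W').ι ≫ 𝟙 X.left ≫ T') (f' ∣_ W') f.left (W'.ι ≫ U'.ι ≫ T) :=
      (isPullback_morphismRestrict f' W').flip.paste_horiz (hpb.paste_horiz hsq)
    have e2 : IsPullback (f.left ⁻¹ᵁ V).ι (f.left ∣_ V) f.left V.ι := (isPullback_morphismRestrict f.left V).flip
    let eW : (W' : Scheme.{u}) ⟶ (V : Scheme.{u}) := IsOpenImmersion.lift V.ι (W'.ι ≫ U'.ι ≫ T) (by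
      rintro _ ⟨z, rfl⟩
      rw [Scheme.Opens.range_ι, Scheme.Hom.comp_apply, Scheme.Hom.comp_apply]
      exact z.2)
    have heW : eW ≫ V.ι = W'.ι ≫ U'.ι ≫ T := IsOpenImmersion.lift_fac _ _ _
    rw [← heW] at e1
    let l : (f' ⁻¹ᵁ W' : Scheme.{u}) ⟶ (f.left ⁻¹ᵁ V : Scheme.{u}) :=
      e2.lift ((f' ⁻¹ᵁ W').ι ≫ 𝟙 X.left ≫ T') ((f' ∣_ W') ≫ eW) (by simpa using e1.w)
    have e3 : IsPullback l (f' ∣_ W') (f.left ∣_ V) eW := by
      refine IsPullback.of_right (h₁₂ := (f.left ⁻¹ᵁ V).ι) ?_ (e2.lift_snd _ _ _) e2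
      rw [show l ≫ (f.left ⁻¹ᵁ V).ι = (f' ⁻¹ᵁ W').ι ≫ 𝟙 X.left ≫ T' from e2.lift_fst _ _ _]
      exact e1
    exact MorphismProperty.of_isPullback e3 himm

end Translates

/-- The orbit map of a quotient is an isomorphism onto the orbit. -/
theorem exists_iso_orbit {k : Type u} [Field k]
    {G X Go Y Z : Over (Spec (CommRingCat.of k))} [GrpObj G] [GrpObj Go] [LocallyOfFiniteType G.hom]
    [QuasiCompact G.hom] [IsReduced G.left] [LocallyOfFiniteType X.hom] [QuasiCompact X.hom]
    (a : AlgGrp.Action G X) (o : 𝟙_ _ ⟶ X) (i : Go ⟶ G) (hGo : IsPullback i (toUnit Go) (a.orbitMap o) o)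
    (b : AlgGrp.Action G Y) (y : 𝟙_ _ ⟶ Y) (hY : AGF.IsQuotient i Y b y)
    (z : Z ⟶ X) [IsImmersion z.left] [IsReduced Z.left]
    (hz : Set.range z.left.base = Set.range (a.orbitMap o).left.base) :
    ∃ e : Y ≅ Z, b.orbitMap y ≫ e.hom ≫ z = a.orbitMap o := by
  have : Mono i := Orbit.mono_isotropy a o i hGo
  obtain ⟨f, ⟨hfe, hfo⟩, -⟩ := Orbit.existsUnique_equivariant i Y b y hY X a o fun T h => by
    rw [← Orbit.comp_orbitMap, Category.assoc, hGo.w, comp_toUnit_assoc]
  obtain ⟨hlft, hflat, hsurj, hpb⟩ := hY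
  have hcov : AlgGrp79.IsCov (b.orbitMap y) := AlgGrp79.isCov_of_flat_surjective _
  have : Mono f := mono_of_isotropy hGo hcov hpb.w f hfo
  have : IsReduced Y.left := LimTop61.isReduced_of_flat_surjective (b.orbitMap y).left
  have : QuasiCompact Y.hom := by
    have : CompactSpace G.left := QuasiCompact.compactSpace_of_compactSpace G.hom
    have : CompactSpace Y.left := (b.orbitMap y).left.surjective.compactSpace (b.orbitMap y).left.continuous
    exact HasAffineProperty.iff_of_isAffine.2 ‹_›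
  have hrange : Set.range f.left = Set.range z.left := by
    rw [show Set.range z.left = Set.range (a.orbitMap o).left from hz, ← hfo, Over.comp_left,
      Scheme.Hom.comp_base, TopCat.coe_comp, Set.range_comp, (b.orbitMap y).left.surjective.range_eq,
      Set.image_univ]
  obtain ⟨e, he⟩ := AlgGrp79.exists_lift_immersion z f hrange.le
  have : Surjective e.left := ⟨fun w => by
    obtain ⟨v, hv⟩ := (show z.left w ∈ Set.range f.left from hrange ▸ ⟨w, rfl⟩)
    refine ⟨v, z.left.isEmbedding.injective ?_⟩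
    rw [← hv, ← he, Over.comp_left, Scheme.Hom.comp_apply]⟩
  -- pass to an algebraic closure
  let K := AlgebraicClosure k
  let t : Spec (CommRingCat.of K) ⟶ Spec (CommRingCat.of k) := Spec.map (CommRingCat.ofHom (algebraMap k K))
  have : LocallyOfFiniteType (Red.bc t Y).hom := inferInstanceAs (LocallyOfFiniteType (pullback.snd Y.hom t))
  have : LocallyOfFiniteType (Red.bc t X).hom := inferInstanceAs (LocallyOfFiniteType (pullback.snd X.hom t))
  have : QuasiCompact (Red.bc t Y).hom := inferInstanceAs (QuasiCompact (pullback.snd Y.hom t))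
  have : QuasiCompact (Red.bc t X).hom := inferInstanceAs (QuasiCompact (pullback.snd X.hom t))
  have : Surjective t := ⟨fun y => ⟨default, Subsingleton.elim _ _⟩⟩
  have : Surjective (pullback.fst Y.hom t) := MorphismProperty.pullback_fst (P := @Surjective) _ _ ‹_›
  have : Nonempty (Red.bc t Y).left :=
    ⟨((pullback.fst Y.hom t).surjective (y.left (IsLocalRing.closedPoint k))).choose⟩
  let fK : Red.bc t Y ⟶ Red.bc t X := (Over.pullback t).map f
  have : (Over.pullback t).PreservesMonomorphisms :=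
    Functor.preservesMonomorphisms_of_adjunction (Over.mapPullbackAdj t)
  have : Mono fK := (Over.pullback t).map_mono f
  obtain ⟨U, -, hUne, hU⟩ := S8019.result K (Red.bc t Y) (Red.bc t X) fK
  have hfK : (Red.bc t G ◁ fK) ≫ (a.bc t).act = (b.bc t).act ≫ fK :=
    (AlgGrp.Action.isEquivariant_bc t (a := b) (b := a) (φ := f) hfe.symm).symm
  have htr : ∀ x x' : Over.mk t ⟶ Y, ∃ g : Over.mk t ⟶ G, lift g x ≫ b.act = x' := by
    intro x x'
    obtain ⟨g, rfl⟩ := AlgGrp79.exists_pt_lift (b.orbitMap y) x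
    obtain ⟨g', rfl⟩ := AlgGrp79.exists_pt_lift (b.orbitMap y) x'
    exact ⟨g' * g⁻¹, by rw [← Orbit.comp_orbitMap_mul, inv_mul_cancel_right]⟩
  have htrK : ∀ x x' : 𝟙_ (Over (Spec (CommRingCat.of K))) ⟶ Red.bc t Y,
      ∃ g : 𝟙_ (Over (Spec (CommRingCat.of K))) ⟶ Red.bc t G, lift g x ≫ (b.bc t).act = x' := by
    intro x x'
    let T' := 𝟙_ (Over (Spec (CommRingCat.of K)))
    let eT : Over.mk t ≅ (Over.map t).obj T' := Over.isoMk (Iso.refl _) (by simp [T'])
    let hA := (Over.mapPullbackAdj t).homEquiv T'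
    obtain ⟨g, hg⟩ := htr (eT.hom ≫ (hA Y).symm x) (eT.hom ≫ (hA Y).symm x')
    refine ⟨hA G (eT.inv ≫ g), ?_⟩
    have h := AlgGrp.Action.lift_homEquiv_bc_act t b (eT.inv ≫ g) ((hA Y).symm x)
    rw [Equiv.apply_symm_apply] at h
    rw [h, ← Equiv.eq_symm_apply]
    rw [← cancel_epi eT.hom, ← hg, AlgGrp79.comp_lift_act, Iso.hom_inv_id_assoc]
  have : IsImmersion fK.left := isImmersion_of_transitive (b.bc t) (a.bc t) fK hfK htrK U hUne hU
  -- the lift to the orbit is a closed immersion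
  let eK : Red.bc t Y ⟶ Red.bc t Z := (Over.pullback t).map e
  have hsq : IsPullback eK.left (pullback.fst Y.hom t) (pullback.fst Z.hom t) e.left := by
    refine IsPullback.flip ?_
    refine IsPullback.of_bot (h₃₁ := t) (v₂₁ := pullback.snd Z.hom t) (v₂₂ := Z.hom) ?_ ?_ (IsPullback.of_hasPullback Z.hom t)
    · rw [show eK.left ≫ pullback.snd Z.hom t = pullback.snd Y.hom t from Over.w eK, Over.w]
      exact IsPullback.of_hasPullback Y.hom t
    · exact (ActBC.pullback_map_left_fst t e).symm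
  have : IsImmersion (eK.left ≫ ((Over.pullback t).map z).left) := by
    rw [← Over.comp_left, ← Functor.map_comp, he]; infer_instance
  have : IsImmersion eK.left := IsImmersion.of_comp eK.left ((Over.pullback t).map z).left
  have : Surjective eK.left := MorphismProperty.of_isPullback (P := @Surjective) hsq.flip ‹_›
  have hcl : IsClosedImmersion eK.left :=
    .of_isPreimmersion _ (by rw [eK.left.surjective.range_eq]; exact isClosed_univ)
  have : IsClosedImmersion e.left := by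
    refine Unr55.isClosedImmersion.of_isPullback hsq ⟨⟨?_, ?_⟩, ?_⟩ hcl
    · exact MorphismProperty.pullback_fst (P := @Surjective) _ _ ‹_›
    · exact MorphismProperty.pullback_fst (P := @Flat) _ _ inferInstance
    · exact MorphismProperty.pullback_fst (P := @QuasiCompact) _ _ inferInstance
  have : IsIso e.left := isIso_of_isClosedImmersion_of_surjective _
  have : IsIso ((Over.forget _).map e) := ‹IsIso e.left›
  have : IsIso e := isIso_of_reflects_iso e (Over.forget _)
  refine ⟨asIso e, ?_⟩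
  rw [asIso_hom, he, hfo]

end Groth.Agent.AGF80.OrbitImm
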