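import Groth.Prelude.Def_AGF
import Groth.Agent.AlgGrp79.Cover
import Groth.Agent.Unr55.FppfScheme

/-!
Quotients of group schemes as orbit maps: universal property, smoothness, stabilizers.
-/

set_option autoImplicit false

universe u

open CategoryTheory MonoidalCategory CartesianMonoidalCategory MonObj GrpObj AlgebraicGeometry

namespace Groth.Agent.AGF80.Orbit

variable {S : Scheme.{u}} {G H X : Over S} [GrpObj G] (a : AlgGrp.Action G X)
  (o : 𝟙_ (Over S) ⟶ X)

lemma comp_orbitMap {T : Over S} (g : T ⟶ G) :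
    g ≫ a.orbitMap o = lift g (toUnit T ≫ o) ≫ a.act := by
  rw [AlgGrp.Action.orbitMap, AlgGrp79.comp_lift_act, Category.comp_id, comp_toUnit_assoc]

lemma comp_orbitMap_mul {T : Over S} (g h : T ⟶ G) :
    (g * h) ≫ a.orbitMap o = lift g (h ≫ a.orbitMap o) ≫ a.act := by
  rw [comp_orbitMap, comp_orbitMap, AlgGrp79.mul_act']

lemma whiskerLeft_comp_mul (i : H ⟶ G) :
    (G ◁ i) ≫ μ[G] = fst G H * (snd G H ≫ i) := by
  rw [Hom.mul_def]
  congr 1

lemma lift_whiskerLeft_mul (i : H ⟶ G) {T : Over S} (g : T ⟶ G) (h : T ⟶ H) :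
    lift g h ≫ (G ◁ i) ≫ μ[G] = g * (h ≫ i) := by
  rw [Hom.mul_def, ← Category.assoc, lift_whiskerLeft]

/-- The kernel pair of the orbit map of a point is the product with its isotropy group. -/
theorem isPullback_of_stabilizer (i : H ⟶ G)
    (hH : IsPullback i (toUnit H) (a.orbitMap o) o) [Mono i] :
    IsPullback (fst G H) ((G ◁ i) ≫ μ[G]) (a.orbitMap o) (a.orbitMap o) := by
  have hw : fst G H ≫ a.orbitMap o = ((G ◁ i) ≫ μ[G]) ≫ a.orbitMap o := by
    rw [whiskerLeft_comp_mul, comp_orbitMap_mul, comp_orbitMap, Category.assoc, hH.w,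
      comp_toUnit_assoc]
  have key : ∀ {T : Over S} (x y : T ⟶ G), x ≫ a.orbitMap o = y ≫ a.orbitMap o →
      (x⁻¹ * y) ≫ a.orbitMap o = toUnit T ≫ o := by
    intro T x y h
    rw [comp_orbitMap_mul, ← h, comp_orbitMap, AlgGrp79.inv_act_act]
  refine ⟨⟨hw⟩, ⟨Limits.PullbackCone.IsLimit.mk _
    (fun s => lift s.fst (hH.lift (s.fst⁻¹ * s.snd) (toUnit s.pt) (key _ _ s.condition))) ?_ ?_ ?_⟩⟩
  · intro s; simp
  · intro s
    rw [lift_whiskerLeft_mul, hH.lift_fst, mul_inv_cancel_left]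
  · intro s m h1 h2
    ext : 1
    · simp [← h1]
    · rw [lift_snd, ← cancel_mono i, hH.lift_fst, ← h2, ← h1, whiskerLeft_comp_mul, comp_mul,
        inv_mul_cancel_left, Category.assoc]

theorem mono_isotropy (i : H ⟶ G) (hH : IsPullback i (toUnit H) (a.orbitMap o) o) :
    Mono i := by
  constructor
  intro T x y h
  exact hH.hom_ext h (toUnit_unique _ _)

variable {k : Type u} [Field k]

theorem existsUnique_equivariant {G H : Over (Spec (CommRingCat.of k))} [GrpObj G] [GrpObj H]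
    [LocallyOfFiniteType G.hom] (i : H ⟶ G) (X : Over (Spec (CommRingCat.of k)))
    (a : AlgGrp.Action G X) (o : 𝟙_ _ ⟶ X) (hX : AGF.IsQuotient i X a o)
    (X' : Over (Spec (CommRingCat.of k))) (a' : AlgGrp.Action G X') (o' : 𝟙_ _ ⟶ X')
    (ho' : ∀ (T : Over (Spec (CommRingCat.of k))) (h : T ⟶ H),
      lift (h ≫ i) (toUnit T ≫ o') ≫ a'.act = toUnit T ≫ o') :
    ∃! f : X ⟶ X', (G ◁ f) ≫ a'.act = a.act ≫ f ∧ a.orbitMap o ≫ f = a'.orbitMap o' := by
  obtain ⟨hlft, hflat, hsurj, hpb⟩ := hX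
  have hcov : AlgGrp79.IsCov (a.orbitMap o) := AlgGrp79.isCov_of_flat_surjective _
  have := hcov.epi
  obtain ⟨f, hf⟩ := hcov.desc (a'.orbitMap o') fun T x y hxy => by
    let z := hpb.lift x y hxy
    have h1 : z ≫ fst G H = x := hpb.lift_fst _ _ _
    have h2 : z ≫ (G ◁ i) ≫ μ[G] = y := hpb.lift_snd _ _ _
    rw [whiskerLeft_comp_mul, comp_mul, h1] at h2
    rw [← h2, comp_orbitMap_mul, comp_orbitMap, comp_orbitMap, ← Category.assoc z, ho']
  refine ⟨f, ⟨?_, hf⟩, fun g hg => by rw [← cancel_epi (a.orbitMap o), hg.2, hf]⟩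
  have := (hcov.whiskerLeft G).epi
  rw [← cancel_epi (G ◁ a.orbitMap o)]
  have e1 : (G ◁ a.orbitMap o) ≫ a.act = μ[G] ≫ a.orbitMap o := by
    rw [show (G ◁ a.orbitMap o) = lift (fst G G) (snd G G ≫ a.orbitMap o) by ext <;> simp,
      ← comp_orbitMap_mul, Hom.mul_def, lift_fst_snd, Category.id_comp]
  have e2 : (G ◁ a'.orbitMap o') ≫ a'.act = μ[G] ≫ a'.orbitMap o' := by
    rw [show (G ◁ a'.orbitMap o') = lift (fst G G) (snd G G ≫ a'.orbitMap o') by ext <;> simp,
      ← comp_orbitMap_mul, Hom.mul_def, lift_fst_snd, Category.id_comp]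
  rw [← Category.assoc, ← whiskerLeft_comp, hf, e2, ← Category.assoc, e1, Category.assoc, hf]

end Groth.Agent.AGF80.Orbit
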