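import Mathlib
import Groth.Agent.Alg80.WeilAlg

/-!
A Weil restriction of an affine scheme of finite presentation along a finite projective
extension is the affine scheme of `WeilAlg`.
-/

namespace Groth.Agent.AGF80.WeilRep

open CategoryTheory Limits AlgebraicGeometry
open Groth.Agent.Alg80.WeilAlg
open scoped TensorProduct

universe u

/-- A morphism of `S`-schemes bijective on affine points is an isomorphism. -/
theorem isIso_of_bijective_affine {S : Scheme.{u}} {P R : Over S} (m : P ⟶ R)
    (h : ∀ T : Over S, IsAffine T.left → Function.Bijective (fun a : T ⟶ P => a ≫ m)) :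
    IsIso m := by
  haveI : Mono m.left := by
    refine ⟨fun {T} a b hab => ?_⟩
    refine Scheme.Cover.hom_ext T.affineCover _ _ fun i => ?_
    have hw : (T.affineCover.f i ≫ b) ≫ P.hom = (T.affineCover.f i ≫ a) ≫ P.hom := by
      simp only [Category.assoc]
      rw [← Over.w m, reassoc_of% hab]
    let Ti : Over S := Over.mk ((T.affineCover.f i ≫ a) ≫ P.hom)
    exact congrArg CommaMorphism.left ((h Ti (inferInstanceAs (IsAffine (T.affineCover.X i)))).1
      (a₁ := Over.homMk (T.affineCover.f i ≫ a) rfl) (a₂ := Over.homMk (T.affineCover.f i ≫ b) hw)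
      (by ext1; simp [hab]))
  choose l hl using fun i => (h (Over.mk (R.left.affineCover.f i ≫ R.hom))
    (inferInstanceAs (IsAffine (R.left.affineCover.X i)))).2 (Over.homMk (R.left.affineCover.f i) rfl)
  have hl' : ∀ i, (l i).left ≫ m.left = R.left.affineCover.f i :=
    fun i => congrArg CommaMorphism.left (hl i)
  let n : R.left ⟶ P.left := R.left.affineCover.glueMorphisms (fun i => (l i).left) (fun i j => by
    rw [← cancel_mono m.left, Category.assoc, Category.assoc, hl', hl']
    exact pullback.condition)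
  have hn : n ≫ m.left = 𝟙 _ := Scheme.Cover.hom_ext R.left.affineCover _ _ fun i => by
    rw [← Category.assoc, Scheme.Cover.ι_glueMorphisms, hl', Category.comp_id]
  haveI : IsIso m.left := ⟨n, by
    rw [← cancel_mono m.left, Category.assoc, hn, Category.comp_id, Category.id_comp], hn⟩
  haveI : IsIso ((Over.forget S).map m) := ‹IsIso m.left›
  exact isIso_of_reflects_iso m (Over.forget S)

section

variable {B B' : Type u} [CommRing B] [CommRing B'] [Algebra B B']

/-- `Spec A` over `Spec B`. -/
noncomputable abbrev specOver (A : Type u) [CommRing A] [Algebra B A] :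
    Over (Spec (CommRingCat.of B)) :=
  Over.mk (Spec.map (CommRingCat.ofHom (algebraMap B A)))

lemma isPullback_specOver (A : Type u) [CommRing A] [Algebra B A] :
    IsPullback
      (Spec.map (CommRingCat.ofHom
        (Algebra.TensorProduct.includeRight (R := B) (A := B') (B := A)).toRingHom))
      (Spec.map (CommRingCat.ofHom (algebraMap B' (B' ⊗[B] A))))
      (specOver (B := B) A).hom (Spec.map (CommRingCat.ofHom (algebraMap B B'))) :=
  (isPullback_SpecMap_of_isPushout _ _ _ _ (CommRingCat.isPushout_tensorProduct B B' A)).flip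

/-- `Spec (B' ⊗ A) = Spec A ×_B B'`. -/
noncomputable def specIso (A : Type u) [CommRing A] [Algebra B A] :
    Spec (CommRingCat.of (B' ⊗[B] A)) ≅
      pullback (specOver (B := B) A).hom (Spec.map (CommRingCat.ofHom (algebraMap B B'))) :=
  (isPullback_specOver A).isoPullback

variable {X' : Over (Spec (CommRingCat.of B'))} [IsAffine X'.left] [Algebra B' Γ(X'.left, ⊤)]
  (hC : Spec.map (CommRingCat.ofHom (algebraMap B' Γ(X'.left, ⊤))) =
    X'.left.isoSpec.inv ≫ X'.hom)

include hC in
lemma ofPoint_over (A : Type u) [CommRing A] [Algebra B A]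
    (ψ : Γ(X'.left, ⊤) →ₐ[B'] B' ⊗[B] A) :
    ((specIso A).inv ≫ Spec.map (CommRingCat.ofHom ψ.toRingHom) ≫ X'.left.isoSpec.inv) ≫ X'.hom =
      pullback.snd (specOver (B := B) A).hom (Spec.map (CommRingCat.ofHom (algebraMap B B'))) := by
  rw [Category.assoc, Category.assoc, ← hC, ← Spec.map_comp, Iso.inv_comp_eq]
  rw [show (specIso A).hom = (isPullback_specOver (B := B) (B' := B') A).isoPullback.hom from rfl,
    IsPullback.isoPullback_hom_snd]
  congr 1
  ext r
  exact ψ.commutes r

/-- The morphism `Spec A ×_B B' ⟶ X'` of a `B' ⊗ A`-point. -/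
noncomputable def ofPoint (A : Type u) [CommRing A] [Algebra B A]
    (ψ : Γ(X'.left, ⊤) →ₐ[B'] B' ⊗[B] A) :
    (Over.pullback (Spec.map (CommRingCat.ofHom (algebraMap B B')))).obj (specOver A) ⟶ X' :=
  Over.homMk ((specIso A).inv ≫ Spec.map (CommRingCat.ofHom ψ.toRingHom) ≫ X'.left.isoSpec.inv)
    (ofPoint_over hC A ψ)

lemma ofPoint_injective (A : Type u) [CommRing A] [Algebra B A] :
    Function.Injective (ofPoint (B := B) hC A) := by
  intro ψ ψ' h
  have h1 := congrArg CommaMorphism.left h
  simp only [ofPoint, Over.homMk_left, cancel_epi, cancel_mono] at h1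
  exact AlgHom.ext fun r => congrArg (fun q => q.hom r) (Spec.map_injective h1)

lemma ofPoint_surjective (A : Type u) [CommRing A] [Algebra B A] :
    Function.Surjective (ofPoint (B := B) hC A) := by
  intro x
  let ψ₀ := Spec.preimage ((specIso A).hom ≫ x.left ≫ X'.left.isoSpec.hom)
  have hψ₀ : Spec.map ψ₀ = (specIso A).hom ≫ x.left ≫ X'.left.isoSpec.hom := Spec.map_preimage _
  have hcomm : CommRingCat.ofHom (algebraMap B' Γ(X'.left, ⊤)) ≫ ψ₀ =
      CommRingCat.ofHom (algebraMap B' (B' ⊗[B] A)) := by
    apply Spec.map_injective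
    rw [Spec.map_comp, hψ₀, hC]
    simp only [Category.assoc, Iso.hom_inv_id_assoc]
    refine (congrArg ((specIso A).hom ≫ ·) (Over.w x)).trans ?_
    exact (isPullback_specOver A).isoPullback_hom_snd
  refine ⟨{ ψ₀.hom with commutes' := fun r => congrArg (fun q => q.hom r) hcomm }, ?_⟩
  ext1
  show (specIso A).inv ≫ Spec.map (CommRingCat.ofHom ψ₀.hom) ≫ X'.left.isoSpec.inv = x.left
  rw [show CommRingCat.ofHom ψ₀.hom = ψ₀ from rfl, hψ₀]
  simp

/-- The morphism of an algebra map. -/
noncomputable def specHom {W A : Type u} [CommRing W] [CommRing A] [Algebra B W] [Algebra B A]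
    (φ : W →ₐ[B] A) : specOver (B := B) A ⟶ specOver W :=
  Over.homMk (Spec.map (CommRingCat.ofHom φ.toRingHom)) (by
    show Spec.map _ ≫ Spec.map _ = Spec.map _
    rw [← Spec.map_comp]
    congr 1
    ext r
    exact φ.commutes r)

lemma specHom_bijective (W A : Type u) [CommRing W] [CommRing A] [Algebra B W] [Algebra B A] :
    Function.Bijective (specHom (B := B) (W := W) (A := A)) := by
  constructor
  · intro φ φ' h
    exact AlgHom.ext fun r => congrArg (fun q => q.hom r)
      (Spec.map_injective (congrArg CommaMorphism.left h))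
  · intro x
    let φ₀ := Spec.preimage x.left
    have hφ₀ : Spec.map φ₀ = x.left := Spec.map_preimage _
    have hcomm : CommRingCat.ofHom (algebraMap B W) ≫ φ₀ = CommRingCat.ofHom (algebraMap B A) := by
      apply Spec.map_injective
      rw [Spec.map_comp, hφ₀]
      exact Over.w x
    refine ⟨{ φ₀.hom with commutes' := fun r => congrArg (fun q => q.hom r) hcomm }, ?_⟩
    ext1
    exact hφ₀

lemma map_specHom_ofPoint {W A : Type u} [CommRing W] [CommRing A] [Algebra B W] [Algebra B A]
    (φ : W →ₐ[B] A) (u : Γ(X'.left, ⊤) →ₐ[B'] B' ⊗[B] W) :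
    (Over.pullback (Spec.map (CommRingCat.ofHom (algebraMap B B')))).map (specHom φ) ≫
      ofPoint hC W u = ofPoint hC A ((mapId φ).comp u) := by
  have key : ((Over.pullback (Spec.map (CommRingCat.ofHom (algebraMap B B')))).map (specHom φ)).left =
      (specIso A).inv ≫ Spec.map (CommRingCat.ofHom (mapId (B' := B') φ).toRingHom) ≫
        (specIso W).hom := by
    rw [Iso.eq_inv_comp]
    apply pullback.hom_ext
    · refine ((Category.assoc _ _ _).trans (congrArg ((specIso A).hom ≫ ·)
        (pullback.lift_fst _ _ _))).trans ?_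
      rw [Category.assoc, show (specIso W).hom ≫ pullback.fst _ _ = _ from
        (isPullback_specOver W).isoPullback_hom_fst, ← Category.assoc,
        show (specIso A).hom ≫ pullback.fst _ _ = _ from
        (isPullback_specOver A).isoPullback_hom_fst]
      show Spec.map _ ≫ Spec.map _ = Spec.map _ ≫ Spec.map _
      rw [← Spec.map_comp, ← Spec.map_comp]
      congr 1
    · refine ((Category.assoc _ _ _).trans (congrArg ((specIso A).hom ≫ ·)
        (pullback.lift_snd _ _ _))).trans ?_
      rw [show (specIso A).hom ≫ pullback.snd _ _ = _ from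
        (isPullback_specOver A).isoPullback_hom_snd, Category.assoc,
        show (specIso W).hom ≫ pullback.snd _ _ = _ from
        (isPullback_specOver W).isoPullback_hom_snd, ← Spec.map_comp]
      congr 1
      ext r
      exact ((mapId φ).commutes r).symm
  ext1
  rw [Over.comp_left, key]
  simp only [ofPoint, Over.homMk_left, Category.assoc, Iso.hom_inv_id_assoc]
  rw [← Category.assoc (Spec.map _) (Spec.map _), ← Spec.map_comp]
  rfl

/-- The Weil restriction is `Spec W`. -/
theorem isIso_rep (W : Type u) [CommRing W] [Algebra B W]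
    (u : Γ(X'.left, ⊤) →ₐ[B'] B' ⊗[B] W)
    (hu : ∀ (A : Type u) [CommRing A] [Algebra B A] (ψ : Γ(X'.left, ⊤) →ₐ[B'] B' ⊗[B] A),
      ∃! φ : W →ₐ[B] A, (mapId φ).comp u = ψ)
    (R : Over (Spec (CommRingCat.of B)))
    (e : ∀ Y : Over (Spec (CommRingCat.of B)), (Y ⟶ R) ≃
      ((Over.pullback (Spec.map (CommRingCat.ofHom (algebraMap B B')))).obj Y ⟶ X'))
    (he : ∀ (Y Z : Over (Spec (CommRingCat.of B))) (h : Y ⟶ Z) (g : Z ⟶ R),
      e Y (h ≫ g) = (Over.pullback (Spec.map (CommRingCat.ofHom (algebraMap B B')))).map h ≫ e Z g) :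
    IsIso ((e (specOver W)).symm (ofPoint hC W u)) := by
  set m := (e (specOver W)).symm (ofPoint hC W u)
  have base : ∀ (A : Type u) [CommRing A] [Algebra B A],
      Function.Bijective (fun a : specOver (B := B) A ⟶ specOver W => a ≫ m) := by
    intro A _ _
    have hcomp : ∀ φ : W →ₐ[B] A, e _ (specHom φ ≫ m) = ofPoint hC A ((mapId φ).comp u) := by
      intro φ
      rw [he, Equiv.apply_symm_apply, map_specHom_ofPoint]
    constructor
    · intro a a' h
      obtain ⟨φ, rfl⟩ := (specHom_bijective W A).2 a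
      obtain ⟨φ', rfl⟩ := (specHom_bijective W A).2 a'
      have h' := congrArg (e _) h
      simp only [hcomp] at h'
      have h'' := ofPoint_injective hC A h'
      rw [(hu A ((mapId φ).comp u)).unique rfl h''.symm]
    · intro b
      obtain ⟨ψ, hψ⟩ := ofPoint_surjective hC A (e _ b)
      obtain ⟨φ, hφ, -⟩ := hu A ψ
      refine ⟨specHom φ, (e _).injective ?_⟩
      show e _ (specHom φ ≫ m) = e _ b
      rw [hcomp, hφ, hψ]
  refine isIso_of_bijective_affine m fun T hT => ?_
  let α : CommRingCat.of B ⟶ Γ(T.left, ⊤) := Spec.preimage (T.left.isoSpec.inv ≫ T.hom)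
  have hα : Spec.map α = T.left.isoSpec.inv ≫ T.hom := Spec.map_preimage _
  letI : Algebra B Γ(T.left, ⊤) := α.hom.toAlgebra
  let i : specOver (B := B) Γ(T.left, ⊤) ≅ T := Over.isoMk T.left.isoSpec.symm (by
    show T.left.isoSpec.inv ≫ T.hom = Spec.map (CommRingCat.ofHom α.hom)
    exact hα.symm)
  constructor
  · intro a a' h
    rw [← cancel_epi i.hom]
    apply (base _).1
    show (i.hom ≫ a) ≫ m = (i.hom ≫ a') ≫ m
    rw [Category.assoc, Category.assoc, show a ≫ m = a' ≫ m from h]
  · intro b
    obtain ⟨c, hc⟩ := (base _).2 (i.hom ≫ b)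
    refine ⟨i.inv ≫ c, ?_⟩
    show (i.inv ≫ c) ≫ m = b
    rw [Category.assoc, show c ≫ m = i.hom ≫ b from hc, Iso.inv_hom_id_assoc]

end

end Groth.Agent.AGF80.WeilRep
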