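import Groth.Agent.AGF80.BorelCor
import Groth.Agent.AlgGrp79.CentTorus

/-!
Images and preimages of Borel and parabolic subgroups over an algebraically closed field; Borel
subgroups of centralizers of tori.
-/

set_option autoImplicit false
set_option linter.unusedSectionVars false
set_option linter.style.haveILetI false
set_option backward.isDefEq.respectTransparency.types false

universe u

open CategoryTheory MonoidalCategory CartesianMonoidalCategory MonObj GrpObj AlgebraicGeometry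
open scoped Pointwise

noncomputable section

namespace Groth.Agent.AGF80.BorelCor

open AlgGrp79

variable {k : Type u} [Field k] [IsAlgClosed k]

/-- The reduced image of a homomorphism. -/
theorem exists_image {U H : Over (Spec (CommRingCat.of k))} [GrpObj U] [GrpObj H] [LocallyOfFiniteType U.hom]
    [QuasiCompact U.hom] [IsReduced U.left] [LocallyOfFiniteType H.hom] (φ : U ⟶ H) [IsMonHom φ] :
    ∃ (V : Over (Spec (CommRingCat.of k))) (_ : GrpObj V) (i : V ⟶ H) (p : U ⟶ V), IsMonHom i ∧ IsMonHom p ∧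
      IsClosedImmersion i.left ∧ IsReduced V.left ∧ Surjective p.left ∧ p ≫ i = φ := by
  have := isSeparated_grp H
  have : QuasiCompact (φ.left ≫ H.hom) := by rw [Over.w]; infer_instance
  have : QuasiCompact φ.left := QuasiCompact.of_comp φ.left H.hom
  let V : Over (Spec (CommRingCat.of k)) := Over.mk (φ.left.imageι ≫ H.hom)
  let i : V ⟶ H := Over.homMk φ.left.imageι rfl
  let p : U ⟶ V := Over.homMk φ.left.toImage (by
    show φ.left.toImage ≫ φ.left.imageι ≫ H.hom = U.hom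
    rw [Scheme.Hom.toImage_imageι_assoc, Over.w])
  have hpi : p ≫ i = φ := Over.OverMorphism.ext φ.left.toImage_imageι
  have : IsClosedImmersion i.left := inferInstanceAs (IsClosedImmersion φ.left.imageι)
  have := Over.mono_of_mono_left i
  have : IsSchemeTheoreticallyDominant p.left := schDominant_toImage φ.left
  have : QuasiCompact p.left := inferInstanceAs (QuasiCompact φ.left.toImage)
  have : IsDominant p.left := inferInstanceAs (IsDominant φ.left.toImage)
  have hV := closed_of_dominant φ i p hpi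
  obtain ⟨hVg, him⟩ := exists_grpObj_closed i hV.1 hV.2
  have : LocallyOfFiniteType V.hom := by rw [← Over.w i]; infer_instance
  have hpm : IsMonHom p := isMonHom_factor p i φ hpi
  exact ⟨V, hVg, i, p, him, hpm, inferInstance, IsSchemeTheoreticallyDominant.isReduced p.left,
    surjective_of_dominant_hom p, hpi⟩

variable {G : Over (Spec (CommRingCat.of k))} [GrpObj G] [IsAffine G.left] [Smooth G.hom] [ConnectedSpace G.left]
variable {Q : Over (Spec (CommRingCat.of k))} [GrpObj Q] [IsAffine Q.left] [Smooth Q.hom] [ConnectedSpace Q.left]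

/-- Every Borel subgroup maps onto a Borel subgroup. -/
theorem exists_borel_image (q : G ⟶ Q) [IsMonHom q] [Surjective q.left] {B : Over (Spec (CommRingCat.of k))} [GrpObj B]
    {iB : B ⟶ G} (hB : Red.IsBorelOver k iB) :
    ∃ (V : Over (Spec (CommRingCat.of k))) (_ : GrpObj V) (i : V ⟶ Q) (p : B ⟶ V),
      Red.IsBorelOver k i ∧ Surjective p.left ∧ p ≫ i = iB ≫ q := by
  obtain ⟨_, _, _, _, -, -⟩ := id hB
  haveI : IsAffine B.left := isAffine_of_isAffineHom iB.left
  haveI : IsReduced B.left := isReduced_of_smooth B.hom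
  obtain ⟨V, _, i, p, _, _, _, _, hps, hp⟩ := exists_image (iB ≫ q)
  haveI := hps
  exact ⟨V, inferInstance, i, p, BorelImage.isBorelOver_image q iB hB i p hp, hps, hp⟩

/-- Every Borel subgroup of the target of a surjection is the image of a Borel subgroup. -/
theorem exists_borel_onto (q : G ⟶ Q) [IsMonHom q] [Surjective q.left] {B' : Over (Spec (CommRingCat.of k))} [GrpObj B']
    {iB' : B' ⟶ Q} (hB' : Red.IsBorelOver k iB') :
    ∃ (B : Over (Spec (CommRingCat.of k))) (_ : GrpObj B) (iB : B ⟶ G) (p : B ⟶ B'),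
      Red.IsBorelOver k iB ∧ Surjective p.left ∧ p ≫ iB' = iB ≫ q := by
  obtain ⟨B, _, iB, hB⟩ := exists_borel G
  obtain ⟨V, _, i, p, hV, hps, hp⟩ := exists_borel_image q hB
  obtain ⟨gQ, e, he⟩ := BorelConj.borel_conj Q V B' i iB' hV hB'
  obtain ⟨g, hg⟩ := BorelImage.exists_pt_lift q gQ
  haveI := hps
  haveI : IsIso e.hom.left := ((Over.forget _).mapIso e).isIso_hom
  refine ⟨B, inferInstance, AGF.conjBy g iB, p ≫ e.hom, BorelOps.isBorelOver_conjBy hB g,
    inferInstanceAs (Surjective (p.left ≫ e.hom.left)), ?_⟩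
  rw [Category.assoc, he, BorelConj.comp_conjBy, hp]
  simp only [AGF.conjBy, MonObj.mul_comp _ _ q, GrpObj.inv_comp, Category.assoc, hg]

/-- The preimage of a parabolic subgroup is parabolic. -/
theorem exists_parabolic_onto (q : G ⟶ Q) [IsMonHom q] [Surjective q.left] {P' : Over (Spec (CommRingCat.of k))}
    [GrpObj P'] {iP' : P' ⟶ Q} (hP' : Red.IsParabolicOver k iP') :
    ∃ (P : Over (Spec (CommRingCat.of k))) (_ : GrpObj P) (iP : P ⟶ G) (p : P ⟶ P'),
      Red.IsParabolicOver k iP ∧ Surjective p.left ∧ p ≫ iP' = iP ≫ q := by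
  obtain ⟨_, _, _, B', _, b', hB'⟩ := hP'
  obtain ⟨B, _, iB, pB, hB, -, hpB⟩ := exists_borel_onto q hB'
  obtain ⟨_, _, _, _, -, -⟩ := id hB
  haveI : IsReduced B.left := isReduced_of_smooth B.hom
  haveI : Mono iP' := Over.mono_of_mono_left iP'
  let W := Limits.pullback q iP'
  let w₁ : W ⟶ G := Limits.pullback.fst q iP'
  let w₂ : W ⟶ P' := Limits.pullback.snd q iP'
  have hw : w₁ ≫ q = w₂ ≫ iP' := Limits.pullback.condition
  have hWp : IsPullback w₁.left w₂.left q.left iP'.left := isPullback_left (IsPullback.of_hasPullback q iP')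
  haveI : IsClosedImmersion w₁.left := MorphismProperty.of_isPullback hWp.flip ‹IsClosedImmersion iP'.left›
  haveI : Surjective w₂.left := MorphismProperty.of_isPullback hWp ‹Surjective q.left›
  haveI := Over.mono_of_mono_left w₁
  obtain ⟨hWg, hw₁⟩ := exists_grpObj_closed w₁
    ⟨Limits.pullback.lift η[G] η[P'] (by rw [IsMonHom.one_hom, IsMonHom.one_hom]), Limits.pullback.lift_fst _ _ _⟩
    fun T a b => ⟨Limits.pullback.lift ((a ≫ w₁)⁻¹ * (b ≫ w₁)) ((a ≫ w₂)⁻¹ * (b ≫ w₂)) (by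
      rw [MonObj.mul_comp _ _ q, MonObj.mul_comp _ _ iP', GrpObj.inv_comp, GrpObj.inv_comp, Category.assoc, Category.assoc,
        hw, Category.assoc, Category.assoc]), Limits.pullback.lift_fst _ _ _⟩
  haveI : LocallyOfFiniteType W.hom := by rw [← Over.w w₁]; infer_instance
  obtain ⟨P, _, r, _, _, hrs, _⟩ := exists_reduced_subgroup W
  haveI := hrs
  haveI : LocallyOfFiniteType P.hom := by rw [← Over.w r]; infer_instance
  obtain ⟨bP, hbP⟩ := exists_factor_of_pts (Limits.pullback.lift iB (pB ≫ b') (by rw [Category.assoc, hpB]) : B ⟶ W) r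
    fun x => by
      obtain ⟨y, hy⟩ := BorelImage.exists_pt_lift r (x ≫ Limits.pullback.lift iB (pB ≫ b') (by rw [Category.assoc, hpB]))
      exact ⟨y, hy⟩
  haveI : IsClosedImmersion (r ≫ w₁).left := inferInstanceAs (IsClosedImmersion (r.left ≫ w₁.left))
  haveI : Surjective (r ≫ w₂).left := inferInstanceAs (Surjective (r.left ≫ w₂.left))
  refine ⟨P, inferInstance, r ≫ w₁, r ≫ w₂, ⟨inferInstance, inferInstance, AlgGrp33.IsogSub.smooth_of_reduced P,
    B, inferInstance, bP, ?_⟩, inferInstance, by rw [Category.assoc, Category.assoc, hw]⟩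
  rw [reassoc_of% hbP, Limits.pullback.lift_fst]
  exact hB

/-- Borel subgroups with images in one Borel subgroup are equal when the kernel lies in a Borel subgroup. -/
theorem borel_eq_of_image_eq (φ : G ⟶ Q) [IsMonHom φ] [Surjective φ.left] {B₀ : Over (Spec (CommRingCat.of k))}
    [GrpObj B₀] {i₀ : B₀ ⟶ G} (h₀ : Red.IsBorelOver k i₀)
    (hker : ∀ (X : Over (Spec (CommRingCat.of k))) (g : X ⟶ G), g ≫ φ = 1 → ∃ b : X ⟶ B₀, b ≫ i₀ = g)
    {B₁ B₂ B' : Over (Spec (CommRingCat.of k))} [GrpObj B₁] [GrpObj B₂] [GrpObj B'] {i₁ : B₁ ⟶ G} {i₂ : B₂ ⟶ G}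
    {i' : B' ⟶ Q} (h₁ : Red.IsBorelOver k i₁) (h₂ : Red.IsBorelOver k i₂) (h' : Red.IsBorelOver k i')
    (f₁ : B₁ ⟶ B') (f₂ : B₂ ⟶ B') (hf₁ : f₁ ≫ i' = i₁ ≫ φ) (hf₂ : f₂ ≫ i' = i₂ ≫ φ) :
    ∃ e : B₁ ≅ B₂, e.hom ≫ i₂ = i₁ := by
  obtain ⟨_, _, _, _, -, -⟩ := id h₁
  obtain ⟨_, _, _, _, -, -⟩ := id h₂
  obtain ⟨_, _, _, _, -, -⟩ := id h'
  obtain ⟨V, _, iV, pV, hV, hVs, hpV⟩ := exists_borel_image φ h₁
  obtain ⟨_, _, _, _, -, -⟩ := id hV
  haveI := hVs
  haveI : IsReduced V.left := isReduced_of_smooth V.hom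
  obtain ⟨v, hv⟩ := exists_factor_of_pts iV i' fun p => by
    obtain ⟨a, ha⟩ := BorelImage.exists_pt_lift pV p
    exact ⟨a ≫ f₁, by rw [Category.assoc, hf₁, ← hpV, reassoc_of% ha]⟩
  haveI := borel_le Q hV h' v hv
  obtain ⟨g, f, hf⟩ := BorelConj.borel_conj G B₀ B₁ i₀ i₁ h₀ h₁
  haveI : IsReduced B₂.left := isReduced_of_smooth B₂.hom
  obtain ⟨w, hw⟩ := exists_factor_of_pts i₂ i₁ fun p => by
    obtain ⟨a, ha⟩ := BorelImage.exists_pt_lift pV (p ≫ f₂ ≫ inv v)
    have haφ : a ≫ i₁ ≫ φ = p ≫ i₂ ≫ φ := by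
      rw [← hpV, reassoc_of% ha, ← hv, IsIso.inv_hom_id_assoc, hf₂]
    let x := (a ≫ i₁)⁻¹ * (p ≫ i₂)
    obtain ⟨b, hb⟩ := hker (𝟙_ (Over (Spec (CommRingCat.of k)))) (g⁻¹ * x * g) (by
      simp only [x, MonObj.mul_comp _ _ φ, GrpObj.inv_comp, Category.assoc, haφ, inv_mul_cancel, _root_.mul_one])
    refine ⟨a * (b ≫ f.hom), ?_⟩
    rw [MonObj.mul_comp _ _ i₁, Category.assoc, hf, BorelConj.comp_conjBy, hb, AGF.conjBy,
      toUnit_unique (toUnit (𝟙_ (Over (Spec (CommRingCat.of k))))) (𝟙 _), Category.id_comp]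
    simp only [x]
    group
  haveI := borel_le G h₂ h₁ w hw
  exact ⟨(asIso w).symm, by rw [Iso.symm_hom, asIso_inv, IsIso.inv_comp_eq, hw]⟩

/-- No other Borel subgroup lies in the normalizer of a Borel subgroup. -/
theorem borel_unique_in_normalizer {B B' N : Over (Spec (CommRingCat.of k))} [GrpObj B] [GrpObj B'] [GrpObj N]
    {iB : B ⟶ G} {iB' : B' ⟶ G} (hB : Red.IsBorelOver k iB) (hB' : Red.IsBorelOver k iB')
    {n : N ⟶ G} (hn : Red.IsNormalizerOf iB n) (j : B' ⟶ N) (hj : j ≫ n = iB') :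
    ∃ f : B' ≅ B, f.hom ≫ iB = iB' := by
  obtain ⟨_, _, _, _, ⟨m, hm⟩, -⟩ := id hB
  obtain ⟨_, _, _, _, ⟨m', hm'⟩, -⟩ := id hB'
  haveI : IsAffine B.left := isAffine_of_isAffineHom iB.left
  haveI : IsAffine B'.left := isAffine_of_isAffineHom iB'.left
  haveI := isReduced_of_smooth B.hom
  haveI := isReduced_of_smooth B'.hom
  haveI := isIntegral_grp B
  haveI := isIntegral_grp B'
  let A : Fam G :=
    { X := B ⊗ B'
      f := (fst B B' ≫ iB) * (snd B B' ≫ iB')
      x := lift 1 1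
      hx := by simp [MonObj.comp_mul, MonObj.one_comp]
      red := reduced_prod B B'
      irr := irreducible_prod B B'
      lft := lft_prod B B'
      qc := qc_prod B B' }
  obtain ⟨D, _, iD, _, _, _, _, hD⟩ := exists_generated A
  haveI : IsAffine D.left := isAffine_of_isAffineHom iD.left
  haveI : Mono iD := Over.mono_of_mono_left iD
  let pt := 𝟙_ (Over (Spec (CommRingCat.of k)))
  let φ : (pt ⟶ B) →* (pt ⟶ G) := IsMonHom.monoidHom iB pt
  let ψ : (pt ⟶ B') →* (pt ⟶ G) := IsMonHom.monoidHom iB' pt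
  have hnorm : ψ.range ≤ Subgroup.normalizer (φ.range : Set (pt ⟶ G)) := by
    rintro _ ⟨b, rfl⟩
    have h := (hn.2.2 pt (b ≫ iB')).1 ⟨b ≫ j, by rw [Category.assoc, hj]⟩ pt (𝟙 _)
    rw [Subgroup.mem_normalizer_iff]
    intro z
    constructor
    · rintro ⟨c, rfl⟩
      obtain ⟨h', e⟩ := (h c).1
      rw [Category.id_comp] at e
      exact ⟨h', e.symm⟩
    · rintro ⟨c, hc⟩
      obtain ⟨h', e⟩ := (h c).2
      rw [Category.id_comp] at e
      refine ⟨h', ?_⟩
      show h' ≫ iB = z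
      rw [← e, show c ≫ iB = _ from hc]
      show (b ≫ iB')⁻¹ * ((b ≫ iB') * z * (b ≫ iB')⁻¹) * (b ≫ iB') = z
      group
  let H : Subgroup (pt ⟶ G) := φ.range ⊔ ψ.range
  let ιD : (pt ⟶ D) →* (pt ⟶ G) := IsMonHom.monoidHom iD pt
  have hDH : ιD.range = H := by
    refine SetLike.coe_injective (hD.trans (congrArg _ (le_antisymm ((Subgroup.closure_le _).2 ?_) (sup_le ?_ ?_))))
    · rintro _ ⟨p, rfl⟩
      show p ≫ ((fst B B' ≫ iB) * (snd B B' ≫ iB')) ∈ H
      rw [MonObj.comp_mul]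
      refine mul_mem (Subgroup.mem_sup_left ⟨p ≫ fst B B', ?_⟩) (Subgroup.mem_sup_right ⟨p ≫ snd B B', ?_⟩)
      · show (p ≫ fst B B') ≫ iB = p ≫ fst B B' ≫ iB
        exact Category.assoc _ _ _
      · show (p ≫ snd B B') ≫ iB' = p ≫ snd B B' ≫ iB'
        exact Category.assoc _ _ _
    · rintro _ ⟨b, rfl⟩
      exact Subgroup.subset_closure ⟨lift b 1, by simp [A, φ, MonObj.comp_mul, MonObj.one_comp]⟩
    · rintro _ ⟨b, rfl⟩
      exact Subgroup.subset_closure ⟨lift 1 b, by simp [A, ψ, MonObj.comp_mul, MonObj.one_comp]⟩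
  haveI : Group.IsSolvable (pt ⟶ B) := ⟨⟨m, hm _⟩⟩
  haveI : Group.IsSolvable (pt ⟶ B') := ⟨⟨m', hm' _⟩⟩
  have hHN : H ≤ Subgroup.normalizer (φ.range : Set (pt ⟶ G)) := sup_le Subgroup.le_normalizer hnorm
  haveI : (φ.range.subgroupOf H).Normal := Subgroup.normal_subgroupOf_iff_le_normalizer le_sup_left |>.2 hHN
  haveI : Group.IsSolvable φ.range := solvable_of_surjective φ.rangeRestrict_surjective
  haveI : Group.IsSolvable ψ.range := solvable_of_surjective ψ.rangeRestrict_surjective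
  haveI : Group.IsSolvable (φ.range.subgroupOf H) := solvable_of_solvable_injective
    (f := (Subgroup.subgroupOfEquivOfLe (le_sup_left : φ.range ≤ H)).toMonoidHom) (MulEquiv.injective _)
  haveI : Group.IsSolvable (H ⧸ φ.range.subgroupOf H) := by
    refine solvable_of_surjective
      (f := (QuotientGroup.mk' (φ.range.subgroupOf H)).comp (Subgroup.inclusion (le_sup_right : ψ.range ≤ H))) ?_
    intro z
    obtain ⟨⟨z, hz⟩, rfl⟩ := QuotientGroup.mk'_surjective _ z
    have hz' : z ∈ ((φ.range : Subgroup (pt ⟶ G)) : Set (pt ⟶ G)) * (ψ.range : Set (pt ⟶ G)) := by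
      exact (Subgroup.coe_mul_of_right_le_normalizer_left _ _ hnorm).le hz
    obtain ⟨x, hx, y, hy, rfl⟩ := hz'
    refine ⟨⟨y, hy⟩, ?_⟩
    show QuotientGroup.mk _ = QuotientGroup.mk _
    rw [QuotientGroup.eq, Subgroup.mem_subgroupOf]
    have : y⁻¹ * (x * y) = y⁻¹ * x * (y⁻¹)⁻¹ := by group
    show y⁻¹ * (x * y) ∈ φ.range
    rw [this]
    exact ((Subgroup.mem_normalizer_iff).1 (inv_mem (hnorm hy)) x).1 hx
  haveI : Group.IsSolvable H := solvable_of_ker_le_range (φ.range.subgroupOf H).subtype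
    (QuotientGroup.mk' (φ.range.subgroupOf H)) (by rw [QuotientGroup.ker_mk', Subgroup.range_subtype])
  haveI : Group.IsSolvable ιD.range := hDH ▸ ‹Group.IsSolvable H›
  have hinj : Function.Injective ιD := fun p q h => (cancel_mono iD).1 h
  haveI : Group.IsSolvable (pt ⟶ D) := solvable_of_solvable_injective (f := ιD.rangeRestrict)
    ((MonoidHom.rangeRestrict_injective_iff).2 hinj)
  have hsolv := BorelConj.isSolvableGrp_of_pts D
  obtain ⟨fB, hfB⟩ := exists_factor_of_pts iB iD fun p => by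
    obtain ⟨d, hd⟩ := hDH.ge (Subgroup.mem_sup_left ⟨p, rfl⟩)
    exact ⟨d, hd⟩
  obtain ⟨fB', hfB'⟩ := exists_factor_of_pts iB' iD fun p => by
    obtain ⟨d, hd⟩ := hDH.ge (Subgroup.mem_sup_right ⟨p, rfl⟩)
    exact ⟨d, hd⟩
  haveI := hB.2.2.2.2.2 D iD fB inferInstance inferInstance inferInstance hsolv hfB
  haveI := hB'.2.2.2.2.2 D iD fB' inferInstance inferInstance inferInstance hsolv hfB'
  exact ⟨asIso fB' ≪≫ (asIso fB).symm, by simp [← hfB, ← hfB']⟩

/-- Borel subgroups of centralizers of tori come from Borel subgroups. -/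
theorem borel_of_centralizer {T : Over (Spec (CommRingCat.of k))} [GrpObj T] (iT : T ⟶ G) [IsMonHom iT] [Mono iT]
    (hT : Red.IsTorus T) {C : Over (Spec (CommRingCat.of k))} [GrpObj C] {c : C ⟶ G} (hc : Red.IsCentralizerOf iT c)
    {D : Over (Spec (CommRingCat.of k))} [GrpObj D] {dC : D ⟶ C} (hD : Red.IsBorelOver k dC) :
    ∃ (B : Over (Spec (CommRingCat.of k))) (_ : GrpObj B) (iB : B ⟶ G) (t : T ⟶ B) (dB : D ⟶ B),
      Red.IsBorelOver k iB ∧ t ≫ iB = iT ∧ IsPullback dC dB c iB := by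
  obtain ⟨_, _, _⟩ := CentTorus.centralizer_props G iT hT c hc
  obtain ⟨_, _, -⟩ := id hc
  obtain ⟨_, _, _, _, hsD, hmax⟩ := id hD
  haveI : IsAffine C.left := isAffine_of_isAffineHom c.left
  haveI : IsAffine D.left := isAffine_of_isAffineHom dC.left
  obtain ⟨_, _, _, _, _⟩ := AlgGrp33.IsogSub.torus_props hT
  have hcen : ∀ (X : Over (Spec (CommRingCat.of k))) (z : X ⟶ C) (t : X ⟶ T),
      (z ≫ c) * (t ≫ iT) = (t ≫ iT) * (z ≫ c) := fun X z t => by
    simpa using (hc.2.2 X (z ≫ c)).1 ⟨z, rfl⟩ X (𝟙 X) t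
  obtain ⟨tC, htC⟩ := (hc.2.2 T iT).2 fun X' x h => by
    rw [← MonObj.mul_comp _ _ iT, ← MonObj.mul_comp _ _ iT, mul_comm x h]
  haveI := isMonHom_factor tC c iT htC
  haveI : IsClosedImmersion iT.left := isClosedImmersion_torus G hT iT
  haveI : IsClosedImmersion tC.left := by
    haveI : IsClosedImmersion (tC.left ≫ c.left) := by rw [← Over.comp_left, htC]; infer_instance
    exact IsClosedImmersion.of_comp tC.left c.left
  obtain ⟨D₀, _, i₀, f₀, hD₀, hf₀⟩ := exists_borel_ge C tC (isSolvableGrp_torus hT)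
  obtain ⟨g, e, he⟩ := BorelConj.borel_conj C D₀ D i₀ dC hD₀ hD
  have htD : (f₀ ≫ e.hom) ≫ dC = tC := by
    rw [Category.assoc, he, BorelConj.comp_conjBy, hf₀, ← cancel_mono c]
    simp only [AGF.conjBy, MonObj.mul_comp _ _ c, GrpObj.inv_comp, Category.assoc, htC]
    have := hcen T (toUnit T ≫ g) (𝟙 T)
    rw [Category.id_comp, Category.assoc] at this
    rw [this, mul_inv_cancel_right]
  haveI : IsClosedImmersion (dC ≫ c).left := inferInstanceAs (IsClosedImmersion (dC.left ≫ c.left))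
  obtain ⟨B, _, iB, dB, hB, hdB⟩ := exists_borel_ge G (dC ≫ c) hsD
  obtain ⟨_, _, _, _, hsB, -⟩ := id hB
  haveI : IsAffine B.left := isAffine_of_isAffineHom iB.left
  haveI : Mono iB := Over.mono_of_mono_left iB
  let t : T ⟶ B := f₀ ≫ e.hom ≫ dB
  have ht : t ≫ iB = iT := by rw [Category.assoc, Category.assoc, hdB, ← Category.assoc (f := f₀), ← Category.assoc, htD, htC]
  haveI := isMonHom_factor t iB iT ht
  haveI : Mono (t ≫ iB) := by rw [ht]; infer_instance
  haveI : Mono t := mono_of_mono t iB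
  let W := Limits.pullback c iB
  let w₁ : W ⟶ C := Limits.pullback.fst c iB
  let w₂ : W ⟶ B := Limits.pullback.snd c iB
  have hw : w₁ ≫ c = w₂ ≫ iB := Limits.pullback.condition
  have hWp : IsPullback w₁.left w₂.left c.left iB.left := isPullback_left (IsPullback.of_hasPullback c iB)
  haveI : IsClosedImmersion w₂.left := MorphismProperty.of_isPullback hWp ‹IsClosedImmersion c.left›
  haveI : IsClosedImmersion w₁.left := MorphismProperty.of_isPullback hWp.flip ‹IsClosedImmersion iB.left›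
  haveI := Over.mono_of_mono_left w₂
  haveI := Over.mono_of_mono_left w₁
  obtain ⟨hWg, hw₁m⟩ := exists_grpObj_closed w₁
    ⟨Limits.pullback.lift η[C] η[B] (by rw [IsMonHom.one_hom, IsMonHom.one_hom]), Limits.pullback.lift_fst _ _ _⟩
    fun T a b => ⟨Limits.pullback.lift ((a ≫ w₁)⁻¹ * (b ≫ w₁)) ((a ≫ w₂)⁻¹ * (b ≫ w₂)) (by
      rw [MonObj.mul_comp _ _ c, MonObj.mul_comp _ _ iB, GrpObj.inv_comp, GrpObj.inv_comp, Category.assoc, Category.assoc,
        hw, Category.assoc, Category.assoc]), Limits.pullback.lift_fst _ _ _⟩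
  haveI : IsMonHom w₂ := isMonHom_factor w₂ iB (w₁ ≫ c) hw.symm
  have hcent : Red.IsCentralizerOf t w₂ := by
    refine ⟨inferInstance, inferInstance, fun X x => ⟨?_, fun h => ?_⟩⟩
    · rintro ⟨z, rfl⟩ X' u t'
      rw [← cancel_mono iB, MonObj.mul_comp _ _ iB, MonObj.mul_comp _ _ iB]
      simp only [Category.assoc, ht, ← hw]
      simpa only [Category.assoc] using hcen X' (u ≫ z ≫ w₁) t'
    · obtain ⟨z, hz⟩ := (hc.2.2 X (x ≫ iB)).2 fun X' u t' => by
        rw [← ht, ← Category.assoc, ← Category.assoc, ← MonObj.mul_comp _ _ iB, ← MonObj.mul_comp _ _ iB, h X' u t']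
      exact ⟨Limits.pullback.lift z x hz, Limits.pullback.lift_snd _ _ _⟩
  obtain ⟨_, _, _⟩ := CentTorus.centralizer_props B t hT w₂ hcent
  have hsW : Red.IsSolvableGrp W := by
    obtain ⟨n, hn⟩ := hsB
    refine ⟨n, fun X => ?_⟩
    have h := map_derivedSeries_le_derivedSeries (IsMonHom.monoidHom w₂ X) n
    rw [hn X, le_bot_iff] at h
    exact (Subgroup.map_eq_bot_iff_of_injective _ fun a b hab => (cancel_mono w₂).1 hab).1 h
  haveI := hmax W w₁ (Limits.pullback.lift dC dB hdB.symm) inferInstance inferInstance inferInstance hsW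
    (Limits.pullback.lift_fst _ _ _)
  exact ⟨B, inferInstance, iB, t, dB, hB, ht, IsPullback.of_iso_pullback ⟨hdB.symm⟩
    (asIso (Limits.pullback.lift dC dB hdB.symm)) (Limits.pullback.lift_fst _ _ _) (Limits.pullback.lift_snd _ _ _)⟩

end Groth.Agent.AGF80.BorelCor
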