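import Groth.Agent.AlgGrp79.DenseConj
import Groth.Agent.AlgGrp79.BorelTori
import Groth.Agent.AGF80.BorelCor

/-!
Conjugates of a Cartan subgroup contain an open set.
-/

set_option autoImplicit false
set_option linter.unusedSectionVars false
set_option linter.style.haveILetI false
set_option backward.isDefEq.respectTransparency.types false

universe u

open CategoryTheory MonoidalCategory CartesianMonoidalCategory MonObj GrpObj AlgebraicGeometry
open scoped TensorProduct
open WithConv Groth.Agent.GMod80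

noncomputable section

namespace Groth.Agent.AGF80.CartanDense

open Comod33 AlgGrp79

variable {k : Type u} [Field k] [IsAlgClosed k]

local notation "pk" => 𝟙_ (Over (Spec (CommRingCat.of k)))

/-- The conjugates of a Cartan subgroup contain a nonempty open set. -/
theorem exists_open (G : Over (Spec (CommRingCat.of k))) [GrpObj G] [IsAffine G.left] [Smooth G.hom] [ConnectedSpace G.left]
    {T : Over (Spec (CommRingCat.of k))} [GrpObj T] {iT : T ⟶ G} (hT : AGF.IsMaxTorus iT)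
    {C : Over (Spec (CommRingCat.of k))} [GrpObj C] {c : C ⟶ G} (hc : Red.IsCentralizerOf iT c) :
    ∃ U : G.left.Opens, (U : Set ↥G.left).Nonempty ∧
      (U : Set ↥G.left) ⊆ Set.range (fst G C * (snd G C ≫ c) * (fst G C)⁻¹).left.base := by
  classical
  obtain ⟨_, _, hTt, -⟩ := id hT
  obtain ⟨hCs, hCcl, hCc⟩ := CentTorus.centralizer_props G iT hTt c hc
  haveI := hCs
  haveI := hCcl
  haveI := hCc
  obtain ⟨_, _, hciff⟩ := id hc
  haveI : IsAffine C.left := isAffine_of_isAffineHom c.left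
  haveI : QuasiCompact C.hom := inferInstance
  haveI : IsSeparated G.hom := inferInstance
  obtain ⟨hTs, _, hTa, _, hTc⟩ := AlgGrp33.IsogSub.torus_props hTt
  haveI := hTs
  haveI := hTa
  haveI := hTc
  haveI : IsReduced T.left := isReduced_of_smooth T.hom
  obtain ⟨j, hj⟩ := (hciff T iT).2 fun X' x h => by
    rw [← MonObj.mul_comp, ← MonObj.mul_comp, mul_comm]
  haveI : IsMonHom j := AlgGrp79.isMonHom_of_forall _ fun X s u => by
    rw [← cancel_mono c, MonObj.mul_comp _ _ c, Category.assoc, Category.assoc, Category.assoc, hj, MonObj.mul_comp]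
  have hcentC : ∀ q : pk ⟶ G, (∀ s : pk ⟶ T, q * (s ≫ iT) = (s ≫ iT) * q) → ∃ z : pk ⟶ C, z ≫ c = q := by
    intro q hq
    refine (hciff _ q).2 fun X x u => ?_
    rw [toUnit_unique x (toUnit X)]
    exact BorelTorus.comm_of_pts iT q hq X u
  obtain ⟨X, a, o, h1, -, h3, h4, h5⟩ := QuotSub.exists_quotient G C c
  have hX : AGF.IsQuotient c X a o := ⟨h1, h3, h4, h5⟩
  haveI : Surjective (a.orbitMap o).left := h4
  haveI : LocallyOfFiniteType X.hom := h1
  obtain ⟨A, _, _, ψ, _⟩ := exists_coord G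
  obtain ⟨A', _, _, ψC, _⟩ := exists_coord C
  obtain ⟨D, _, _, ψT, _⟩ := exists_coord T
  haveI : Algebra.FiniteType k A := GMod80.finiteType ψ
  haveI : Algebra.FiniteType k A' := GMod80.finiteType ψC
  haveI : Algebra.FiniteType k D := GMod80.finiteType ψT
  haveI : IsDomain D := by
    haveI := Hopf35.TorDom.isDomain_tensor ψT hTt k
    exact (Algebra.TensorProduct.lid k D).symm.toMulEquiv.isDomain _
  have hD : HopfRep.IsDiagonalizable k D := by
    obtain ⟨hco, hprim⟩ := (Groth.Agent.S7979.result k D).1 (AlgGrp33.isDiagonalizable_of_isTorus ψT hTt)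
    haveI := hco
    exact Comod33.Diag.isDiagonalizable_of_no_prim fun x hx => hprim x hx
  let τ := pullBialg ψ ψT iT
  have hev : ∀ s, ToriConj.ev ψT s ≫ iT = ToriConj.ev ψ (HopfFlat.restrPts τ s) := CentTorus.ev_comp ψ ψT iT
  have hevC : ∀ s, ToriConj.ev ψC s ≫ c = ToriConj.ev ψ (HopfFlat.restrPts (pullBialg ψ ψC c) s) :=
    CentTorus.ev_comp ψ ψC c
  obtain ⟨V, _, _, cV, hV, v, hstab⟩ := FiniteFixed.exists_stab (pullBialg ψ ψC c) (pull_surjective ψ ψC c)
  letI cV' : HopfRep.Comod k D V := push τ.toCoalgHom cV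
  have hact : ∀ s : Conn.Pt k D, actHom k D V s = actHom k A V (HopfFlat.restrPts τ s) := fun s =>
    LinearMap.ext fun w => dact_push τ.toCoalgHom cV s.ofConv.toLinearMap w
  obtain ⟨t₀, ht₀⟩ := FiniteFixed.exists_regular hD V
  obtain ⟨ℓ, N, -, -, hF, hdet⟩ := FiniteFixed.exists_finite_detect hD τ
  let m := ℓ ^ N
  refine AlgGrp79.DenseConj.exists_open G C c X a o hX (ToriConj.ev ψT t₀ ≫ j) ?_
  have hreg : ∀ x ∈ {x : pk ⟶ X | lift ((ToriConj.ev ψT t₀ ≫ j) ≫ c) x ≫ a.act = x},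
      ∃ n : pk ⟶ G, n ≫ a.orbitMap o = x ∧ ∀ s : pk ⟶ T, ∃ s' : pk ⟶ T, n * (s ≫ iT) * n⁻¹ = s' ≫ iT := by
    intro x hx
    obtain ⟨g, hg⟩ := BorelImage.exists_pt_lift (a.orbitMap o) x
    obtain ⟨gm, hgm⟩ := ToriConj.ev_surjective ψ g
    have e : g ≫ a.orbitMap o = (((ToriConj.ev ψT t₀ ≫ j) ≫ c) * g) ≫ a.orbitMap o := by
      rw [AGF80.Orbit.comp_orbitMap_mul, hg]; exact hx.symm
    obtain ⟨h, hh⟩ := (QuotTrans.coset_iff hX _ _).1 e
    obtain ⟨h', hh'⟩ := ToriConj.ev_surjective ψC h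
    rw [Category.assoc (ToriConj.ev ψT t₀) j c, hj, hev, ← hgm, ← hh', hevC, ← map_mul, ← map_mul] at hh
    have hh2 : gm⁻¹ * HopfFlat.restrPts τ t₀ * gm = HopfFlat.restrPts (pullBialg ψ ψC c) h' := by
      rw [_root_.mul_assoc, ← ToriConj.ev_injective ψ hh, inv_mul_cancel_left]
    obtain ⟨e₀, hc0⟩ := (hstab _).1 ⟨h', hh2.symm⟩
    have hw : actHom k D V t₀ (actHom k A V gm v) = e₀ • actHom k A V gm v := by
      have h1 := congrArg (actHom k A V gm) hc0
      rw [map_smul, ← Module.End.mul_apply, ← map_mul, show gm * (gm⁻¹ * HopfFlat.restrPts τ t₀ * gm) =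
        HopfFlat.restrPts τ t₀ * gm by group, map_mul, Module.End.mul_apply] at h1
      rw [hact]
      exact h1
    -- the conjugate torus lies in C, hence is T
    obtain ⟨l, hl⟩ := BorelCor.exists_factor_of_pts (AGF.conjBy g⁻¹ iT) c fun s => by
      obtain ⟨s', rfl⟩ := ToriConj.ev_surjective ψT s
      obtain ⟨c', hc'⟩ := ht₀ _ ⟨e₀, hw⟩ s'
      obtain ⟨r, hr⟩ := (hstab (gm⁻¹ * HopfFlat.restrPts τ s' * gm)).2 ⟨c', by
        rw [map_mul, map_mul, Module.End.mul_apply, Module.End.mul_apply, ← hact, hc', map_smul,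
          ← Module.End.mul_apply, ← map_mul, inv_mul_cancel, map_one]
        rfl⟩
      refine ⟨ToriConj.ev ψC r, ?_⟩
      rw [BorelTori.pt_comp_conjBy, _root_.inv_inv, hev, hevC, hr, ← hgm, map_mul, map_mul, map_inv]
    have hl' : AGF.IsMaxTorus l := BorelCor.isMaxTorus_of_factor (BorelCor.isMaxTorus_conjBy hT g⁻¹) c l hl
    have hj' : AGF.IsMaxTorus j := BorelCor.isMaxTorus_of_factor hT c j hj
    obtain ⟨b, f, hf⟩ := ToriConj.maxTorus_conj C T T l j hl' hj'
    have hbfix : AGF.conjBy (b ≫ c)⁻¹ iT = iT := BorelTori.conjBy_eq_of_comm _ iT fun s => by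
      have h := (hciff _ (b ≫ c)).1 ⟨b, rfl⟩ pk (𝟙 _) s
      rw [Category.id_comp] at h
      exact (Commute.inv_left h).eq
    have hkey : f.hom ≫ iT = AGF.conjBy g⁻¹ iT := by
      have e1 : f.hom ≫ iT = AGF.conjBy (b ≫ c) (AGF.conjBy g⁻¹ iT) := by
        rw [← hl]
        conv_lhs => rw [← hj, ← Category.assoc, hf]
        simp only [AGF.conjBy, MonObj.mul_comp, GrpObj.inv_comp, Category.assoc]
      rw [← BorelConj.conjBy_one (AGF.conjBy g⁻¹ iT), ← inv_mul_cancel (b ≫ c), ← BorelConj.conjBy_conjBy, ← e1,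
        ← BorelConj.comp_conjBy, hbfix]
    refine ⟨g, hg, fun s => ⟨s ≫ f.inv, ?_⟩⟩
    have h2 := (s ≫ f.inv) ≫= hkey
    rw [Category.assoc, Iso.inv_hom_id_assoc, BorelTori.pt_comp_conjBy, _root_.inv_inv] at h2
    rw [h2]
    group
  choose! n hn hnN using hreg
  choose! act' hact' using hnN
  let F := {s : Conn.Pt k D | s ^ m = 1}
  haveI : Finite F := hF.to_subtype
  refine (Set.Finite.of_finite_image (f := fun x (s : F) => act' x (ToriConj.ev ψT s.1) ≫ iT) ?_ ?_)
  · refine (Set.Finite.pi (t := fun _ : F => (fun s => ToriConj.ev ψT s ≫ iT) '' F) fun _ => hF.image _).subset ?_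
    rintro _ ⟨x, hx, rfl⟩ s -
    obtain ⟨r, hr⟩ := ToriConj.ev_surjective ψT (act' x (ToriConj.ev ψT s.1))
    refine ⟨r, ?_, by show ToriConj.ev ψT r ≫ iT = _; rw [hr]⟩
    show r ^ m = 1
    refine ToriConj.ev_injective ψT ?_
    have hinj : Function.Injective fun u : pk ⟶ T => u ≫ iT := fun u v h => (cancel_mono iT).1 h
    refine hinj ?_
    let Φ : (pk ⟶ T) →* (pk ⟶ G) := MonoidHom.mk' (fun u => u ≫ iT) fun u v => MonObj.mul_comp u v iT
    show Φ (ToriConj.ev ψT (r ^ m)) = Φ (ToriConj.ev ψT 1)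
    rw [map_pow, map_pow, map_one, map_one, hr]
    show (act' x (ToriConj.ev ψT s.1) ≫ iT) ^ m = 1
    rw [← hact' x hx, conj_pow,
      show (ToriConj.ev ψT s.1 ≫ iT) ^ m = Φ (ToriConj.ev ψT s.1) ^ m from rfl, ← map_pow, ← map_pow,
      show s.1 ^ m = 1 from s.2, map_one, map_one, _root_.mul_one, mul_inv_cancel]
  · intro x hx y hy hxy
    obtain ⟨gm, hgm⟩ := ToriConj.ev_surjective ψ ((n y)⁻¹ * n x)
    have hcomm : ∀ s, HopfFlat.restrPts τ s * gm = gm * HopfFlat.restrPts τ s := hdet gm fun s hs => by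
      refine ToriConj.ev_injective ψ ?_
      rw [map_mul, map_mul, hgm, ← hev]
      have h1 := hact' x hx (ToriConj.ev ψT s)
      have h2 := hact' y hy (ToriConj.ev ψT s)
      have h3 : act' x (ToriConj.ev ψT s) ≫ iT = act' y (ToriConj.ev ψT s) ≫ iT := congrFun hxy ⟨s, hs⟩
      rw [← h1, ← h2] at h3
      calc (ToriConj.ev ψT s ≫ iT) * ((n y)⁻¹ * n x)
          = (n y)⁻¹ * (n y * (ToriConj.ev ψT s ≫ iT) * (n y)⁻¹) * n x := by group
        _ = (n y)⁻¹ * (n x * (ToriConj.ev ψT s ≫ iT) * (n x)⁻¹) * n x := by rw [h3]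
        _ = (n y)⁻¹ * n x * (ToriConj.ev ψT s ≫ iT) := by group
    obtain ⟨b, hb⟩ := hcentC ((n y)⁻¹ * n x) fun s => by
      obtain ⟨s', rfl⟩ := ToriConj.ev_surjective ψT s
      rw [hev, ← hgm, ← map_mul, ← map_mul, hcomm]
    rw [← hn x hx, ← hn y hy]
    exact ((QuotTrans.coset_iff hX _ _).2 ⟨b, by rw [hb, mul_inv_cancel_left]⟩).symm

/-- Points of an open set are conjugate into the Cartan subgroup. -/
theorem exists_open_pts (G : Over (Spec (CommRingCat.of k))) [GrpObj G] [IsAffine G.left] [Smooth G.hom] [ConnectedSpace G.left]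
    {T : Over (Spec (CommRingCat.of k))} [GrpObj T] {iT : T ⟶ G} (hT : AGF.IsMaxTorus iT)
    {C : Over (Spec (CommRingCat.of k))} [GrpObj C] {c : C ⟶ G} (hc : Red.IsCentralizerOf iT c) :
    ∃ U : G.left.Opens, (U : Set ↥G.left).Nonempty ∧
      ∀ x : pk ⟶ G, x.left.base (IsLocalRing.closedPoint k) ∈ U →
        ∃ (g : pk ⟶ G) (y : pk ⟶ C), g * (y ≫ c) * g⁻¹ = x := by
  obtain ⟨U, hU, hsub⟩ := exists_open G hT hc
  obtain ⟨_, _, hTt, -⟩ := id hT
  obtain ⟨hCs, hCcl, -⟩ := CentTorus.centralizer_props G iT hTt c hc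
  haveI := hCs
  haveI := hCcl
  haveI : IsAffine C.left := isAffine_of_isAffineHom c.left
  haveI : Smooth (G ⊗ C).hom := inferInstanceAs (Smooth (Limits.pullback.fst G.hom C.hom ≫ G.hom))
  refine ⟨U, hU, fun x hx => ?_⟩
  let φ : G ⊗ C ⟶ G := fst G C * (snd G C ≫ c) * (fst G C)⁻¹
  let P := Limits.pullback φ x
  obtain ⟨q, hq⟩ := hsub hx
  haveI : Nonempty P.left := by
    obtain ⟨T', u, v, t, huv, -, -⟩ := OrbitClosure.exists_common φ x q (IsLocalRing.closedPoint k) hq
    exact ⟨(Limits.pullback.lift u v huv).left t⟩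
  haveI : LocallyOfFiniteType (Limits.pullback.fst φ x : P ⟶ G ⊗ C).left := by
    haveI := BorelFixed.rat_isClosedImmersion x
    have hsq := (IsPullback.of_hasPullback φ x).map (Over.forget _)
    exact MorphismProperty.of_isPullback hsq.flip (show LocallyOfFiniteType x.left from inferInstance)
  haveI : LocallyOfFiniteType P.hom := by rw [← Over.w (Limits.pullback.fst φ x : P ⟶ G ⊗ C)]; infer_instance
  haveI := LocallyOfFiniteType.jacobsonSpace P.hom
  obtain ⟨z, -, hz⟩ := nonempty_inter_closedPoints (Z := (Set.univ : Set P.left)) Set.univ_nonempty isOpen_univ.isLocallyClosed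
  let s : pk ⟶ P := Over.homMk (pointOfClosedPoint P.hom z hz) (pointOfClosedPoint_comp _ _ _)
  let p := s ≫ Limits.pullback.fst φ x
  have hp : p ≫ φ = x := by
    rw [Category.assoc, Limits.pullback.condition, ← Category.assoc, toUnit_unique (s ≫ Limits.pullback.snd φ x) (𝟙 _), Category.id_comp]
  refine ⟨p ≫ fst G C, p ≫ snd G C, ?_⟩
  rw [← hp]
  simp only [φ, MonObj.comp_mul, GrpObj.comp_inv, Category.assoc]

end Groth.Agent.AGF80.CartanDense
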