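import Groth.Agent.AGF80.GeomSub
import Groth.Agent.AlgGrp79.CentralTorus
import Groth.Agent.S3267

/-!
Borel subgroups contain centralizers of their maximal tori; parabolic subgroups and quotients under
base change.
-/

set_option autoImplicit false
set_option linter.unusedSectionVars false
set_option linter.style.haveILetI false
set_option backward.isDefEq.respectTransparency.types false

universe u

open CategoryTheory MonoidalCategory CartesianMonoidalCategory MonObj GrpObj AlgebraicGeometry
open Groth.Agent.GMod80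

noncomputable section

namespace Groth.Agent.AGF80.Descend

open AlgGrp79

section AlgClosed

variable {k : Type u} [Field k] [IsAlgClosed k]
variable {G : Over (Spec (CommRingCat.of k))} [GrpObj G] [IsAffine G.left] [Smooth G.hom] [ConnectedSpace G.left]

/-- The centralizer of a maximal torus lies in every Borel subgroup containing the torus. -/
theorem centralizer_le_borel {T C B : Over (Spec (CommRingCat.of k))} [GrpObj T] [GrpObj C] [GrpObj B] {iT : T ⟶ G}
    (hT : AGF.IsMaxTorus iT) {c : C ⟶ G} (hc : Red.IsCentralizerOf iT c) {iB : B ⟶ G} (hB : Red.IsBorelOver k iB)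
    (t : T ⟶ B) (ht : t ≫ iB = iT) : ∃ f : C ⟶ B, f ≫ iB = c := by
  obtain ⟨_, _, hTt, -⟩ := id hT
  obtain ⟨_, _, _⟩ := CentTorus.centralizer_props G iT hTt c hc
  obtain ⟨_, _, -⟩ := id hc
  haveI : IsAffine C.left := isAffine_of_isAffineHom c.left
  haveI : IsReduced C.left := isReduced_of_smooth C.hom
  obtain ⟨_, _, _, _, _⟩ := AlgGrp33.IsogSub.torus_props hTt
  have hcen : ∀ (X : Over (Spec (CommRingCat.of k))) (z : X ⟶ C) (s : X ⟶ T),
      (z ≫ c) * (s ≫ iT) = (s ≫ iT) * (z ≫ c) := fun X z s => by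
    simpa using (hc.2.2 X (z ≫ c)).1 ⟨z, rfl⟩ X (𝟙 X) s
  obtain ⟨tC, htC⟩ := (hc.2.2 T iT).2 fun X' x h => by
    rw [← MonObj.mul_comp _ _ iT, ← MonObj.mul_comp _ _ iT, mul_comm x h]
  have hTC := BorelCor.isMaxTorus_of_factor hT c tC htC
  obtain ⟨A, _, _, ψ, _⟩ := exists_coord C
  haveI : Algebra.FiniteType k A := finiteType ψ
  have htrig := CentralTorus.isTrigonalizable_of_central C ψ tC hTC fun X z s => by
    rw [← cancel_mono c, MonObj.mul_comp _ _ c, MonObj.mul_comp _ _ c, Category.assoc, htC]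
    exact hcen X z s
  haveI := Groth.Agent.S3267.result k A htrig
  haveI : Group.IsSolvable (𝟙_ (Over (Spec (CommRingCat.of k))) ⟶ C) :=
    solvable_of_surjective (f := ToriConj.ev ψ) (ToriConj.ev_surjective ψ)
  obtain ⟨B₀, _, i₀, f₀, hB₀, hf₀⟩ := BorelCor.exists_borel_ge G c (BorelConj.isSolvableGrp_of_pts C)
  obtain ⟨g, f, f', hf, hf'⟩ := BorelCor.borelPair_conj G hB₀ hB hT hT (tC ≫ f₀) (by rw [Category.assoc, hf₀, htC]) t ht
  obtain ⟨w, hw⟩ := (hc.2.2 C (AGF.conjBy g⁻¹ c)).2 fun X x s => by
    have h1 := hcen X x (s ≫ f'.hom)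
    rw [Category.assoc, hf', BorelConj.comp_conjBy] at h1
    rw [BorelConj.comp_conjBy]
    simp only [AGF.conjBy, GrpObj.comp_inv, _root_.inv_inv] at h1 ⊢
    calc ((toUnit X ≫ g)⁻¹ * (x ≫ c) * (toUnit X ≫ g)) * (s ≫ iT)
        = (toUnit X ≫ g)⁻¹ * ((x ≫ c) * ((toUnit X ≫ g) * (s ≫ iT) * (toUnit X ≫ g)⁻¹)) * (toUnit X ≫ g) := by group
      _ = (toUnit X ≫ g)⁻¹ * (((toUnit X ≫ g) * (s ≫ iT) * (toUnit X ≫ g)⁻¹) * (x ≫ c)) * (toUnit X ≫ g) := by rw [h1]
      _ = _ := by group
  refine ⟨w ≫ f₀ ≫ f.hom, ?_⟩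
  rw [Category.assoc, Category.assoc, hf, BorelConj.comp_conjBy, hf₀, BorelConj.comp_conjBy, hw, BorelConj.conjBy_conjBy,
    mul_inv_cancel, BorelConj.conjBy_one]

variable {Q : Over (Spec (CommRingCat.of k))} [GrpObj Q] [IsAffine Q.left] [Smooth Q.hom] [ConnectedSpace Q.left]

/-- The reduced image of a parabolic subgroup is parabolic. -/
theorem isParabolicOver_image (q : G ⟶ Q) [IsMonHom q] [Surjective q.left] {P : Over (Spec (CommRingCat.of k))}
    [GrpObj P] {iP : P ⟶ G} (hP : Red.IsParabolicOver k iP) {P' : Over (Spec (CommRingCat.of k))} [GrpObj P']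
    (iP' : P' ⟶ Q) [IsMonHom iP'] [IsClosedImmersion iP'.left] [IsReduced P'.left] (p : P ⟶ P')
    (hp : p ≫ iP' = iP ≫ q) : Red.IsParabolicOver k iP' := by
  obtain ⟨_, _, _, B, _, b, hB⟩ := hP
  obtain ⟨_, _, _, _, -, -⟩ := id hB
  obtain ⟨V, _, i, pV, hV, hps, hpV⟩ := BorelCor.exists_borel_image q hB
  obtain ⟨_, _, _, _, -, -⟩ := id hV
  haveI := hps
  haveI : IsReduced V.left := isReduced_of_smooth V.hom
  haveI : LocallyOfFiniteType P'.hom := by rw [← Over.w iP']; infer_instance
  obtain ⟨b', hb'⟩ := BorelCor.exists_factor_of_pts i iP' fun x => by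
    obtain ⟨y, hy⟩ := BorelImage.exists_pt_lift pV x
    exact ⟨y ≫ b ≫ p, by rw [← hy, Category.assoc, Category.assoc, Category.assoc, hp, hpV, Category.assoc]⟩
  exact ⟨inferInstance, inferInstance, AlgGrp33.IsogSub.smooth_of_reduced P', V, inferInstance, b', by rw [hb']; exact hV⟩

end AlgClosed

variable {k L : Type u} [Field k] [Field L] (f : Spec (CommRingCat.of L) ⟶ Spec (CommRingCat.of k))

/-- Smoothness is detected after a field extension. -/
theorem smooth_of_bc {H : Over (Spec (CommRingCat.of k))} (h : Smooth (Red.bc f H).hom) : Smooth H.hom := by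
  haveI := GeomSub.flat_spec f
  haveI := GeomSub.surjective_spec f
  haveI : MorphismProperty.DescendsAlong (@Smooth : MorphismProperty Scheme.{u}) Unr55.fpqc.{u} := by infer_instance
  exact MorphismProperty.of_isPullback_of_descendsAlong (P := @Smooth) (Q := Unr55.fpqc.{u})
    (IsPullback.of_hasPullback f H.hom) ⟨⟨inferInstance, inferInstance⟩, inferInstance⟩
    (by rw [← Limits.pullbackSymmetry_hom_comp_snd]; exact MorphismProperty.RespectsIso.precomp @Smooth _ _ h)

/-- A field extension preserves reducedness of a closed image of a smooth scheme. -/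
theorem isReduced_bc_of_surjective {P P' : Over (Spec (CommRingCat.of k))} (p : P ⟶ P') [Surjective p.left]
    [IsReduced P'.left] [IsAffine P.left] [IsAffine P'.left] [Smooth P.hom] : IsReduced (Red.bc f P').left := by
  haveI := GeomSub.flat_spec f
  haveI : Flat (Limits.pullback.fst P'.hom f) := MorphismProperty.pullback_fst _ _ inferInstance
  haveI : IsSchemeTheoreticallyDominant p.left := .of_isDominant p.left
  haveI : IsSchemeTheoreticallyDominant ((Over.pullback f).map p).left :=
    IsSchemeTheoreticallyDominant.of_isPullback (RedPts82.isPullback_bc_map p f)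
  haveI := GeomSub.isAffine_bc f P
  haveI := GeomSub.isAffine_bc f P'
  haveI := GeomSub.smooth_bc f P
  haveI : IsReduced (Red.bc f P).left := isReduced_of_smooth (Red.bc f P).hom
  exact IsSchemeTheoreticallyDominant.isReduced ((Over.pullback f).map p).left

/-- Properness of a quotient is seen after a field extension, whichever quotient is used there. -/
theorem isProper_quotient_bc_iff [IsAlgClosed L] {G P X : Over (Spec (CommRingCat.of k))} [GrpObj G] [GrpObj P]
    [LocallyOfFiniteType G.hom] (iP : P ⟶ G) [IsMonHom iP] {a : AlgGrp.Action G X}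
    {o : 𝟙_ (Over (Spec (CommRingCat.of k))) ⟶ X} (hX : AGF.IsQuotient iP X a o)
    {Y : Over (Spec (CommRingCat.of L))} {b : AlgGrp.Action (Red.bc f G) Y} {y : 𝟙_ (Over (Spec (CommRingCat.of L))) ⟶ Y}
    (hY : AGF.IsQuotient ((Over.pullback f).map iP) Y b y) : IsProper X.hom ↔ IsProper Y.hom := by
  haveI := GeomSub.flat_spec f
  haveI := GeomSub.surjective_spec f
  haveI : LocallyOfFiniteType (Red.bc f G).hom := inferInstanceAs (LocallyOfFiniteType (Limits.pullback.snd G.hom f))
  obtain ⟨h1, h2, h3⟩ := QuotTrans.isCov_orbit hX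
  let π := a.orbitMap o
  have hsq := RedPts82.isPullback_bc_map π f
  have hcov : IsCov ((Over.pullback f).map π) :=
    ⟨MorphismProperty.of_isPullback (P := @Flat) hsq h1, MorphismProperty.of_isPullback (P := @Surjective) hsq h2,
      MorphismProperty.of_isPullback (P := @LocallyOfFinitePresentation) hsq h3⟩
  obtain ⟨e, -⟩ := BorelConj.exists_iso_of_same_fibres hcov (QuotTrans.isCov_orbit hY) fun T s t => by
    rw [QuotTrans.coset_iff hY, ← (RedPts82.toBase_injective (f := f)).eq_iff, RedPts82.toBase_comp_map,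
      RedPts82.toBase_comp_map, QuotTrans.coset_iff hX]
    constructor
    · rintro ⟨d, hd⟩
      refine ⟨RedPts82.ofBase f d, RedPts82.toBase_injective f ?_⟩
      rw [RedPts82.toBase_mul, RedPts82.toBase_comp_map, RedPts82.toBase_ofBase, hd]
    · rintro ⟨d, hd⟩
      refine ⟨RedPts82.toBase f d, ?_⟩
      rw [← RedPts82.toBase_comp_map, ← RedPts82.toBase_mul, hd]
  haveI : IsIso e.hom.left := ((Over.forget _).mapIso e).isIso_hom
  haveI : IsIso e.inv.left := ((Over.forget _).mapIso e).isIso_inv
  constructor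
  · intro _
    haveI : IsProper (Red.bc f X).hom := inferInstanceAs (IsProper (Limits.pullback.snd X.hom f))
    rw [← Over.w e.inv]
    infer_instance
  · intro _
    haveI : IsProper (Red.bc f X).hom := by rw [← Over.w e.hom]; infer_instance
    haveI : MorphismProperty.DescendsAlong (@IsProper : MorphismProperty Scheme.{u}) Unr55.fpqc.{u} := Unr55.isProper
    exact MorphismProperty.of_isPullback_of_descendsAlong (P := @IsProper) (Q := Unr55.fpqc.{u})
      (IsPullback.of_hasPullback f X.hom) ⟨⟨inferInstance, inferInstance⟩, inferInstance⟩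
      (by rw [← Limits.pullbackSymmetry_hom_comp_snd]
          exact MorphismProperty.RespectsIso.precomp @IsProper _ _ (inferInstanceAs (IsProper (Red.bc f X).hom)))

end Groth.Agent.AGF80.Descend
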