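import Groth.Agent.AlgGrp79.CentOrbit
import Groth.Agent.AlgGrp79.BorelTorus
import Groth.Agent.AGF80.BorelCor
import Groth.Agent.AGF80.Descend

/-!
Borel subgroups meet centralizers of their subtori in Borel subgroups.
-/

set_option autoImplicit false
set_option linter.unusedSectionVars false
set_option linter.style.haveILetI false
set_option backward.isDefEq.respectTransparency.types false
set_option synthInstance.maxHeartbeats 200000

universe u

open CategoryTheory MonoidalCategory CartesianMonoidalCategory MonObj GrpObj AlgebraicGeometry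
open scoped TensorProduct
open Groth.Agent.GMod80

noncomputable section

namespace Groth.Agent.AGF80.CentBorelInter

open Comod33 AlgGrp79

variable {k : Type u} [Field k]

local notation "pk" => 𝟙_ (Over (Spec (CommRingCat.of k)))

/-- Over an algebraically closed field, the intersection is a Borel subgroup. -/
theorem isBorelOver_inter [IsAlgClosed k] {G T B C D : Over (Spec (CommRingCat.of k))} [GrpObj G] [GrpObj T] [GrpObj B]
    [GrpObj C] [GrpObj D] [IsAffine G.left] [Smooth G.hom] [ConnectedSpace G.left] (iT : T ⟶ G) [IsMonHom iT] [Mono iT]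
    (hT : Red.IsTorus T) (iB : B ⟶ G) (hB : Red.IsBorelOver k iB) (t : T ⟶ B) (ht : t ≫ iB = iT) (c : C ⟶ G)
    (hc : Red.IsCentralizerOf iT c) (dC : D ⟶ C) [IsMonHom dC] (dB : D ⟶ B) (hD : IsPullback dC dB c iB) :
    Red.IsBorelOver k dC := by
  obtain ⟨hBm, hBcl, hBs, hBc, hsB, -⟩ := id hB
  haveI := hBm; haveI := hBcl; haveI := hBs; haveI := hBc
  haveI : IsAffine B.left := isAffine_of_isAffineHom iB.left
  haveI : Mono iB := Over.mono_of_mono_left iB
  obtain ⟨hCm, hCmono, hciff⟩ := id hc
  haveI := hCm; haveI := hCmono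
  obtain ⟨hCs, hCcl, hCc⟩ := CentTorus.centralizer_props G iT hT c hc
  haveI := hCs; haveI := hCcl; haveI := hCc
  haveI : IsAffine C.left := isAffine_of_isAffineHom c.left
  haveI : IsReduced C.left := isReduced_of_smooth C.hom
  obtain ⟨hTs, _, hTa, _, hTc⟩ := AlgGrp33.IsogSub.torus_props hT
  haveI := hTs; haveI := hTa; haveI := hTc
  haveI : IsReduced T.left := isReduced_of_smooth T.hom
  haveI : IsSeparated G.hom := inferInstance
  haveI := BorelCor.isMonHom_factor t iB iT ht
  haveI : Mono (t ≫ iB) := by rw [ht]; infer_instance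
  haveI : Mono t := mono_of_mono t iB
  have hsq : IsPullback dC.left dB.left c.left iB.left := isPullback_left hD
  haveI : IsClosedImmersion dB.left := MorphismProperty.of_isPullback hsq hCcl
  haveI : IsClosedImmersion dC.left := MorphismProperty.of_isPullback hsq.flip hBcl
  haveI : Mono dB := Over.mono_of_mono_left dB
  haveI : Mono dC := Over.mono_of_mono_left dC
  haveI : IsMonHom dB := BorelCor.isMonHom_factor dB iB (dC ≫ c) hD.w.symm
  have hcent : Red.IsCentralizerOf t dB := by
    refine ⟨inferInstance, inferInstance, fun X x => ⟨?_, fun h => ?_⟩⟩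
    · rintro ⟨z, rfl⟩ X' u h
      rw [← cancel_mono iB, MonObj.mul_comp _ _ iB, MonObj.mul_comp _ _ iB]
      simp only [Category.assoc, ht, ← hD.w]
      simpa only [Category.assoc, Category.id_comp] using (hciff X' ((u ≫ z ≫ dC) ≫ c)).1 ⟨_, rfl⟩ X' (𝟙 _) h
    · obtain ⟨z, hz⟩ := (hciff X (x ≫ iB)).2 fun X' u h' => by
        rw [← ht, ← Category.assoc, ← Category.assoc, ← MonObj.mul_comp _ _ iB, ← MonObj.mul_comp _ _ iB, h X' u h']
      exact ⟨hD.lift z x hz, hD.lift_snd _ _ _⟩
  obtain ⟨hDs, -, hDc⟩ := CentTorus.centralizer_props B t hT dB hcent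
  haveI := hDs; haveI := hDc
  haveI : IsAffine D.left := isAffine_of_isAffineHom dC.left
  haveI : IsReduced D.left := isReduced_of_smooth D.hom
  obtain ⟨A, _, _, ψ, _⟩ := exists_coord G
  obtain ⟨A', _, _, ψB, _⟩ := exists_coord B
  obtain ⟨R, _, _, ψT, _⟩ := exists_coord T
  haveI : Algebra.FiniteType k A := GMod80.finiteType ψ
  haveI : Algebra.FiniteType k A' := GMod80.finiteType ψB
  haveI : Algebra.FiniteType k R := GMod80.finiteType ψT
  haveI : IsDomain R := by
    haveI := Hopf35.TorDom.isDomain_tensor ψT hT k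
    exact (Algebra.TensorProduct.lid k R).symm.toMulEquiv.isDomain _
  have hR : HopfRep.IsDiagonalizable k R := by
    obtain ⟨hco, hprim⟩ := (Groth.Agent.S7979.result k R).1 (AlgGrp33.isDiagonalizable_of_isTorus ψT hT)
    haveI := hco
    exact Comod33.Diag.isDiagonalizable_of_no_prim fun x hx => hprim x hx
  obtain ⟨C', _, z, _, _, _, _, hz, K, _, k', hK', hKpts⟩ :=
    CentOrbit.exists_cent_borel iB hB ψ ψB hR (pullBialg ψB ψT t)
  obtain ⟨_, _, _, _, -, hmax⟩ := id hK'
  haveI : IsAffine C'.left := isAffine_of_isAffineHom z.left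
  haveI : IsReduced C'.left := isReduced_of_smooth C'.hom
  haveI : IsAffine K.left := isAffine_of_isAffineHom k'.left
  haveI : IsReduced K.left := isReduced_of_smooth K.hom
  haveI : Mono z := Over.mono_of_mono_left z
  haveI : IsClosedImmersion k'.left := hK'.2.1
  haveI : Mono k'.left := SurjectiveOnStalks.mono_of_injective k'.left.isEmbedding.injective
  haveI : Mono k' := Over.mono_of_mono_left k'
  have hev : ∀ s, ToriConj.ev ψT s ≫ t = ToriConj.ev ψB (HopfFlat.restrPts (pullBialg ψB ψT t) s) :=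
    CentTorus.ev_comp ψB ψT t
  have hpts : ∀ p : pk ⟶ G, (∃ q : pk ⟶ C', q ≫ z = p) ↔ ∃ q : pk ⟶ C, q ≫ c = p := by
    intro p
    rw [hz, hciff]
    constructor
    · intro h X' x u
      rw [toUnit_unique x (toUnit X')]
      exact BorelTorus.comm_of_pts iT p (fun s => by
        obtain ⟨s', rfl⟩ := ToriConj.ev_surjective ψT s
        rw [← ht, ← Category.assoc, hev]
        exact (h s').symm) X' u
    · intro h s
      have h1 := h pk (𝟙 _) (ToriConj.ev ψT s)
      rw [Category.id_comp, ← ht, ← Category.assoc, hev] at h1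
      exact h1.symm
  obtain ⟨e₁, he₁⟩ := BorelCor.exists_factor_of_pts z c fun p => (hpts _).1 ⟨p, rfl⟩
  obtain ⟨e₂, he₂⟩ := BorelCor.exists_factor_of_pts c z fun p => (hpts _).2 ⟨p, rfl⟩
  let e : C ≅ C' := ⟨e₂, e₁, by rw [← cancel_mono c, Category.assoc, he₁, he₂, Category.id_comp],
    by rw [← cancel_mono z, Category.assoc, he₂, he₁, Category.id_comp]⟩
  haveI : IsMonHom e.hom := BorelCor.isMonHom_factor e.hom z c he₂
  haveI : IsIso e.hom.left := ((Over.forget _).mapIso e).isIso_hom
  obtain ⟨φ, hφ⟩ := BorelCor.exists_factor_of_pts (k' ≫ e.inv) dC fun r => by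
    obtain ⟨b, hb⟩ := (hKpts (r ≫ k')).1 ⟨r, rfl⟩
    have hw : (r ≫ k' ≫ e.inv) ≫ c = b ≫ iB := by
      rw [hb]; simp only [Category.assoc]; rw [show e.inv ≫ c = z from he₁]
    exact ⟨hD.lift _ b hw, hD.lift_fst _ _ _⟩
  obtain ⟨φ', hφ'⟩ := BorelCor.exists_factor_of_pts (dC ≫ e.hom) k' fun d =>
    (hKpts _).2 ⟨d ≫ dB, by
      rw [Category.assoc, ← hD.w]
      simp only [Category.assoc]
      rw [show e.hom ≫ z = c from he₂]⟩
  haveI : IsIso φ := ⟨φ', by rw [← cancel_mono k', Category.assoc, hφ', ← Category.assoc, hφ, Category.assoc, e.inv_hom_id,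
      Category.comp_id, Category.id_comp],
    by rw [← cancel_mono dC, Category.assoc, hφ, ← Category.assoc, hφ', Category.assoc, e.hom_inv_id, Category.comp_id,
      Category.id_comp]⟩
  have hsD : Red.IsSolvableGrp D := by
    obtain ⟨n, hn⟩ := hsB
    refine ⟨n, fun X => ?_⟩
    have h := map_derivedSeries_le_derivedSeries (IsMonHom.monoidHom dB X) n
    rw [hn X, le_bot_iff] at h
    exact (Subgroup.map_eq_bot_iff_of_injective _ fun a b hab => (cancel_mono dB).1 hab).1 h
  refine ⟨inferInstance, inferInstance, hDs, hDc, hsD, fun B' _ i' _ f hci hs' hc' hsolv' hf => ?_⟩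
  haveI := hci
  haveI : IsClosedImmersion (i' ≫ e.hom).left := inferInstanceAs (IsClosedImmersion (i'.left ≫ e.hom.left))
  haveI := hmax B' (i' ≫ e.hom) (φ ≫ f) inferInstance hs' hc' hsolv' (by
    rw [Category.assoc, ← Category.assoc f, hf, ← Category.assoc, hφ, Category.assoc, e.inv_hom_id, Category.comp_id])
  exact IsIso.of_isIso_comp_left φ f

/-- Over any field, the intersection is a Borel subgroup. -/
theorem isBorel_inter {G T B C D : Over (Spec (CommRingCat.of k))} [GrpObj G] [GrpObj T] [GrpObj B]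
    [GrpObj C] [GrpObj D] [IsAffine G.left] [Smooth G.hom] [ConnectedSpace G.left] (iT : T ⟶ G) [IsMonHom iT] [Mono iT]
    (hT : Red.IsTorus T) (iB : B ⟶ G) (hB : Red.IsBorel iB) (t : T ⟶ B) (ht : t ≫ iB = iT) (c : C ⟶ G)
    (hc : Red.IsCentralizerOf iT c) (dC : D ⟶ C) [IsMonHom dC] (dB : D ⟶ B) (hD : IsPullback dC dB c iB) :
    Red.IsBorel dC := by
  obtain ⟨hBm, hBcl, -, hBgeo⟩ := hB
  haveI := hBm; haveI := hBcl
  haveI : IsClosedImmersion dC.left := MorphismProperty.of_isPullback (isPullback_left hD).flip hBcl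
  have key : ∀ s : Spec (CommRingCat.of k), Red.IsBorelOver (AlgebraicClosure ((Spec (CommRingCat.of k)).residueField s))
      ((Over.pullback (Red.geomPt s)).map dC) := by
    intro s
    let f := Red.geomPt s
    haveI := GeomSub.isAffine_bc f G
    haveI := GeomSub.smooth_bc f G
    haveI := AlgGrp79.BorelDesc.connectedSpace_bc (G := G) f
    haveI : Mono ((Over.pullback f).map iT) :=
      haveI := (Over.mapPullbackAdj f).rightAdjoint_preservesLimits
      inferInstance
    refine isBorelOver_inter ((Over.pullback f).map iT) (AlgGrp79.TorusBC.isTorus_bc f hT) ((Over.pullback f).map iB) (hBgeo s)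
      ((Over.pullback f).map t) (by rw [← Functor.map_comp, ht]) ((Over.pullback f).map c)
      (AlgGrp79.TorusBC.isCentralizerOf_bc f iT hc) ((Over.pullback f).map dC) ((Over.pullback f).map dB) ?_
    haveI := (Over.mapPullbackAdj f).rightAdjoint_preservesLimits
    exact hD.map (Over.pullback f)
  exact ⟨inferInstance, inferInstance,
    Descend.smooth_of_bc (Red.geomPt (IsLocalRing.closedPoint k : Spec (CommRingCat.of k))) (key _).2.2.1, key⟩

end Groth.Agent.AGF80.CentBorelInter
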