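import Groth.Agent.AlgGrp79.CentTorus
import Groth.Agent.AlgGrp79.SemiProd
import Groth.Agent.AGF80.BorelCor

/-!
The intersection of the centralizer of a torus with a connected subgroup normalized by it.
-/

set_option autoImplicit false
set_option linter.unusedSectionVars false
set_option linter.style.haveILetI false
set_option backward.isDefEq.respectTransparency.types false

universe u

open CategoryTheory MonoidalCategory CartesianMonoidalCategory MonObj GrpObj AlgebraicGeometry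

noncomputable section

namespace Groth.Agent.AGF80.CentInter

open AlgGrp79

variable {k : Type u} [Field k] [IsAlgClosed k]
variable {G S H : Over (Spec (CommRingCat.of k))} [GrpObj G] [GrpObj S] [GrpObj H]

/-- The action of a normalizing subgroup by conjugation. -/
theorem exists_action (iS : S ⟶ G) [IsMonHom iS] (j : H ⟶ G) [IsMonHom j] [Mono j]
    (hnorm : ∀ (X : Over (Spec (CommRingCat.of k))) (s : X ⟶ S) (h : X ⟶ H), ∃ h' : X ⟶ H,
      (s ≫ iS) * (h ≫ j) * (s ≫ iS)⁻¹ = h' ≫ j) :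
    ∃ a : AlgGrp.Action S H, ∀ (X : Over (Spec (CommRingCat.of k))) (s : X ⟶ S) (h : X ⟶ H),
      (lift s h ≫ a.act) ≫ j = (s ≫ iS) * (h ≫ j) * (s ≫ iS)⁻¹ := by
  obtain ⟨act, hact⟩ := hnorm (S ⊗ H) (fst S H) (snd S H)
  have key : ∀ (X : Over (Spec (CommRingCat.of k))) (s : X ⟶ S) (h : X ⟶ H),
      (lift s h ≫ act) ≫ j = (s ≫ iS) * (h ≫ j) * (s ≫ iS)⁻¹ := fun X s h => by
    rw [Category.assoc, ← hact]
    simp only [MonObj.comp_mul, GrpObj.comp_inv, lift_fst_assoc, lift_snd_assoc]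
  refine ⟨⟨act, ?_, ?_⟩, key⟩
  · rw [← cancel_mono j]
    have e : (η[S] ▷ H : 𝟙_ _ ⊗ H ⟶ S ⊗ H) = lift (toUnit _ ≫ η[S]) (snd _ _) := by
      apply CartesianMonoidalCategory.hom_ext <;> simp [toUnit_unique (fst (𝟙_ _) H) (toUnit _)]
    rw [e, key, leftUnitor_hom]
    simp [← one_def', MonObj.one_comp]
  · rw [← cancel_mono j]
    have e1 : (μ[S] ▷ H : (S ⊗ S) ⊗ H ⟶ S ⊗ H) = lift (fst _ _ ≫ μ[S]) (snd _ _) := by
      apply CartesianMonoidalCategory.hom_ext <;> simp
    have e2 : (α_ S S H).hom ≫ (S ◁ act) = lift (fst _ _ ≫ fst _ _) (lift (fst _ _ ≫ snd _ _) (snd _ _) ≫ act) := by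
      apply CartesianMonoidalCategory.hom_ext
      · simp
      · simp only [Category.assoc, whiskerLeft_snd, lift_snd]
        rw [← Category.assoc]
        congr 1
        apply CartesianMonoidalCategory.hom_ext <;> simp
    have e3 : (fst (S ⊗ S) H ≫ μ[S]) = (fst (S ⊗ S) H ≫ fst S S) * (fst (S ⊗ S) H ≫ snd S S) := by
      rw [← MonObj.comp_mul, Hom.mul_def, lift_fst_snd, Category.id_comp]
    rw [e1, key, reassoc_of% e2, key, key, e3, MonObj.mul_comp _ _ iS]
    group

/-- The intersection with the centralizer is smooth and connected. -/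
theorem smooth_connected [IsAffine G.left] [Smooth G.hom] [ConnectedSpace G.left] (iS : S ⟶ G) [IsMonHom iS] [Mono iS]
    (hS : Red.IsTorus S) {C : Over (Spec (CommRingCat.of k))} [GrpObj C] {c : C ⟶ G} (hc : Red.IsCentralizerOf iS c)
    (j : H ⟶ G) [IsMonHom j] [IsClosedImmersion j.left] [Smooth H.hom] [ConnectedSpace H.left]
    (hnorm : ∀ (X : Over (Spec (CommRingCat.of k))) (s : X ⟶ S) (h : X ⟶ H), ∃ h' : X ⟶ H,
      (s ≫ iS) * (h ≫ j) * (s ≫ iS)⁻¹ = h' ≫ j)
    {I : Over (Spec (CommRingCat.of k))} (p : I ⟶ C) (q : I ⟶ H) (hI : IsPullback p q c j) :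
    Smooth I.hom ∧ ConnectedSpace ↥I.left := by
  obtain ⟨_, hcmono, hciff⟩ := id hc
  haveI := hcmono
  obtain ⟨_, hccl, _⟩ := CentTorus.centralizer_props G iS hS c hc
  haveI := hccl
  haveI : Mono j := Over.mono_of_mono_left j
  haveI : IsAffine H.left := isAffine_of_isAffineHom j.left
  obtain ⟨_, _, _, _, _⟩ := AlgGrp33.IsogSub.torus_props hS
  obtain ⟨a, ha⟩ := exists_action iS j hnorm
  have haut : SemiProd.IsAut a := fun T g h h' => by
    rw [← cancel_mono j, MonObj.mul_comp _ _ j, ha, ha, ha, MonObj.mul_comp _ _ j]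
    group
  letI := SemiProd.grpObj a haut
  haveI : Smooth (SemiProd.SD a).hom := by
    haveI : Smooth (snd H S).left := MorphismProperty.pullback_snd _ _ ‹Smooth H.hom›
    show Smooth (H ⊗ S).hom
    rw [← Over.w (snd H S)]
    infer_instance
  haveI : IsAffine (SemiProd.SD a).left := inferInstanceAs (IsAffine (Limits.pullback H.hom S.hom))
  haveI : IsReduced H.left := isReduced_of_smooth H.hom
  haveI : IsReduced S.left := isReduced_of_smooth S.hom
  haveI := isIntegral_grp H
  haveI := isIntegral_grp S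
  haveI : ConnectedSpace (SemiProd.SD a).left := by
    haveI := irreducible_prod H S
    exact inferInstanceAs (ConnectedSpace (H ⊗ S).left)
  let t : S ⟶ SemiProd.SD a := SemiProd.mk a 1 (𝟙 S)
  have ht : ∀ {T : Over (Spec (CommRingCat.of k))} (s : T ⟶ S), s ≫ t = SemiProd.mk a 1 s := fun s => by
    refine SemiProd.hom_ext' a ?_ ?_
    · simp [t, MonObj.comp_one]
    · simp [t]
  haveI : IsMonHom t := AlgGrp79.isMonHom_of_forall _ fun T x y => by
    refine SemiProd.hom_ext' a ?_ ?_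
    · rw [(SemiProd.mul_pts a haut _ _).1, ht, ht, ht, SemiProd.mk_prN, SemiProd.mk_prN, SemiProd.mk_prG, SemiProd.mk_prN]
      rw [← cancel_mono j, MonObj.mul_comp _ _ j, ha, MonObj.one_comp]
      group
    · rw [(SemiProd.mul_pts a haut _ _).2, ht, ht, ht, SemiProd.mk_prG, SemiProd.mk_prG, SemiProd.mk_prG]
  haveI : Mono t := ⟨fun x y e => by
    have := congr($e ≫ SemiProd.prG a)
    rwa [ht, ht, SemiProd.mk_prG, SemiProd.mk_prG] at this⟩
  haveI : IsClosedImmersion t.left := QuotSub.isClosedImmersion_of_mono t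
  obtain ⟨C₁, _, c₁, hc₁, hc₁cl, hc₁sm⟩ :=
    (Groth.Agent.S3006.result _ (SemiProd.SD a) S t inferInstance hS).1
  obtain ⟨_, _, hc₁conn⟩ := CentTorus.centralizer_props (SemiProd.SD a) t hS c₁ hc₁
  haveI := hc₁cl
  haveI := hc₁sm
  haveI := hc₁conn
  have hcomm : ∀ (X : Over (Spec (CommRingCat.of k))) (x : X ⟶ SemiProd.SD a) (s : X ⟶ S),
      x * (s ≫ t) = (s ≫ t) * x ↔ ((x ≫ SemiProd.prN a) ≫ j) * (s ≫ iS) = (s ≫ iS) * ((x ≫ SemiProd.prN a) ≫ j) := by
    intro X x s
    have hsc : (x ≫ SemiProd.prG a) * s = s * (x ≫ SemiProd.prG a) := mul_comm _ _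
    constructor
    · intro h
      have h1 := congr(($h ≫ SemiProd.prN a) ≫ j)
      rw [(SemiProd.mul_pts a haut _ _).1, (SemiProd.mul_pts a haut _ _).1, ht, SemiProd.mk_prN, SemiProd.mk_prG,
        MonObj.mul_comp _ _ j, MonObj.mul_comp _ _ j, ha, ha, MonObj.one_comp] at h1
      simp only [_root_.mul_one, mul_inv_cancel, _root_.one_mul] at h1
      exact (mul_inv_eq_iff_eq_mul.1 h1.symm).symm
    · intro h
      refine SemiProd.hom_ext' a ((cancel_mono j).1 ?_) ?_
      · rw [(SemiProd.mul_pts a haut _ _).1, (SemiProd.mul_pts a haut _ _).1, ht, SemiProd.mk_prN, SemiProd.mk_prG,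
          MonObj.mul_comp _ _ j, MonObj.mul_comp _ _ j, ha, ha, MonObj.one_comp]
        simp only [_root_.mul_one, mul_inv_cancel, _root_.one_mul]
        rw [← h, mul_inv_cancel_right]
      · rw [(SemiProd.mul_pts a haut _ _).2, (SemiProd.mul_pts a haut _ _).2, ht, SemiProd.mk_prG, hsc]
  obtain ⟨_, _, hc₁iff⟩ := hc₁
  -- the retraction onto the intersection
  obtain ⟨z, hz⟩ := (hciff C₁ ((c₁ ≫ SemiProd.prN a) ≫ j)).2 fun X' x s => by
    have h1 := (hc₁iff C₁ c₁).1 ⟨𝟙 C₁, Category.id_comp _⟩ X' x s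
    simpa [Category.assoc] using (hcomm X' _ s).1 h1
  let r : C₁ ⟶ I := hI.lift z (c₁ ≫ SemiProd.prN a) hz
  obtain ⟨e, he⟩ := (hc₁iff I (SemiProd.mk a q 1)).2 fun X' x s => (hcomm X' _ s).2 (by
    rw [Category.assoc x, SemiProd.mk_prN, Category.assoc, ← hI.w]
    simpa [Category.assoc] using (hciff X' ((x ≫ p) ≫ c)).1 ⟨x ≫ p, rfl⟩ X' (𝟙 _) s)
  haveI : Mono q := ⟨fun u v h => hI.hom_ext (by
    rw [← cancel_mono c, Category.assoc, Category.assoc, hI.w, reassoc_of% h]) h⟩
  have her : e ≫ r = 𝟙 I := by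
    rw [← cancel_mono q, Category.assoc, hI.lift_snd, reassoc_of% he, SemiProd.mk_prN, Category.id_comp]
  haveI : IsClosedImmersion q.left :=
    MorphismProperty.of_isPullback (isPullback_left hI) hccl
  haveI : IsAffine I.left := isAffine_of_isAffineHom q.left
  haveI : IsReduced I.left := by
    haveI : IsAffine C₁.left := isAffine_of_isAffineHom c₁.left
    haveI : IsReduced C₁.left := isReduced_of_smooth C₁.hom
    haveI : _root_.IsReduced Γ(I.left, ⊤) := isReduced_of_injective r.left.appTop.hom (by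
      intro x y hxy
      have h0 : e.left ≫ r.left = 𝟙 I.left := by rw [← Over.comp_left, her, Over.id_left]
      have h1 := congrArg Scheme.Hom.appTop h0
      rw [Scheme.Hom.comp_appTop] at h1
      have hx := DFunLike.congr_fun (congrArg CommRingCat.Hom.hom h1) x
      have hy := DFunLike.congr_fun (congrArg CommRingCat.Hom.hom h1) y
      simp only [CommRingCat.hom_comp, RingHom.comp_apply, Scheme.Hom.id_appTop, CommRingCat.hom_id, RingHom.id_apply] at hx hy
      rw [hxy] at hx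
      simpa using hx.symm.trans hy)
    haveI : IsReduced (Spec Γ(I.left, ⊤)) := inferInstance
    exact isReduced_of_isOpenImmersion I.left.isoSpec.hom
  haveI : LocallyOfFiniteType I.hom := by rw [← Over.w q]; infer_instance
  haveI := hc.1
  obtain ⟨hIg, hqm⟩ := exists_grpObj_closed q
    ⟨hI.lift η[C] η[H] (by rw [IsMonHom.one_hom, IsMonHom.one_hom]), hI.lift_snd _ _ _⟩
    fun T u v => ⟨hI.lift ((u ≫ p)⁻¹ * (v ≫ p)) ((u ≫ q)⁻¹ * (v ≫ q)) (by
      rw [MonObj.mul_comp _ _ c, MonObj.mul_comp _ _ j, GrpObj.inv_comp, GrpObj.inv_comp, Category.assoc, Category.assoc,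
        hI.w, Category.assoc, Category.assoc]), hI.lift_snd _ _ _⟩
  refine ⟨AlgGrp33.IsogSub.smooth_of_reduced I, ?_⟩
  have hs : Function.Surjective r.left := fun y => ⟨e.left y, by
    rw [← Scheme.Hom.comp_apply, ← Over.comp_left, her, Over.id_left]
    rfl⟩
  exact hs.connectedSpace r.left.continuous

end Groth.Agent.AGF80.CentInter
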