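import Groth.Agent.EGA73.IntegralNormal
import Groth.Agent.CAlg4.ReducedCurve
import Mathlib.AlgebraicGeometry.Morphisms.UniversallyInjective
import Mathlib.AlgebraicGeometry.AlgClosed.Basic
import Mathlib.RingTheory.Adjoin.Tower

/-!
Global functions under a bijective morphism to a normal variety.
-/

set_option autoImplicit false
set_option linter.style.haveILetI false
set_option backward.isDefEq.respectTransparency.types false

universe u

open CategoryTheory Limits AlgebraicGeometry TopologicalSpace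

namespace Groth.Agent.AGF80.FGBij

variable {k : Type u} [Field k]

/-- Injective morphisms of varieties over an algebraically closed field are radicial. -/
theorem universallyInjective_of_injective [IsAlgClosed k] {X Y : Scheme.{u}} (sX : X ⟶ Spec (CommRingCat.of k))
    [IsSeparated sX] (sY : Y ⟶ Spec (CommRingCat.of k)) [LocallyOfFiniteType sY] (π : Y ⟶ X) (hπ : π ≫ sX = sY)
    [IsSeparated sY] (hinj : Function.Injective π) : UniversallyInjective π := by
  haveI : LocallyOfFiniteType π := by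
    haveI : LocallyOfFiniteType (π ≫ sX) := hπ ▸ inferInstance
    exact locallyOfFiniteType_of_comp π sX
  haveI : IsSeparated π := by
    haveI : IsSeparated (π ≫ sX) := hπ ▸ inferInstance
    exact IsSeparated.of_comp π sX
  rw [UniversallyInjective.iff_diagonal, surjective_iff, ← Set.range_eq_univ]
  let s := pullback.fst π π ≫ sY
  haveI : LocallyOfFiniteType s := inferInstance
  haveI := LocallyOfFiniteType.jacobsonSpace s
  refine Set.eq_univ_of_univ_subset ?_
  rw [← closure_closedPoints]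
  refine closure_minimal (fun z hz => ?_) (pullback.diagonal π).isClosedEmbedding.isClosed_range
  let t := pointOfClosedPoint s z hz
  have ht : t ≫ s = 𝟙 _ := pointOfClosedPoint_comp _ _ _
  have h1 : (t ≫ pullback.fst π π) ≫ sY = 𝟙 _ := by rw [Category.assoc]; exact ht
  have h2 : (t ≫ pullback.snd π π) ≫ sY = 𝟙 _ := by
    rw [← hπ, Category.assoc, ← reassoc_of% (pullback.condition (f := π) (g := π)), hπ]
    exact ht
  have heq : t ≫ pullback.fst π π = t ≫ pullback.snd π π := by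
    refine ext_of_apply_closedPoint_eq sY h1 h2 (hinj ?_)
    rw [← Scheme.Hom.comp_apply, ← Scheme.Hom.comp_apply, Category.assoc, Category.assoc, pullback.condition]
  have htd : t = (t ≫ pullback.fst π π) ≫ pullback.diagonal π := by
    apply pullback.hom_ext
    · simp
    · simp [heq]
  refine ⟨(t ≫ pullback.fst π π) (IsLocalRing.closedPoint k), ?_⟩
  rw [← Scheme.Hom.comp_apply, ← htd]
  exact pointOfClosedPoint_apply s z hz _

variable {X Y : Scheme.{u}} [IsIntegral X] [IsIntegral Y] (π : Y ⟶ X) [Surjective π]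

instance nonempty_top : Nonempty (⊤ : Y.Opens) := ⟨⟨genericPoint Y, trivial⟩⟩

instance nonempty_preimage (U : X.Opens) [Nonempty U] : Nonempty (π ⁻¹ᵁ U : Y.Opens) := by
  obtain ⟨⟨x, hx⟩⟩ := ‹Nonempty U›
  obtain ⟨y, rfl⟩ := π.surjective x
  exact ⟨⟨y, hx⟩⟩

/-- Sections on the base as rational functions upstairs. -/
noncomputable def toFF (U : X.Opens) [Nonempty U] : Γ(X, U) →+* Y.functionField :=
  (π.app U ≫ Y.germToFunctionField (π ⁻¹ᵁ U)).hom

theorem toFF_res {U V : X.Opens} [Nonempty U] [Nonempty V] (h : V ≤ U) (s : Γ(X, U)) :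
    toFF π V (X.presheaf.map (homOfLE h).op s) = toFF π U s := by
  show (X.presheaf.map (homOfLE h).op ≫ π.app V ≫ Y.germToFunctionField (π ⁻¹ᵁ V)) s = _
  rw [π.naturality_assoc]
  simp only [Scheme.germToFunctionField, TopCat.Presheaf.germ_res]
  rfl

theorem toFF_injective (U : X.Opens) [Nonempty U] : Function.Injective (toFF π U) := by
  rw [injective_iff_map_eq_zero]
  intro s hs
  by_contra hne
  obtain ⟨x, hx⟩ := (Opens.ne_bot_iff_nonempty _).1 (mt (basicOpen_eq_bot_iff s).1 hne)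
  obtain ⟨y, rfl⟩ := π.surjective x
  have h0 : π.app U s = 0 := by
    apply germ_injective_of_isIntegral Y (genericPoint Y)
      ((genericPoint_spec Y).mem_open_set_iff (π ⁻¹ᵁ U).isOpen |>.2
        (by obtain ⟨⟨p, hp⟩⟩ := nonempty_preimage π U; exact ⟨p, trivial, hp⟩))
    rw [map_zero]
    exact hs
  have hy : y ∈ Y.basicOpen (π.app U s) := by
    rw [← Scheme.preimage_basicOpen]
    exact hx
  rw [h0, Scheme.basicOpen_zero] at hy
  exact hy.elim

/-- A rational function coming from some open comes from every affine open, if it is regular upstairs. -/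
theorem exists_section (hX : Pi1.IsNormalScheme X) [IsLocallyNoetherian X] (β : Γ(Y, ⊤)) {V : X.Opens} [Nonempty V] (s : Γ(X, V))
    (hs : toFF π V s = Y.germToFunctionField ⊤ β) {U : X.Opens} (hU : IsAffineOpen U) [Nonempty U] :
    ∃ t : Γ(X, U), toFF π U t = Y.germToFunctionField ⊤ β := by
  classical
  set B := Y.germToFunctionField ⊤ β with hB
  haveI : IsNoetherianRing Γ(X, U) := IsLocallyNoetherian.component_noetherian ⟨U, hU⟩
  haveI := EGA73.isIntegrallyClosed_sections hX hU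
  obtain ⟨x, hxU, hxV⟩ : ∃ x, x ∈ U ∧ x ∈ V := by
    obtain ⟨⟨u, hu⟩⟩ := ‹Nonempty U›
    obtain ⟨⟨v, hv⟩⟩ := ‹Nonempty V›
    obtain ⟨x, hx⟩ := nonempty_preirreducible_inter U.isOpen V.isOpen ⟨u, hu⟩ ⟨v, hv⟩
    exact ⟨x, hx.1, hx.2⟩
  obtain ⟨a₀, hle, hxa⟩ := hU.exists_basicOpen_le ⟨x, hxV⟩ hxU
  haveI : Nonempty (X.basicOpen a₀) := ⟨⟨x, hxa⟩⟩
  haveI := hU.isLocalization_basicOpen a₀
  obtain ⟨b, ⟨_, n, rfl⟩, hb⟩ := IsLocalization.exists_mk'_eq (Submonoid.powers a₀) (X.presheaf.map (homOfLE hle).op s)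
  have hb' := IsLocalization.mk'_spec Γ(X, X.basicOpen a₀) b (⟨a₀ ^ n, n, rfl⟩ : Submonoid.powers a₀)
  rw [hb] at hb'
  have hfrac : B * toFF π U (a₀ ^ n) = toFF π U b := by
    rw [← hs, ← toFF_res π hle, ← toFF_res π (X.basicOpen_le a₀) (a₀ ^ n), ← toFF_res π (X.basicOpen_le a₀) b, ← map_mul]
    exact congrArg _ hb'
  have ha0 : a₀ ^ n ≠ 0 := by
    refine pow_ne_zero n ?_
    rintro rfl
    simp at hxa
  suffices a₀ ^ n ∣ b by
    obtain ⟨t, rfl⟩ := this
    refine ⟨t, mul_right_cancel₀ ((map_ne_zero_iff _ (toFF_injective π U)).2 ha0) ?_⟩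
    rw [hfrac, map_mul, mul_comm]
  refine CAlg4.ReducedCurve.dvd_of_forall_height_one (a₀ ^ n) b ha0 fun q _ hq _ => ?_
  haveI := CAlg4.ReducedCurve.dvr_of_height_one q hq
  rcases ValuationRing.dvd_total (algebraMap Γ(X, U) (Localization.AtPrime q) (a₀ ^ n))
    (algebraMap Γ(X, U) (Localization.AtPrime q) b) with h | ⟨t, ht⟩
  · exact h
  by_cases htu : IsUnit t
  · obtain ⟨w, rfl⟩ := htu
    exact ⟨↑w⁻¹, by rw [ht, Units.mul_inv_cancel_right]⟩
  exfalso
  obtain ⟨c, d, rfl⟩ := IsLocalization.exists_mk'_eq q.primeCompl t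
  have hc : c ∈ q := by
    by_contra hc
    exact htu ((IsLocalization.AtPrime.isUnit_mk'_iff _ q c d).2 hc)
  have hcd : a₀ ^ n * (d : Γ(X, U)) = b * c := by
    refine IsLocalization.injective (Localization.AtPrime q) q.primeCompl_le_nonZeroDivisors ?_
    rw [map_mul, map_mul, ht, mul_assoc, IsLocalization.mk'_spec]
  let z : PrimeSpectrum Γ(X, U) := ⟨q, inferInstance⟩
  obtain ⟨y, hy⟩ := π.surjective (hU.fromSpec z)
  have hzU : hU.fromSpec z ∈ U := by
    rw [← SetLike.mem_coe, ← hU.range_fromSpec]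
    exact ⟨z, rfl⟩
  have hyU : y ∈ π ⁻¹ᵁ U := by simp [hy, hzU]
  have hiff : ∀ r : Γ(X, U), π y ∈ X.basicOpen r ↔ r ∉ q := fun r => by
    rw [hy]
    have := hU.fromSpec_preimage_basicOpen r
    constructor
    · intro h
      have h2 : z ∈ hU.fromSpec ⁻¹ᵁ X.basicOpen r := h
      rw [this] at h2
      exact h2
    · intro h
      have h2 : z ∈ PrimeSpectrum.basicOpen r := h
      rw [← this] at h2
      exact h2
  have hd : IsUnit (Y.presheaf.germ (π ⁻¹ᵁ U) y hyU (π.app U (d : Γ(X, U)))) := by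
    refine (Y.mem_basicOpen _ y hyU).1 ?_
    rw [← Scheme.preimage_basicOpen]
    exact (hiff _).2 d.2
  have hcn : ¬ IsUnit (Y.presheaf.germ (π ⁻¹ᵁ U) y hyU (π.app U c)) := by
    intro h
    have := (Y.mem_basicOpen _ y hyU).2 h
    rw [← Scheme.preimage_basicOpen] at this
    exact (hiff c).1 this hc
  have hne : toFF π U (a₀ ^ n) ≠ 0 := (map_ne_zero_iff _ (toFF_injective π U)).2 ha0
  have hFF : toFF π U (d : Γ(X, U)) = B * toFF π U c := by
    refine mul_left_cancel₀ hne ?_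
    rw [← map_mul, hcd, map_mul, ← hfrac]
    ring
  have hst : Y.presheaf.germ (π ⁻¹ᵁ U) y hyU (π.app U (d : Γ(X, U))) =
      Y.presheaf.germ ⊤ y trivial β * Y.presheaf.germ (π ⁻¹ᵁ U) y hyU (π.app U c) := by
    apply (IsFractionRing.injective (Y.presheaf.stalk y) Y.functionField)
    rw [map_mul, Scheme.algebraMap_germ_eq_germToFunctionField, Scheme.algebraMap_germ_eq_germToFunctionField,
      Scheme.algebraMap_germ_eq_germToFunctionField]
    exact hFF
  rw [hst, IsUnit.mul_iff] at hd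
  exact hcn hd.2

/-- A purely inseparable power of a global function descends. -/
theorem exists_pow (hX : Pi1.IsNormalScheme X) [IsLocallyNoetherian X] [UniversallyInjective π] (b : Γ(Y, ⊤)) :
    ∃ (a : Γ(X, ⊤)) (N : ℕ), 0 < N ∧ π.appTop a = b ^ N := by
  classical
  let η := genericPoint Y
  have hpi : Function.Injective π ∧ ∀ x, (π.residueFieldMap x).hom.IsPurelyInseparable :=
    ((tfae_universallyInjective π).out 0 2).1 ‹UniversallyInjective π›
  have hpη := hpi.2 η
  algebraize [(π.residueFieldMap η).hom]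
  haveI : IsPurelyInseparable (X.residueField (π η)) (Y.residueField η) := hpη
  obtain ⟨q, _⟩ := ExpChar.exists (X.residueField (π η))
  obtain ⟨n, c, hc⟩ := IsPurelyInseparable.pow_mem (X.residueField (π η)) q (Y.residue η (Y.presheaf.germ ⊤ η trivial b))
  obtain ⟨cs, rfl⟩ := X.residue_surjective (π η) c
  obtain ⟨V, hV, s, rfl⟩ := X.presheaf.exists_germ_eq cs
  haveI : Nonempty V := ⟨⟨π η, hV⟩⟩
  have hs : toFF π V s = Y.germToFunctionField ⊤ (b ^ q ^ n) := by
    have h1 : Y.residue η (π.stalkMap η (X.presheaf.germ V (π η) hV s)) =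
        Y.residue η (Y.presheaf.germ ⊤ η trivial (b ^ q ^ n)) := by
      rw [map_pow, map_pow, ← hc]
      exact (ConcreteCategory.congr_hom (Scheme.residue_residueFieldMap π η) _).symm
    let φ : Y.functionField →+* Y.residueField η := (Y.residue η).hom
    have h2 : π.stalkMap η (X.presheaf.germ V (π η) hV s) = Y.presheaf.germ ⊤ η trivial (b ^ q ^ n) := φ.injective h1
    rw [Scheme.Hom.germ_stalkMap_apply] at h2
    exact h2
  choose t ht using fun U : {U : X.Opens // IsAffineOpen U ∧ Nonempty U} =>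
    haveI := U.2.2; exists_section π hX (b ^ q ^ n) s hs U.2.1
  have hcov : (⊤ : X.Opens) ≤ ⨆ U : {U : X.Opens // IsAffineOpen U ∧ Nonempty U}, U.1 := fun x _ => by
    obtain ⟨U, hU, hxU, -⟩ := exists_isAffineOpen_mem_and_subset (show x ∈ (⊤ : X.Opens) from trivial)
    exact Opens.mem_iSup.2 ⟨⟨U, hU, ⟨⟨x, hxU⟩⟩⟩, hxU⟩
  obtain ⟨a, ha, -⟩ := X.sheaf.existsUnique_gluing' (fun U : {U : X.Opens // IsAffineOpen U ∧ Nonempty U} => U.1) ⊤
    (fun U => homOfLE le_top) hcov t fun U W => by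
      haveI := U.2.2
      haveI := W.2.2
      obtain ⟨⟨u, hu⟩⟩ := U.2.2
      obtain ⟨⟨w, hw⟩⟩ := W.2.2
      obtain ⟨x, hx⟩ := nonempty_preirreducible_inter U.1.isOpen W.1.isOpen ⟨u, hu⟩ ⟨w, hw⟩
      haveI : Nonempty (U.1 ⊓ W.1 : X.Opens) := ⟨⟨x, hx⟩⟩
      apply toFF_injective π (U.1 ⊓ W.1)
      exact (toFF_res π inf_le_left _).trans ((ht U).trans ((toFF_res π inf_le_right _).trans (ht W)).symm)
  refine ⟨a, q ^ n, pow_pos (expChar_pos (X.residueField (π η)) q) n, ?_⟩
  apply germ_injective_of_isIntegral Y η (U := ⊤) trivial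
  obtain ⟨U₀, hU₀, hmem, -⟩ := exists_isAffineOpen_mem_and_subset (show π η ∈ (⊤ : X.Opens) from trivial)
  haveI : Nonempty U₀ := ⟨⟨π η, hmem⟩⟩
  have h1 := ha ⟨U₀, hU₀, inferInstance⟩
  have h2 : toFF π ⊤ a = Y.germToFunctionField ⊤ (b ^ q ^ n) := by
    rw [← toFF_res π (le_top : U₀ ≤ ⊤) a]
    exact (congrArg _ h1).trans (ht ⟨U₀, hU₀, inferInstance⟩)
  exact h2

theorem finiteType [IsAlgClosed k] (sX : X ⟶ Spec (CommRingCat.of k)) [IsSeparated sX] [LocallyOfFiniteType sX]
    (sY : Y ⟶ Spec (CommRingCat.of k)) [IsSeparated sY] [LocallyOfFiniteType sY] (hπ : π ≫ sX = sY)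
    (hinj : Function.Injective π) (hX : Pi1.IsNormalScheme X)
    (hfg : ((Scheme.ΓSpecIso (CommRingCat.of k)).inv ≫ sY.appTop).hom.FiniteType) :
    ((Scheme.ΓSpecIso (CommRingCat.of k)).inv ≫ sX.appTop).hom.FiniteType := by
  haveI := universallyInjective_of_injective sX sY π hπ hinj
  haveI := LocallyOfFiniteType.isLocallyNoetherian sX
  have hinjA : Function.Injective π.appTop.hom := by
    intro a₁ a₂ h
    exact toFF_injective π ⊤ (congrArg (Y.germToFunctionField ⊤) h)
  let cX := ((Scheme.ΓSpecIso (CommRingCat.of k)).inv ≫ sX.appTop).hom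
  let cY := ((Scheme.ΓSpecIso (CommRingCat.of k)).inv ≫ sY.appTop).hom
  have hcomp : π.appTop.hom.comp cX = cY := by
    simp only [cX, cY, ← hπ, Scheme.Hom.comp_appTop, CommRingCat.hom_comp]
    rfl
  letI : Algebra k Γ(X, ⊤) := cX.toAlgebra
  letI : Algebra k Γ(Y, ⊤) := cY.toAlgebra
  letI : Algebra Γ(X, ⊤) Γ(Y, ⊤) := π.appTop.hom.toAlgebra
  haveI : IsScalarTower k Γ(X, ⊤) Γ(Y, ⊤) := IsScalarTower.of_algebraMap_eq fun x => (RingHom.congr_fun hcomp x).symm
  haveI : Algebra.FiniteType k Γ(Y, ⊤) := hfg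
  haveI : Algebra.IsIntegral Γ(X, ⊤) Γ(Y, ⊤) := ⟨fun b => by
    obtain ⟨a, N, hN, ha⟩ := exists_pow π hX b
    refine IsIntegral.of_pow hN ?_
    rw [← ha]
    exact isIntegral_algebraMap⟩
  haveI : Algebra.FiniteType Γ(X, ⊤) Γ(Y, ⊤) := Algebra.FiniteType.of_restrictScalars_finiteType k _ _
  haveI : Module.Finite Γ(X, ⊤) Γ(Y, ⊤) := Algebra.IsIntegral.finite
  exact ⟨fg_of_fg_of_fg k Γ(X, ⊤) Γ(Y, ⊤) (Algebra.FiniteType.out) Module.Finite.fg_top hinjA⟩

end Groth.Agent.AGF80.FGBij
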