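import Groth.Agent.AGF80.Reductive
import Groth.Agent.AlgGrp79.TorusBC
import Groth.Agent.RedPts82.QuotBc
import Groth.Agent.AlgGrp79.BorelDesc
import Groth.Agent.CAlg6.GrpWordSpread
import Groth.Agent.AlgGrp33.DvrStep

/-!
Base change of subgroups to a field extension and descent of triviality and of being a torus.
-/

set_option autoImplicit false
set_option linter.unusedSectionVars false
set_option linter.style.haveILetI false
set_option backward.isDefEq.respectTransparency.types false

universe u

open CategoryTheory MonoidalCategory CartesianMonoidalCategory MonObj GrpObj AlgebraicGeometry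

noncomputable section

namespace Groth.Agent.AGF80.GeomSub

variable {k L : Type u} [Field k] [Field L] (f : Spec (CommRingCat.of L) ⟶ Spec (CommRingCat.of k))

theorem flat_spec : Flat f := by
  obtain ⟨φ, rfl⟩ := Spec.map_surjective f
  rw [HasRingHomProperty.Spec_iff (P := @Flat)]
  letI := φ.hom.toAlgebra
  exact RingHom.flat_algebraMap_iff.2 (inferInstance : Module.Flat k L)

theorem surjective_spec : Surjective f :=
  ⟨fun y => ⟨IsLocalRing.closedPoint L, Subsingleton.elim (α := PrimeSpectrum k) _ _⟩⟩

theorem isClosedImmersion_bc {H G : Over (Spec (CommRingCat.of k))} (i : H ⟶ G) [IsClosedImmersion i.left] :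
    IsClosedImmersion ((Over.pullback f).map i).left :=
  MorphismProperty.of_isPullback (P := @IsClosedImmersion) (RedPts82.isPullback_bc_map i f) inferInstance

theorem smooth_bc (H : Over (Spec (CommRingCat.of k))) [Smooth H.hom] : Smooth (Red.bc f H).hom :=
  inferInstanceAs (Smooth (Limits.pullback.snd H.hom f))

theorem isAffine_bc (H : Over (Spec (CommRingCat.of k))) [IsAffine H.left] : IsAffine (Red.bc f H).left :=
  inferInstanceAs (IsAffine (Limits.pullback H.hom f))

theorem isSolvableGrp_bc {H : Over (Spec (CommRingCat.of k))} [GrpObj H] (hs : Red.IsSolvableGrp H) :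
    Red.IsSolvableGrp (Red.bc f H) := by
  obtain ⟨n, hn⟩ := hs
  refine ⟨n, fun X => ?_⟩
  let φ : (X ⟶ Red.bc f H) →* ((Over.map f).obj X ⟶ H) :=
    MonoidHom.mk' (RedPts82.toBase f) (RedPts82.toBase_mul (f := f))
  have h := map_derivedSeries_le_derivedSeries φ n
  rw [hn _, le_bot_iff] at h
  exact (Subgroup.map_eq_bot_iff_of_injective _ (RedPts82.toBase_injective (f := f))).1 h

theorem isCommMonObj_bc (H : Over (Spec (CommRingCat.of k))) [GrpObj H] [IsCommMonObj H] :
    IsCommMonObj (Red.bc f H) :=
  AlgGrp33.DvrStep.comm_bc f inferInstance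

/-- Triviality of a group is detected after a field extension. -/
theorem isTrivialGrp_of_bc {H : Over (Spec (CommRingCat.of k))} (h : Red.IsTrivialGrp (Red.bc f H)) :
    Red.IsTrivialGrp H := by
  haveI := flat_spec f
  haveI := surjective_spec f
  haveI : IsIso (Red.bc f H).hom := h
  haveI : MorphismProperty.DescendsAlong (@IsClosedImmersion : MorphismProperty Scheme.{u}) Unr55.fpqc.{u} :=
    Unr55.isClosedImmersion
  haveI hci : IsClosedImmersion H.hom := MorphismProperty.of_isPullback_of_descendsAlong (P := @IsClosedImmersion)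
    (Q := Unr55.fpqc.{u}) (IsPullback.of_hasPullback f H.hom) ⟨⟨inferInstance, inferInstance⟩, inferInstance⟩
    (by rw [← Limits.pullbackSymmetry_hom_comp_snd]
        exact MorphismProperty.RespectsIso.precomp @IsClosedImmersion _ _ (inferInstanceAs (IsClosedImmersion (Red.bc f H).hom)))
  haveI : Surjective H.hom := ⟨fun y => by
    obtain ⟨z, -⟩ := (Red.bc f H).hom.surjective (IsLocalRing.closedPoint L)
    exact ⟨(Limits.pullback.fst H.hom f) z, Subsingleton.elim (α := PrimeSpectrum k) _ _⟩⟩
  exact isIso_of_isClosedImmersion_of_surjective H.hom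

/-- Being a torus is detected after a field extension. -/
theorem isTorus_of_bc {H : Over (Spec (CommRingCat.of k))} [GrpObj H] (h : Red.IsTorus (Red.bc f H)) :
    Red.IsTorus H := by
  haveI := flat_spec f
  haveI := surjective_spec f
  exact UnipRad.isTorus_of_bc f h

/-- Smooth connected solvable normal subgroups of reductive groups over a field are tori. -/
theorem normal_solvable_isTorus {G H : Over (Spec (CommRingCat.of k))} [GrpObj G] [GrpObj H] (hG : Red.IsReductive G)
    (i : H ⟶ G) [IsMonHom i] [IsClosedImmersion i.left] [Smooth H.hom] [ConnectedSpace H.left]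
    (hH : Red.IsSolvableGrp H) (hn : AlgGrp.IsNormalHom i) : Red.IsTorus H := by
  let s : Spec (CommRingCat.of k) := IsLocalRing.closedPoint k
  haveI := isClosedImmersion_bc (Red.geomPt s) i
  haveI := smooth_bc (Red.geomPt s) H
  haveI := AlgGrp79.BorelDesc.connectedSpace_bc (G := H) (Red.geomPt s)
  exact isTorus_of_bc (Red.geomPt s) (Reductive.normal_solvable_isTorus (hG.2.2 s) ((Over.pullback (Red.geomPt s)).map i)
    (isSolvableGrp_bc _ hH) (CAlg6.GrpWord.isNormalHom_bcAny (Red.geomPt s) i hn))

/-- Smooth connected solvable normal subgroups of semisimple groups over a field are trivial. -/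
theorem normal_solvable_trivial {G H : Over (Spec (CommRingCat.of k))} [GrpObj G] [GrpObj H] (hG : Red.IsSemisimple G)
    (i : H ⟶ G) [IsMonHom i] [IsClosedImmersion i.left] [Smooth H.hom] [ConnectedSpace H.left]
    (hH : Red.IsSolvableGrp H) (hn : AlgGrp.IsNormalHom i) : Red.IsTrivialGrp H := by
  let s : Spec (CommRingCat.of k) := IsLocalRing.closedPoint k
  have hci := isClosedImmersion_bc (Red.geomPt s) i
  haveI := hci
  haveI := smooth_bc (Red.geomPt s) H
  haveI := AlgGrp79.BorelDesc.connectedSpace_bc (G := H) (Red.geomPt s)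
  have hnb := CAlg6.GrpWord.isNormalHom_bcAny (Red.geomPt s) i hn
  exact isTrivialGrp_of_bc (Red.geomPt s) ((hG.2.2 s).2 _ ((Over.pullback (Red.geomPt s)).map i) hci hnb
    (Reductive.normal_solvable_isTorus (hG.2.2 s).1 _ (isSolvableGrp_bc _ hH) hnb))

/-- A smooth connected normal subgroup of a reductive group is reductive. -/
theorem isReductive_of_normal {G N : Over (Spec (CommRingCat.of k))} [GrpObj G] [GrpObj N] (hG : Red.IsReductive G)
    (i : N ⟶ G) [IsMonHom i] [IsClosedImmersion i.left] [Smooth N.hom] [ConnectedSpace N.left]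
    (hn : AlgGrp.IsNormalHom i) : Red.IsReductive N := by
  haveI : IsAffineHom G.hom := hG.1
  refine ⟨by rw [← Over.w i]; infer_instance, inferInstance, fun s => ?_⟩
  obtain ⟨hA, hS, -, hU⟩ := hG.2.2 s
  haveI := hA
  haveI := hS
  haveI := isClosedImmersion_bc (Red.geomPt s) i
  haveI := smooth_bc (Red.geomPt s) N
  refine ⟨isAffine_of_isAffineHom ((Over.pullback (Red.geomPt s)).map i).left, inferInstance,
    AlgGrp79.BorelDesc.connectedSpace_bc (G := N) (Red.geomPt s), ?_⟩
  intro U _ u _ hu hus huc hun hUn
  haveI := hu; haveI := hus; haveI := huc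
  exact Reductive.normal_unip_trivial ((Over.pullback (Red.geomPt s)).map i)
    (CAlg6.GrpWord.isNormalHom_bcAny (Red.geomPt s) i hn) hU u hun hUn

/-- A normal torus of a smooth connected affine group over a field is central. -/
theorem normal_torus_central {G T : Over (Spec (CommRingCat.of k))} [GrpObj G] [GrpObj T] [IsAffine G.left]
    [Smooth G.hom] [ConnectedSpace G.left] (hT : Red.IsTorus T) (i : T ⟶ G) [IsMonHom i] [IsClosedImmersion i.left]
    (hn : AlgGrp.IsNormalHom i) (X : Over (Spec (CommRingCat.of k))) (g : X ⟶ G) (x : X ⟶ T) :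
    g * (x ≫ i) = (x ≫ i) * g := by
  let s : Spec (CommRingCat.of k) := IsLocalRing.closedPoint k
  let f := Red.geomPt s
  haveI := flat_spec f
  haveI := surjective_spec f
  haveI := isAffine_bc f G
  haveI := smooth_bc f G
  haveI := AlgGrp79.BorelDesc.connectedSpace_bc (G := G) f
  haveI := isClosedImmersion_bc f i
  haveI : Mono ((Over.pullback f).map i) := Over.mono_of_mono_left _
  let π : (Over.map f).obj (Red.bc f X) ⟶ X := RedPts82.toBase f (𝟙 _)
  have hπ : π.left = Limits.pullback.fst X.hom f := by
    show (RedPts82.toBase f (𝟙 (Red.bc f X))).left = _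
    rw [RedPts82.toBase_left, Over.id_left, Category.id_comp]
  haveI : Flat (Limits.pullback.fst X.hom f) := MorphismProperty.pullback_fst _ _ inferInstance
  haveI : Surjective (Limits.pullback.fst X.hom f) := MorphismProperty.pullback_fst _ _ inferInstance
  haveI : Epi π.left := by rw [hπ]; exact Flat.epi_of_flat_of_surjective _
  haveI : Epi π := Over.epi_of_epi_left π
  have h := congrArg (RedPts82.toBase f) (Reductive.normal_torus_central (AlgGrp79.TorusBC.isTorus_bc f hT)
    ((Over.pullback f).map i) (CAlg6.GrpWord.isNormalHom_bcAny f i hn) (Red.bc f X) ((Over.pullback f).map g)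
    ((Over.pullback f).map x))
  rw [RedPts82.toBase_mul, RedPts82.toBase_mul, ← Functor.map_comp] at h
  have e : ∀ {P : Over (Spec (CommRingCat.of k))} (y : X ⟶ P),
      RedPts82.toBase f ((Over.pullback f).map y) = π ≫ y := fun y => by
    rw [← Category.id_comp ((Over.pullback f).map y), RedPts82.toBase_comp_map]
  rw [e, e, ← MonObj.comp_mul, ← MonObj.comp_mul] at h
  exact (cancel_epi π).1 h

end Groth.Agent.AGF80.GeomSub
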