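import Groth.Agent.AGF80.LangAlg
import Groth.Agent.RedPts82.Infinitesimal
import Mathlib.RingTheory.TensorProduct.Maps
import Mathlib.RingTheory.FinitePresentation
import Mathlib.RingTheory.RingHom.FinitePresentation

/-!
Lang's theorem, on points: for a smooth affine group scheme over a finite field whose base change to
an algebraically closed field is irreducible, every rational point is of the form `u * F(u)⁻¹`.
-/

set_option autoImplicit false
universe u

open CategoryTheory MonoidalCategory CartesianMonoidalCategory MonObj GrpObj AlgebraicGeometry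
open Groth.Agent.RedPts82.Infinitesimal Algebra.TensorProduct
open scoped TensorProduct

namespace Groth.Agent.AGF80

variable {k : Type u} [Field k] {G : Over (Spec (CommRingCat.of k))}
variable {A : Type u} [CommRing A] [Algebra k A] (j : SpecOver k A ⟶ G) [IsIso j]

/-- Every affine point is given by an algebra homomorphism. -/
theorem exists_coord_eq {R : Type u} [CommRing R] [Algebra k R] (x : SpecOver k R ⟶ G) :
    ∃ φ : A →ₐ[k] R, specHom φ ≫ j = x := by
  obtain ⟨φ, hφ⟩ := exists_specHom_eq (x ≫ inv j)
  exact ⟨φ, by simp [hφ]⟩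

/-- The homomorphism giving a point. -/
noncomputable def coord {R : Type u} [CommRing R] [Algebra k R] (x : SpecOver k R ⟶ G) :
    A →ₐ[k] R := (exists_coord_eq j x).choose

theorem coord_spec {R : Type u} [CommRing R] [Algebra k R] (x : SpecOver k R ⟶ G) :
    specHom (coord j x) ≫ j = x := (exists_coord_eq j x).choose_spec

include j in
theorem coord_inj {R : Type u} [CommRing R] [Algebra k R] {φ ψ : A →ₐ[k] R}
    (h : specHom φ ≫ j = specHom ψ ≫ j) : φ = ψ :=
  specHom_injective ((cancel_mono j).mp h)

theorem specHom_frob [Fintype k] {R S : Type u} [CommRing R] [Algebra k R] [CommRing S]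
    [Algebra k S] (f : R →ₐ[k] S) :
    specHom f ≫ specHom (FiniteField.frobeniusAlgHom k R) =
      specHom (FiniteField.frobeniusAlgHom k S) ≫ specHom f := by
  rw [specHom_comp, specHom_comp]
  congr 1
  ext x
  simp [FiniteField.coe_frobeniusAlgHom]

variable [GrpObj G] [Fintype k]

omit [GrpObj G] in
include j in
/-- Frobenius of a point only depends on its reduction modulo a square zero ideal. -/
theorem frob_congr {C : Type u} [CommRing C] [Algebra k C] {I : Ideal C} (hI : I ^ 2 = ⊥)
    {x y : SpecOver k C ⟶ G}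
    (h : specHom (Ideal.Quotient.mkₐ k I) ≫ x = specHom (Ideal.Quotient.mkₐ k I) ≫ y) :
    specHom (FiniteField.frobeniusAlgHom k C) ≫ x =
      specHom (FiniteField.frobeniusAlgHom k C) ≫ y := by
  obtain ⟨φ, rfl⟩ := exists_coord_eq j x
  obtain ⟨ψ, rfl⟩ := exists_coord_eq j y
  simp only [← Category.assoc, specHom_comp] at h ⊢
  have h' := coord_inj j h
  congr 2
  ext a
  exact frobenius_congr hI (Ideal.Quotient.eq.mp (DFunLike.congr_fun h' a))

variable {K : Type u} [Field K] [Algebra k K] (a : SpecOver k K ⟶ G)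

/-- The generic point over `K`. -/
noncomputable abbrev gen : SpecOver k (K ⊗[k] A) ⟶ G :=
  specHom (includeRight : A →ₐ[k] K ⊗[k] A) ≫ j

/-- `g ↦ g a F(g)⁻¹` at the generic point. -/
noncomputable def twistPt : SpecOver k (K ⊗[k] A) ⟶ G :=
  gen j * (specHom ((includeLeft : K →ₐ[k] K ⊗[k] A)) ≫ a) *
    (specHom (FiniteField.frobeniusAlgHom k (K ⊗[k] A)) ≫ gen j)⁻¹

/-- The twisted conjugation `g ↦ g a F(g)⁻¹` on coordinate rings. -/
noncomputable def twist : K ⊗[k] A →ₐ[K] K ⊗[k] A :=
  Algebra.TensorProduct.lift (Algebra.ofId K _) (coord j (twistPt j a)) fun _ _ => Commute.all _ _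

theorem twist_left (c : K) : twist j a (c ⊗ₜ 1) = c ⊗ₜ 1 := by
  simp [twist, Algebra.ofId_apply, Algebra.TensorProduct.algebraMap_apply]

/-- The twist, followed by a homomorphism, on points. -/
theorem twist_spec {R : Type u} [CommRing R] [Algebra k R] (f : K ⊗[k] A →ₐ[k] R) :
    specHom ((f.comp ((twist j a).restrictScalars k)).comp includeRight) ≫ j =
      (specHom (f.comp includeRight) ≫ j) * (specHom (f.comp includeLeft) ≫ a) *
        (specHom (FiniteField.frobeniusAlgHom k R) ≫ specHom (f.comp includeRight) ≫ j)⁻¹ := by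
  have h : (f.comp ((twist j a).restrictScalars k)).comp includeRight =
      f.comp (coord j (twistPt j a)) := by
    ext x
    simp [twist, ← Algebra.TensorProduct.one_def]
  rw [h, ← specHom_comp, Category.assoc, coord_spec, twistPt, MonObj.comp_mul, MonObj.comp_mul,
    GrpObj.comp_inv, gen, ← specHom_comp includeLeft f, ← specHom_comp includeRight f]
  simp only [Category.assoc]
  rw [← Category.assoc (specHom f) (specHom (FiniteField.frobeniusAlgHom k (K ⊗[k] A))),
    specHom_frob, Category.assoc]

theorem isOpenMap_twist [Algebra.FormallySmooth k A] [Algebra.FinitePresentation k A] :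
    IsOpenMap (PrimeSpectrum.comap (twist j a).toRingHom) := by
  refine isOpenMap_of_uniqueLift _ ?_ ?_
  · refine RingHom.FinitePresentation.of_comp_finiteType (algebraMap K (K ⊗[k] A)) ?_ ?_
    · rw [AlgHom.toRingHom_eq_coe, (twist j a).comp_algebraMap]
      exact RingHom.finitePresentation_algebraMap.mpr inferInstance
    · exact RingHom.finiteType_algebraMap.mpr inferInstance
  intro C _ I hI g fb hfb
  let : Algebra k C := (g.comp (algebraMap k (K ⊗[k] A))).toAlgebra
  let g' : K ⊗[k] A →ₐ[k] C := { g with commutes' := fun _ => rfl }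
  let fb' : K ⊗[k] A →ₐ[k] C ⧸ I :=
    { fb with
      commutes' := fun c => by
        have h := DFunLike.congr_fun hfb (algebraMap k (K ⊗[k] A) c)
        exact (congrArg fb (((twist j a).restrictScalars k).commutes c)).symm.trans h }
  let mk := Ideal.Quotient.mkₐ k I
  let y := specHom (g'.comp includeRight) ≫ j
  let b := specHom (g'.comp includeLeft) ≫ a
  have hb : fb'.comp includeLeft = mk.comp (g'.comp includeLeft) := by
    ext c
    have h := DFunLike.congr_fun hfb (c ⊗ₜ (1 : A))
    simpa [fb', g', mk, twist_left] using h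
  have hfb' : fb'.comp ((twist j a).restrictScalars k) = mk.comp g' :=
    AlgHom.ext fun x => DFunLike.congr_fun hfb x
  let xb := specHom (fb'.comp includeRight) ≫ j
  have hy : specHom mk ≫ y =
      xb * (specHom mk ≫ b) * (specHom (FiniteField.frobeniusAlgHom k (C ⧸ I)) ≫ xb)⁻¹ := by
    have h := twist_spec j a fb'
    rw [hfb', hb, AlgHom.comp_assoc, ← specHom_comp, Category.assoc, ← specHom_comp _ mk,
      Category.assoc] at h
    exact h
  obtain ⟨φ₀, hφ₀⟩ := Algebra.FormallySmooth.comp_surjective k A I hI (fb'.comp includeRight)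
  let x₀ := specHom φ₀ ≫ j
  have hx₀ : specHom mk ≫ x₀ = xb := by
    simp only [x₀, ← Category.assoc, specHom_comp]
    exact congrArg (fun φ => specHom φ ≫ j) hφ₀
  let Fx₀ := specHom (FiniteField.frobeniusAlgHom k C) ≫ x₀
  have hX : specHom mk ≫ (y * Fx₀ * b⁻¹) = xb := by
    rw [MonObj.comp_mul, MonObj.comp_mul, GrpObj.comp_inv, hy]
    simp only [Fx₀]
    rw [← Category.assoc (specHom mk) (specHom (FiniteField.frobeniusAlgHom k C)), specHom_frob,
      Category.assoc, hx₀]
    group
  have key : ∀ f : K ⊗[k] A →ₐ[k] C, f.comp includeLeft = g'.comp includeLeft →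
      specHom mk ≫ specHom (f.comp includeRight) ≫ j = xb →
      (f.comp ((twist j a).restrictScalars k) = g' ↔
        specHom (f.comp includeRight) ≫ j = y * Fx₀ * b⁻¹) := by
    intro f hfl hfr
    have h := twist_spec j a f
    rw [hfl, frob_congr j hI (hfr.trans hx₀.symm)] at h
    constructor
    · intro hf
      rw [hf] at h
      have h' : y = specHom (f.comp includeRight) ≫ j * b * Fx₀⁻¹ := h
      rw [h']
      group
    · intro hf
      refine Algebra.TensorProduct.ext' fun c x => ?_
      rw [hf] at h
      have h' : (f.comp ((twist j a).restrictScalars k)).comp includeRight =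
          g'.comp includeRight := by
        refine coord_inj j (h.trans ?_)
        show y * Fx₀ * b⁻¹ * b * Fx₀⁻¹ = y
        group
      have e : (c ⊗ₜ x : K ⊗[k] A) = (c ⊗ₜ 1) * (1 ⊗ₜ x) := by simp
      rw [e, map_mul, map_mul]
      congr 1
      · have := DFunLike.congr_fun hfl c
        simpa [twist_left] using this
      · exact DFunLike.congr_fun h' x
  obtain ⟨φ, hφ⟩ := exists_coord_eq j (y * Fx₀ * b⁻¹)
  let f : K ⊗[k] A →ₐ[k] C :=
    Algebra.TensorProduct.lift (g'.comp includeLeft) φ fun _ _ => Commute.all _ _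
  have hfl : f.comp includeLeft = g'.comp includeLeft := lift_comp_includeLeft _ _ _
  have hfr : f.comp includeRight = φ := by
    ext x
    simp [f]
  have hfr' : mk.comp f = fb' := by
    have hr : mk.comp φ = fb'.comp includeRight := coord_inj j (by
      rw [← specHom_comp, Category.assoc, hφ, hX])
    refine Algebra.TensorProduct.ext' fun c x => ?_
    have e : (c ⊗ₜ x : K ⊗[k] A) = (c ⊗ₜ 1) * (1 ⊗ₜ x) := by simp
    rw [e, map_mul, map_mul]
    congr 1
    · exact (congrArg mk (DFunLike.congr_fun hfl c)).trans (DFunLike.congr_fun hb c).symm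
    · exact (congrArg mk (DFunLike.congr_fun hfr x)).trans (DFunLike.congr_fun hr x)
  refine ⟨f.toRingHom, ⟨?_, congrArg AlgHom.toRingHom hfr'⟩, ?_⟩
  · have := (key f hfl (by rw [hfr, hφ, hX])).mpr (by rw [hfr, hφ])
    exact congrArg AlgHom.toRingHom this
  · rintro f' ⟨hf₁, hf₂⟩
    let f'' : K ⊗[k] A →ₐ[k] C :=
      { f' with
        commutes' := fun c => by
          have h := DFunLike.congr_fun hf₁ (algebraMap k (K ⊗[k] A) c)
          exact (congrArg f' (((twist j a).restrictScalars k).commutes c)).symm.trans h }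
    have h1 : f''.comp ((twist j a).restrictScalars k) = g' :=
      AlgHom.ext fun x => DFunLike.congr_fun hf₁ x
    have h2 : mk.comp f'' = fb' := AlgHom.ext fun x => DFunLike.congr_fun hf₂ x
    have hl : f''.comp includeLeft = g'.comp includeLeft := by
      ext c
      have h := DFunLike.congr_fun hf₁ (c ⊗ₜ (1 : A))
      simpa [f'', g', twist_left] using h
    have hr := (key f'' hl (by rw [← Category.assoc, specHom_comp, ← AlgHom.comp_assoc, h2])).mp h1
    have hr' : f''.comp includeRight = φ := coord_inj j (hr.trans hφ.symm)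
    have : f'' = f := by
      refine Algebra.TensorProduct.ext' fun c x => ?_
      have e : (c ⊗ₜ x : K ⊗[k] A) = (c ⊗ₜ 1) * (1 ⊗ₜ x) := by simp
      rw [e, map_mul, map_mul]
      congr 1
      · exact DFunLike.congr_fun (hl.trans hfl.symm) c
      · exact DFunLike.congr_fun (hr'.trans hfr.symm) x
    exact congrArg AlgHom.toRingHom this

include j in
/-- Lang's theorem on points. -/
theorem exists_lang [IsAlgClosed K] [Algebra.FormallySmooth k A] [Algebra.FinitePresentation k A]
    (hirr : IrreducibleSpace (PrimeSpectrum (K ⊗[k] A))) :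
    ∃ u : SpecOver k K ⟶ G, u * (specHom (FiniteField.frobeniusAlgHom k K) ≫ u)⁻¹ = a := by
  have : Nontrivial (K ⊗[k] A) := PrimeSpectrum.nonempty_iff_nontrivial.mp inferInstance
  have hne : ∀ b : SpecOver k K ⟶ G,
      (Set.range (PrimeSpectrum.comap (twist j b).toRingHom)).Nonempty := fun b => Set.range_nonempty _
  have hopen : ∀ b : SpecOver k K ⟶ G,
      IsOpen (Set.range (PrimeSpectrum.comap (twist j b).toRingHom)) :=
    fun b => (isOpenMap_twist j b).isOpen_range
  have hne' := nonempty_preirreducible_inter (hopen a) (hopen 1) (hne a) (hne 1)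
  have : IsJacobsonRing (K ⊗[k] A) := isJacobsonRing_of_finiteType (A := K)
  obtain ⟨m, hm, hmc⟩ := nonempty_inter_closedPoints hne' ((hopen a).inter (hopen 1)).isLocallyClosed
  rw [mem_closedPoints_iff, PrimeSpectrum.isClosed_singleton_iff_isMaximal] at hmc
  obtain ⟨π, hπ⟩ := exists_algHom_ker (K := K) m.asIdeal
  have pts : ∀ b : SpecOver k K ⟶ G,
      m ∈ Set.range (PrimeSpectrum.comap (twist j b).toRingHom) →
      ∃ x : SpecOver k K ⟶ G, x * b * (specHom (FiniteField.frobeniusAlgHom k K) ≫ x)⁻¹ =
        specHom ((π.restrictScalars k).comp includeRight) ≫ j := by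
    intro b hb
    obtain ⟨n, hn, hnm⟩ := exists_isMaximal_comap _ hmc hb
    obtain ⟨π', hπ'⟩ := exists_algHom_ker (K := K) n
    have e : π'.comp (twist j b) = π := algHom_ext_ker (by
      rw [hπ, ← hnm, ← hπ']
      rfl)
    refine ⟨specHom ((π'.restrictScalars k).comp includeRight) ≫ j, ?_⟩
    have h := twist_spec j b (π'.restrictScalars k)
    have e' : (π'.restrictScalars k).comp ((twist j b).restrictScalars k) = π.restrictScalars k := by
      rw [← e]
      rfl
    have el : (π'.restrictScalars k).comp (includeLeft : K →ₐ[k] K ⊗[k] A) = AlgHom.id k K := by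
      ext c
      exact π'.commutes c
    rw [e', el] at h
    rw [h]
    congr 2
    have : specHom (AlgHom.id k K) = 𝟙 _ := by
      apply Over.OverMorphism.ext
      exact Spec.map_id _
    rw [this, Category.id_comp]
  obtain ⟨x, hx⟩ := pts a hm.1
  obtain ⟨y, hy⟩ := pts 1 hm.2
  refine ⟨x⁻¹ * y, ?_⟩
  rw [MonObj.comp_mul, GrpObj.comp_inv]
  rw [← hy, _root_.mul_one] at hx
  calc x⁻¹ * y * ((specHom (FiniteField.frobeniusAlgHom k K) ≫ x)⁻¹ *
        (specHom (FiniteField.frobeniusAlgHom k K) ≫ y))⁻¹
      = x⁻¹ * (y * (specHom (FiniteField.frobeniusAlgHom k K) ≫ y)⁻¹) *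
          (specHom (FiniteField.frobeniusAlgHom k K) ≫ x) := by group
    _ = a := by rw [← hx]; group

end Groth.Agent.AGF80
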