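import Mathlib.RingTheory.Etale.Basic
import Mathlib.RingTheory.RingHom.Etale
import Mathlib.RingTheory.Smooth.Flat
import Mathlib.RingTheory.Spectrum.Prime.Chevalley
import Mathlib.RingTheory.Jacobson.Ring
import Mathlib.RingTheory.ZariskisMainTheorem
import Mathlib.FieldTheory.IsAlgClosed.Basic
import Mathlib.FieldTheory.Finite.Basic

/-!
Commutative algebra for Lang's theorem.
-/

set_option autoImplicit false
universe u

namespace Groth.Agent.AGF80

/-- A finitely presented ring map with unique infinitesimal lifts is open on spectra. -/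
theorem isOpenMap_of_uniqueLift {R S : Type u} [CommRing R] [CommRing S] (θ : R →+* S)
    (hfp : θ.FinitePresentation)
    (H : ∀ (C : Type u) [CommRing C] (I : Ideal C), I ^ 2 = ⊥ → ∀ (g : R →+* C) (fb : S →+* C ⧸ I),
      fb.comp θ = (Ideal.Quotient.mk I).comp g →
      ∃! f : S →+* C, f.comp θ = g ∧ (Ideal.Quotient.mk I).comp f = fb) :
    IsOpenMap (PrimeSpectrum.comap θ) := by
  algebraize [θ]
  have : Algebra.FormallyEtale R S := by
    rw [Algebra.FormallyEtale.iff_comp_bijective]
    intro C _ _ I hI
    refine ⟨fun f₁ f₂ h => ?_, fun fb => ?_⟩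
    · obtain ⟨f, -, huniq⟩ := H C I hI (algebraMap R C)
        ((Ideal.Quotient.mkₐ R I).comp f₁).toRingHom (RingHom.ext fun r => by
          simp [← RingHom.algebraMap_toAlgebra θ])
      have e₁ := huniq f₁.toRingHom ⟨RingHom.ext fun r => f₁.commutes r, RingHom.ext fun s => rfl⟩
      have e₂ := huniq f₂.toRingHom ⟨RingHom.ext fun r => f₂.commutes r,
        RingHom.ext fun s => (DFunLike.congr_fun h s).symm⟩
      exact AlgHom.coe_ringHom_injective (e₁.trans e₂.symm)
    · obtain ⟨f, ⟨hf₁, hf₂⟩, -⟩ := H C I hI (algebraMap R C) fb.toRingHom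
        (RingHom.ext fun r => fb.commutes r)
      refine ⟨{ f with commutes' := fun r => DFunLike.congr_fun hf₁ r }, ?_⟩
      exact AlgHom.ext fun s => DFunLike.congr_fun hf₂ s
  have : Algebra.Etale R S := ⟨inferInstance, inferInstance⟩
  exact PrimeSpectrum.isOpenMap_comap_of_hasGoingDown_of_finitePresentation

/-- An open subset of a prime spectrum containing all maximal ideals is everything. -/
theorem eq_univ_of_isMaximal_mem {R : Type u} [CommRing R] {U : Set (PrimeSpectrum R)}
    (hU : IsOpen U) (h : ∀ p : PrimeSpectrum R, p.asIdeal.IsMaximal → p ∈ U) : U = Set.univ := by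
  refine Set.eq_univ_of_forall fun p => ?_
  obtain ⟨m, hm, hle⟩ := p.asIdeal.exists_le_maximal p.isPrime.ne_top
  exact ((PrimeSpectrum.le_iff_specializes p ⟨m, hm.isPrime⟩).mp hle).mem_open hU
    (h ⟨m, hm.isPrime⟩ hm)

/-- A maximal ideal in the image of a spectrum comes from a maximal ideal. -/
theorem exists_isMaximal_comap {R S : Type u} [CommRing R] [CommRing S] (θ : R →+* S)
    {m : PrimeSpectrum R} (hm : m.asIdeal.IsMaximal) (h : m ∈ Set.range (PrimeSpectrum.comap θ)) :
    ∃ n : Ideal S, n.IsMaximal ∧ n.comap θ = m.asIdeal := by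
  obtain ⟨p, hp⟩ := h
  obtain ⟨n, hn, hle⟩ := p.asIdeal.exists_le_maximal p.isPrime.ne_top
  refine ⟨n, hn, (hm.eq_of_le (Ideal.comap_ne_top _ hn.ne_top) ?_).symm⟩
  rw [← hp]
  exact Ideal.comap_mono hle

/-- The rational point at a maximal ideal of an algebra of finite type over an algebraically closed
field. -/
theorem exists_algHom_ker {K R : Type u} [Field K] [IsAlgClosed K] [CommRing R] [Algebra K R]
    [Algebra.FiniteType K R] (m : Ideal R) [m.IsMaximal] :
    ∃ π : R →ₐ[K] K, RingHom.ker π = m := by
  let := Ideal.Quotient.field m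
  have : Algebra.FiniteType K (R ⧸ m) :=
    ‹Algebra.FiniteType K R›.of_surjective (Ideal.Quotient.mkₐ K m) Ideal.Quotient.mk_surjective
  have := finite_of_finite_type_of_isJacobsonRing K (R ⧸ m)
  have hb : Function.Bijective (algebraMap K (R ⧸ m)) :=
    IsAlgClosed.algebraMap_bijective_of_isIntegral
  refine ⟨((AlgEquiv.ofBijective (Algebra.ofId K (R ⧸ m)) hb).symm.toAlgHom).comp
    (Ideal.Quotient.mkₐ K m), ?_⟩
  ext x
  simp [RingHom.mem_ker, Ideal.Quotient.eq_zero_iff_mem]

/-- A rational point is determined by its kernel. -/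
theorem algHom_ext_ker {K R : Type u} [Field K] [CommRing R] [Algebra K R] {π π' : R →ₐ[K] K}
    (h : RingHom.ker π = RingHom.ker π') : π = π' := by
  ext x
  have hx : x - algebraMap K R (π x) ∈ RingHom.ker π := by simp [RingHom.mem_ker]
  rw [h, RingHom.mem_ker] at hx
  simp only [map_sub, AlgHom.commutes, Algebra.algebraMap_self, RingHom.id_apply] at hx
  exact (sub_eq_zero.mp hx).symm

/-- Over a finite field with `q` elements, `x ↦ x ^ q` only depends on `x` up to square zero. -/
theorem frobenius_congr {k C : Type u} [Field k] [Fintype k] [CommRing C] [Algebra k C]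
    {I : Ideal C} (hI : I ^ 2 = ⊥) {x y : C} (h : x - y ∈ I) :
    FiniteField.frobeniusAlgHom k C x = FiniteField.frobeniusAlgHom k C y := by
  rw [← sub_eq_zero, ← map_sub, FiniteField.coe_frobeniusAlgHom]
  have h2 : (x - y) ^ 2 = 0 := Ideal.mem_bot.mp (hI ▸ Ideal.pow_mem_pow h 2)
  exact pow_eq_zero_of_le Fintype.one_lt_card h2

/-- The fixed points of the Frobenius in a field extension. -/
theorem exists_of_frobenius_fixed {k K : Type u} [Field k] [Fintype k] [Field K] [Algebra k K]
    {x : K} (hx : FiniteField.frobeniusAlgHom k K x = x) : ∃ c : k, algebraMap k K c = x := by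
  classical
  open Polynomial in
  by_contra hne
  push Not at hne
  open Polynomial in
  let P : K[X] := X ^ Fintype.card k - X
  have hP : P.natDegree = Fintype.card k := FiniteField.X_pow_card_sub_X_natDegree_eq K Fintype.one_lt_card
  have hP0 : P ≠ 0 := FiniteField.X_pow_card_sub_X_ne_zero K Fintype.one_lt_card
  let s : Finset K := insert x (Finset.univ.image (algebraMap k K))
  have hs : s.card ≤ P.natDegree := by
    refine Polynomial.card_le_degree_of_subset_roots fun y hy => ?_
    rw [Finset.mem_val, Finset.mem_insert, Finset.mem_image] at hy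
    rw [Polynomial.mem_roots hP0]
    rcases hy with rfl | ⟨c, -, rfl⟩
    · simpa [P, sub_eq_zero] using hx
    · simp [P, ← map_pow, FiniteField.pow_card]
  rw [hP, Finset.card_insert_of_notMem (by simpa using hne),
    Finset.card_image_of_injective _ (algebraMap k K).injective, Finset.card_univ] at hs
  omega

end Groth.Agent.AGF80
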