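import Groth.Agent.AGF80.Lang
import Groth.Agent.Grp57.Component
import Mathlib.AlgebraicGeometry.Morphisms.Smooth
import Mathlib.AlgebraicGeometry.Pullbacks
import Mathlib.AlgebraicGeometry.AlgClosed.Basic
import Mathlib.FieldTheory.IsAlgClosed.AlgebraicClosure

/-!
Lang's theorem for a smooth connected affine group scheme over a finite field.
-/

set_option autoImplicit false
universe u

open CategoryTheory Limits MonoidalCategory CartesianMonoidalCategory MonObj GrpObj AlgebraicGeometry
open Groth.Agent.RedPts82.Infinitesimal Algebra.TensorProduct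
open scoped TensorProduct

namespace Groth.Agent.AGF80

variable {k : Type u} [Field k] (G : Over (Spec (CommRingCat.of k))) [IsAffine G.left]

/-- The coordinate algebra. -/
noncomputable abbrev coordAlg : Algebra k Γ(G.left, ⊤) :=
  ((Scheme.ΓSpecIso (CommRingCat.of k)).inv ≫ G.hom.appTop).hom.toAlgebra

theorem coordIso_w :
    G.left.isoSpec.inv ≫ G.hom =
      Spec.map ((Scheme.ΓSpecIso (CommRingCat.of k)).inv ≫ G.hom.appTop) := by
  rw [← Scheme.isoSpec_inv_naturality, Scheme.isoSpec_Spec_inv, ← Spec.map_comp]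

/-- A smooth affine scheme over a field, in coordinates. -/
theorem exists_chart (G : Over (Spec (CommRingCat.of k))) [IsAffine G.left] [Smooth G.hom] :
    letI := coordAlg G
    Algebra.FormallySmooth k Γ(G.left, ⊤) ∧ Algebra.FinitePresentation k Γ(G.left, ⊤) ∧
    ∃ j : SpecOver k Γ(G.left, ⊤) ⟶ G, IsIso j ∧ j.left = G.left.isoSpec.inv := by
  let := coordAlg G
  have hs : RingHom.Smooth ((Scheme.ΓSpecIso (CommRingCat.of k)).inv ≫ G.hom.appTop).hom := by
    have h : RingHom.Smooth G.hom.appTop.hom := HasRingHomProperty.appTop @Smooth G.hom inferInstance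
    rw [CommRingCat.hom_comp]
    exact RingHom.Smooth.stableUnderComposition _ _
      (RingHom.Smooth.respectsIso.2 (RingHom.id _) (Scheme.ΓSpecIso (CommRingCat.of k)).symm.commRingCatIsoToRingEquiv
        (RingHom.Smooth.id _)) h
  have : Algebra.Smooth k Γ(G.left, ⊤) := hs
  refine ⟨inferInstance, inferInstance, Over.homMk G.left.isoSpec.inv (coordIso_w G), ?_, rfl⟩
  have : IsIso ((Over.forget _).map (Over.homMk G.left.isoSpec.inv (coordIso_w G) :
      SpecOver k Γ(G.left, ⊤) ⟶ G)) := inferInstanceAs (IsIso G.left.isoSpec.inv)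
  exact isIso_of_reflects_iso _ (Over.forget _)

/-- The spectrum of the base change of the coordinate ring is irreducible. -/
theorem irreducibleSpace_tensor [GrpObj G] [ConnectedSpace G.left] {K : Type u} [Field K]
    [Algebra k K] :
    letI := coordAlg G
    IrreducibleSpace (PrimeSpectrum (K ⊗[k] Γ(G.left, ⊤))) := by
  let := coordAlg G
  have h := Grp57.isIrreducible_preimage_connectedComponent_unit G (algebraMap k K)
  rw [PreconnectedSpace.connectedComponent_eq_univ, Set.preimage_univ] at h
  let e : (Grp57.bc G (algebraMap k K)).left ≅ Spec (.of (Γ(G.left, ⊤) ⊗[k] K)) :=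
    asIso (pullback.map G.hom (Spec.map (CommRingCat.ofHom (algebraMap k K)))
      (Spec.map (CommRingCat.ofHom (algebraMap k Γ(G.left, ⊤))))
      (Spec.map (CommRingCat.ofHom (algebraMap k K))) G.left.isoSpec.hom (𝟙 _) (𝟙 _)
      (by
        rw [Category.comp_id, ← Iso.inv_comp_eq]
        exact coordIso_w G) (by simp)) ≪≫ pullbackSpecIso k Γ(G.left, ⊤) K
  have hsurj := e.hom.homeomorph.surjective
  have h2 : IsIrreducible (Set.univ : Set (PrimeSpectrum (Γ(G.left, ⊤) ⊗[k] K))) := by
    have := h.image e.hom.base e.hom.continuous.continuousOn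
    rw [Set.image_univ] at this
    have hr : Set.range e.hom.base = Set.univ := Set.range_eq_univ.mpr hsurj
    exact hr ▸ this
  let c := PrimeSpectrum.homeomorphOfRingEquiv
    (Algebra.TensorProduct.comm k Γ(G.left, ⊤) K).toRingEquiv
  have h3 := h2.image c c.continuous.continuousOn
  rw [Set.image_univ, c.range_coe] at h3
  have : PreirreducibleSpace (PrimeSpectrum (K ⊗[k] Γ(G.left, ⊤))) := ⟨h3.2⟩
  exact { toNonempty := ⟨h3.1.some⟩ }

/-- The Frobenius endomorphism in coordinates. -/
theorem comp_frob [Fintype k] (F : G ⟶ G) (hF : ∀ s : Γ(G.left, ⊤), F.left.appTop s = s ^ Nat.card k)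
    (j : letI := coordAlg G; SpecOver k Γ(G.left, ⊤) ⟶ G) (hj : j.left = G.left.isoSpec.inv) :
    letI := coordAlg G
    j ≫ F = specHom (FiniteField.frobeniusAlgHom k Γ(G.left, ⊤)) ≫ j := by
  let := coordAlg G
  apply Over.OverMorphism.ext
  rw [Over.comp_left, Over.comp_left, hj, specHom_left]
  have : CommRingCat.ofHom (FiniteField.frobeniusAlgHom k Γ(G.left, ⊤)).toRingHom = F.left.appTop := by
    ext s
    simp [hF, Nat.card_eq_fintype_card]
  rw [this]
  exact (Scheme.isoSpec_inv_naturality F.left).symm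

variable {G}

/-- Lang: every point over an algebraic closure is `u * F(u)⁻¹`. -/
theorem lang_geometric [Fintype k] [GrpObj G] [Smooth G.hom] [ConnectedSpace G.left] {K : Type u}
    [Field K] [Algebra k K] [IsAlgClosed K] (a : SpecOver k K ⟶ G) :
    ∃ u : SpecOver k K ⟶ G, u * (specHom (FiniteField.frobeniusAlgHom k K) ≫ u)⁻¹ = a := by
  let := coordAlg G
  obtain ⟨_, _, j, _, -⟩ := exists_chart G
  exact exists_lang j a (irreducibleSpace_tensor G)

/-- Lang: the morphism `g ↦ g * F(g)⁻¹` is surjective. -/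
theorem lang_surjective [Fintype k] [GrpObj G] [Smooth G.hom] [ConnectedSpace G.left] (F : G ⟶ G)
    (hF : ∀ s : Γ(G.left, ⊤), F.left.appTop s = s ^ Nat.card k) :
    Surjective ((𝟙 G * F⁻¹ : G ⟶ G).left) := by
  let := coordAlg G
  obtain ⟨_, _, j, _, hj⟩ := exists_chart G
  let K := AlgebraicClosure k
  let A := Γ(G.left, ⊤)
  have hirr : IrreducibleSpace (PrimeSpectrum (K ⊗[k] A)) := irreducibleSpace_tensor G
  set θ := twist j (1 : SpecOver k K ⟶ G)
  have hθ : Function.Surjective (PrimeSpectrum.comap θ.toRingHom) := by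
    rw [← Set.range_eq_univ]
    refine eq_univ_of_isMaximal_mem (isOpenMap_twist j _).isOpen_range fun m hm => ?_
    obtain ⟨π, hπ⟩ := exists_algHom_ker (K := K) m.asIdeal
    obtain ⟨u, hu⟩ := exists_lang j (specHom ((π.restrictScalars k).comp includeRight) ≫ j) hirr
    let π' : K ⊗[k] A →ₐ[K] K :=
      Algebra.TensorProduct.lift (AlgHom.id K K) (coord j u) fun _ _ => Commute.all _ _
    have h := twist_spec j (1 : SpecOver k K ⟶ G) (π'.restrictScalars k)
    have er : (π'.restrictScalars k).comp includeRight = coord j u := by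
      ext x
      simp [π']
    rw [er, coord_spec, MonObj.comp_one, _root_.mul_one, hu] at h
    have e : π'.comp θ = π := by
      refine Algebra.TensorProduct.ext (by ext) ?_
      exact coord_inj j h
    refine ⟨⟨RingHom.ker π', RingHom.ker_isPrime _⟩, PrimeSpectrum.ext ?_⟩
    rw [← hπ, ← e]
    rfl
  have hL : specHom ((θ.restrictScalars k).comp includeRight) ≫ j = gen j ≫ (𝟙 G * F⁻¹) := by
    have h := twist_spec j (1 : SpecOver k K ⟶ G) (AlgHom.id k (K ⊗[k] A))
    rw [AlgHom.id_comp, AlgHom.id_comp, AlgHom.id_comp, MonObj.comp_one, _root_.mul_one] at h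
    refine h.trans ?_
    rw [MonObj.comp_mul, Category.comp_id, GrpObj.comp_inv]
    congr 2
    rw [gen, Category.assoc, comp_frob G F hF j hj, ← Category.assoc, ← Category.assoc,
      specHom_frob]
  have h2 : Function.Surjective (specHom ((θ.restrictScalars k).comp includeRight) ≫ j).left.base := by
    rw [← specHom_comp, Category.assoc]
    have h3 : Function.Surjective (PrimeSpectrum.comap
        (includeRight : A →ₐ[k] K ⊗[k] A).toRingHom) := by
      intro p
      obtain ⟨q, rfl⟩ := PrimeSpectrum.comap_surjective_of_faithfullyFlat (B := A ⊗[k] K) p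
      refine ⟨PrimeSpectrum.comap (Algebra.TensorProduct.comm k K A).toRingHom q, ?_⟩
      rfl
    have h4 : Function.Surjective j.left.base := by
      rw [hj]
      exact G.left.isoSpec.inv.homeomorph.surjective
    intro x
    obtain ⟨y, rfl⟩ := h4 x
    obtain ⟨z, rfl⟩ := h3 y
    obtain ⟨w, rfl⟩ := hθ z
    exact ⟨w, rfl⟩
  refine ⟨fun x => ?_⟩
  obtain ⟨w, hw⟩ := h2 x
  rw [hL] at hw
  exact ⟨_, hw⟩

end Groth.Agent.AGF80
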