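import Groth.Agent.AGF80.Orbit
import Groth.Agent.AlgGrp79.Act
import Groth.Agent.AlgGrp79.Cover
import Mathlib.AlgebraicGeometry.PullbackCarrier
import Mathlib.AlgebraicGeometry.Morphisms.Proper
import Mathlib.AlgebraicGeometry.Morphisms.Smooth
import Mathlib.AlgebraicGeometry.Morphisms.UniversallyOpen

/-! Closures of orbits when the quotient is proper. -/

set_option autoImplicit false

universe u

open CategoryTheory MonoidalCategory CartesianMonoidalCategory MonObj GrpObj AlgebraicGeometry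

namespace Groth.Agent.AGF80.OrbitClosure

variable {S : Scheme.{u}}

/-- Two points with the same image come from one point of a test scheme. -/
lemma exists_common {A B C : Over S} (f : A ⟶ C) (g : B ⟶ C) (a : A.left) (b : B.left)
    (h : f.left.base a = g.left.base b) :
    ∃ (T : Over S) (u : T ⟶ A) (v : T ⟶ B) (t : T.left),
      u ≫ f = v ≫ g ∧ u.left.base t = a ∧ v.left.base t = b := by
  obtain ⟨t, h1, h2⟩ := Scheme.Pullback.exists_preimage_pullback (f := f.left) (g := g.left) a b h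
  have hw : Limits.pullback.snd f.left g.left ≫ B.hom = Limits.pullback.fst f.left g.left ≫ A.hom := by
    rw [← Over.w f, ← Over.w g, ← Category.assoc, ← Limits.pullback.condition, Category.assoc]
  exact ⟨Over.mk (Limits.pullback.fst f.left g.left ≫ A.hom), Over.homMk (Limits.pullback.fst _ _),
    Over.homMk (Limits.pullback.snd _ _) hw, t, by ext; exact Limits.pullback.condition, h1, h2⟩

lemma comp_base {A B C : Over S} (f : A ⟶ B) (g : B ⟶ C) (a : A.left) :
    (f ≫ g).left.base a = g.left.base (f.left.base a) := rfl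

variable {G H X : Over S} [GrpObj G] [GrpObj H] (a : AlgGrp.Action G X) (i : H ⟶ G)
  (x : 𝟙_ (Over S) ⟶ X)

lemma snd_comp_orbit {T : Over S} (g : T ⟶ G) (u : T ⟶ G ⊗ X) (v : T ⟶ G)
    (h : u ≫ snd G X = v ≫ a.orbitMap x) (hg : u ≫ fst G X = g) :
    u ≫ a.act = (g * v) ≫ a.orbitMap x := by
  have hu : u = lift g (v ≫ a.orbitMap x) := by ext : 1 <;> simp [h, hg]
  rw [Orbit.comp_orbitMap_mul, hu]

theorem act_orbit_subset :
    ⇑a.act.left.base '' (⇑(snd G X).left.base ⁻¹' Set.range ⇑(a.orbitMap x).left.base) ⊆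
      Set.range ⇑(a.orbitMap x).left.base := by
  rintro _ ⟨p, ⟨q, hq⟩, rfl⟩
  obtain ⟨T, u, v, t, huv, rfl, -⟩ := exists_common (snd G X) (a.orbitMap x) p q hq.symm
  exact ⟨((u ≫ fst G X) * v).left.base t, by
    rw [← comp_base, ← comp_base, snd_comp_orbit a x _ u v huv rfl]⟩

theorem act_orbit_sub_subset [IsMonHom i] :
    ⇑((i ▷ X) ≫ a.act).left.base '' (⇑(snd H X).left.base ⁻¹' Set.range ⇑(i ≫ a.orbitMap x).left.base) ⊆
      Set.range ⇑(i ≫ a.orbitMap x).left.base := by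
  rintro _ ⟨p, ⟨q, hq⟩, rfl⟩
  obtain ⟨T, u, v, t, huv, rfl, -⟩ := exists_common (snd H X) (i ≫ a.orbitMap x) p q hq.symm
  refine ⟨((u ≫ fst H X) * v).left.base t, ?_⟩
  rw [← comp_base, ← comp_base]
  congr 3
  have h1 := snd_comp_orbit a x (u ≫ fst H X ≫ i) (u ≫ (i ▷ X)) (v ≫ i)
    (by simpa using huv) (by simp)
  rw [← Category.assoc u, h1, ← Category.assoc _ i, MonObj.mul_comp, Category.assoc]

theorem image_closure_subset {A B C : Scheme.{u}} (s : A ⟶ B) (f : A ⟶ C) [UniversallyOpen s]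
    {O : Set B} {O' : Set C} (h : ⇑f.base '' (⇑s.base ⁻¹' O) ⊆ O') :
    ⇑f.base '' (⇑s.base ⁻¹' closure O) ⊆ closure O' := by
  rw [s.isOpenMap.preimage_closure_eq_closure_preimage s.continuous]
  exact (image_closure_subset_closure_image f.continuous).trans (closure_mono h)

variable {k : Type u} [Field k]

/-- If the quotient by `i` is proper, translates of a closed stable set form a closed set. -/
theorem isClosed_image_act {G H X Y : Over (Spec (CommRingCat.of k))} [GrpObj G] [GrpObj H]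
    [LocallyOfFiniteType G.hom] [IsProper Y.hom]
    (i : H ⟶ G) [IsMonHom i] (b : AlgGrp.Action G Y) (o' : 𝟙_ (Over (Spec (CommRingCat.of k))) ⟶ Y)
    (hY : AGF.IsQuotient i Y b o') (a : AlgGrp.Action G X) {Z : Set X.left} (hZ : IsClosed Z)
    (hst : ⇑((i ▷ X) ≫ a.act).left.base '' (⇑(snd H X).left.base ⁻¹' Z) ⊆ Z) :
    IsClosed (⇑a.act.left.base '' (⇑(snd G X).left.base ⁻¹' Z)) := by
  obtain ⟨hlft, hflat, hsurj, hpb⟩ := hY
  have := hflat
  have := hsurj
  have := AlgGrp79.lfp_left (b.orbitMap o')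
  have : UniversallyClosed (snd Y X).left :=
    MorphismProperty.pullback_snd (P := @UniversallyClosed) Y.hom X.hom inferInstance
  let Φ : G ⊗ X ⟶ G ⊗ X := lift (fst G X) a.act
  let w : G ⊗ X ⟶ X := lift (fst G X)⁻¹ (snd G X) ≫ a.act
  set C := ⇑w.left.base ⁻¹' Z with hC
  have himg : ⇑a.act.left.base '' (⇑(snd G X).left.base ⁻¹' Z) = ⇑(snd G X).left.base '' C := by
    have h1 : Φ ≫ w = snd G X := by
      show Φ ≫ lift (fst G X)⁻¹ (snd G X) ≫ a.act = _
      rw [AlgGrp79.comp_lift_act, GrpObj.comp_inv, lift_fst, lift_snd]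
      simpa using AlgGrp79.inv_act_act a (fst G X) (snd G X)
    have h2 : lift (fst G X) w ≫ a.act = snd G X := by
      show lift (fst G X) (lift (fst G X)⁻¹ (snd G X) ≫ a.act) ≫ a.act = _
      rw [← AlgGrp79.mul_act', mul_inv_cancel, AlgGrp79.one_act']
    apply subset_antisymm
    · rintro _ ⟨p, hp, rfl⟩
      refine ⟨Φ.left.base p, ?_, ?_⟩
      · show (Φ ≫ w).left.base p ∈ Z
        rw [h1]; exact hp
      · rw [← comp_base, lift_snd]
    · rintro _ ⟨p, hp, rfl⟩
      refine ⟨(lift (fst G X) w).left.base p, ?_, ?_⟩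
      · show (lift (fst G X) w ≫ snd G X).left.base p ∈ Z
        rw [lift_snd]; exact hp
      · rw [← comp_base, h2]
  rw [himg]
  let q : G ⊗ X ⟶ Y ⊗ X := b.orbitMap o' ▷ X
  have hsat : ∀ p p' : (G ⊗ X).left, q.left.base p = q.left.base p' → p ∈ C → p' ∈ C := by
    intro p p' hpp hp
    obtain ⟨T, u, v, t, huv, rfl, rfl⟩ := exists_common q q p p' hpp
    have hfst : (u ≫ fst G X) ≫ b.orbitMap o' = (v ≫ fst G X) ≫ b.orbitMap o' := by
      simpa [q] using congrArg (· ≫ fst Y X) huv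
    have hsnd : u ≫ snd G X = v ≫ snd G X := by simpa [q] using congrArg (· ≫ snd Y X) huv
    let n : T ⟶ H := hpb.lift _ _ hfst ≫ snd G H
    have hv : v ≫ fst G X = (u ≫ fst G X) * (n ≫ i) := by
      have e2 := hpb.lift_snd _ _ hfst
      refine e2.symm.trans ((congrArg (hpb.lift _ _ hfst ≫ ·) (Orbit.whiskerLeft_comp_mul i)).trans ?_)
      rw [MonObj.comp_mul, hpb.lift_fst]
      simp [n]
    have hw : v ≫ w = lift n⁻¹ (u ≫ w) ≫ ((i ▷ X) ≫ a.act) := by
      have e3 : lift n⁻¹ (u ≫ w) ≫ (i ▷ X) = lift ((n ≫ i)⁻¹) (u ≫ w) := by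
        rw [lift_whiskerRight, GrpObj.inv_comp]
      show v ≫ lift (fst G X)⁻¹ (snd G X) ≫ a.act = lift n⁻¹ (u ≫ w) ≫ (i ▷ X) ≫ a.act
      rw [reassoc_of% e3, AlgGrp79.comp_lift_act, AlgGrp79.comp_lift_act, GrpObj.comp_inv, GrpObj.comp_inv,
        hv, _root_.mul_inv_rev, AlgGrp79.mul_act', hsnd]
    show (v ≫ w).left.base t ∈ Z
    rw [hw]
    refine hst ⟨(lift n⁻¹ (u ≫ w)).left.base t, ?_, rfl⟩
    show (lift n⁻¹ (u ≫ w) ≫ snd H X).left.base t ∈ Z
    rw [lift_snd]; exact hp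
  have hqcov : AlgGrp79.IsCov q := (AlgGrp79.isCov_of_flat_surjective (b.orbitMap o')).whiskerRight X
  obtain ⟨hq1, hq2, hq3⟩ := hqcov
  have hqC : IsClosed (⇑q.left.base '' C) := by
    have e : ⇑q.left.base '' C = (⇑q.left.base '' Cᶜ)ᶜ := by
      ext z
      obtain ⟨p, rfl⟩ := q.left.surjective z
      constructor
      · rintro ⟨p', hp', he⟩ ⟨p'', hp'', he'⟩
        exact hp'' (hsat p' p'' (he.trans he'.symm) hp')
      · intro hz
        exact ⟨p, not_not.1 fun hp => hz ⟨p, hp, rfl⟩, rfl⟩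
    rw [e]
    exact (q.left.isOpenMap _ (hZ.preimage w.left.continuous).isOpen_compl).isClosed_compl
  have e : (snd G X).left.base = (q ≫ snd Y X).left.base := by rw [whiskerRight_snd]
  rw [show ⇑(snd G X).left.base '' C = ⇑(snd Y X).left.base '' (⇑q.left.base '' C) by
    rw [e, ← Set.image_comp]; rfl]
  exact (snd Y X).left.isClosedMap _ hqC

end Groth.Agent.AGF80.OrbitClosure
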