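import Groth.Agent.AGF80.UnipRad

/-!
Existence of the unipotent radical of a smooth affine group over an algebraically closed field.
-/

set_option autoImplicit false
set_option linter.unusedSectionVars false
set_option linter.style.haveILetI false
set_option backward.isDefEq.respectTransparency.types false

universe u

open CategoryTheory MonoidalCategory CartesianMonoidalCategory MonObj GrpObj AlgebraicGeometry
open Groth.Agent.GMod80

noncomputable section

namespace Groth.Agent.AGF80.UnipExist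

open AlgGrp79

variable {k : Type u} [Field k] [IsAlgClosed k]

/-- A homomorphism from a connected group factors through the identity component. -/
theorem exists_factor_component {V P U : Over (Spec (CommRingCat.of k))} [GrpObj V] [GrpObj P] [ConnectedSpace V.left]
    [IsReduced V.left] (v : V ⟶ P) [IsMonHom v] (u : U ⟶ P) [IsClosedImmersion u.left]
    (hu : Set.range u.left = connectedComponent (η[P].left (IsLocalRing.closedPoint k))) :
    ∃ f : V ⟶ U, f ≫ u = v := by
  refine exists_lift_of_range_subset u v ?_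
  rw [hu]
  rintro _ ⟨z, rfl⟩
  have h1 := (isConnected_range v.left.continuous).isPreconnected.subset_connectedComponent
    (⟨η[V].left (IsLocalRing.closedPoint k), rfl⟩ : v.left (η[V].left (IsLocalRing.closedPoint k)) ∈ Set.range v.left)
  have h2 : v.left (η[V].left (IsLocalRing.closedPoint k)) = η[P].left (IsLocalRing.closedPoint k) := by
    rw [← Scheme.Hom.comp_apply, ← Over.comp_left, IsMonHom.one_hom]
  rw [h2] at h1
  exact h1 ⟨z, rfl⟩

/-- A closed subgroup of a normal position lies in every Borel subgroup once it is solvable. -/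
theorem normal_le_borel {G V B : Over (Spec (CommRingCat.of k))} [GrpObj G] [GrpObj V] [GrpObj B] [IsAffine G.left]
    [Smooth G.hom] [ConnectedSpace G.left] (v : V ⟶ G) [IsMonHom v] [IsClosedImmersion v.left] [Smooth V.hom]
    [ConnectedSpace V.left] (hn : AlgGrp.IsNormalHom v) (hs : Red.IsSolvableGrp V) {iB : B ⟶ G}
    (hB : Red.IsBorelOver k iB) : ∃ w : V ⟶ B, w ≫ iB = v := by
  obtain ⟨B₀, _, i₀, f₀, hB₀, hf₀⟩ := BorelCor.exists_borel_ge G v hs
  obtain ⟨g, f, hf⟩ := BorelConj.borel_conj G B₀ B i₀ iB hB₀ hB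
  obtain ⟨n', hn'⟩ := hn V (toUnit V ≫ g⁻¹) (𝟙 V)
  refine ⟨n' ≫ f₀ ≫ f.hom, ?_⟩
  rw [Category.assoc, Category.assoc, hf, BorelConj.comp_conjBy, hf₀, BorelConj.comp_conjBy, ← hn', AGF.conjBy,
    Category.id_comp, GrpObj.comp_inv]
  group

/-- Every smooth affine group over an algebraically closed field has a unipotent radical: a largest normal smooth
connected subgroup without subtori. -/
theorem exists_unipRad (P : Over (Spec (CommRingCat.of k))) [GrpObj P] [IsAffine P.left] [Smooth P.hom] :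
    ∃ (U : Over (Spec (CommRingCat.of k))) (_ : GrpObj U) (u : U ⟶ P), IsMonHom u ∧ IsClosedImmersion u.left ∧
      Smooth U.hom ∧ ConnectedSpace U.left ∧ AlgGrp.IsNormalHom u ∧ Red.HasNoSubtorus k U ∧
      ∀ (V : Over (Spec (CommRingCat.of k))) [GrpObj V] (v : V ⟶ P) [IsMonHom v], IsClosedImmersion v.left →
        Smooth V.hom → ConnectedSpace V.left → AlgGrp.IsNormalHom v → Red.HasNoSubtorus k V → ∃ f : V ⟶ U, f ≫ u = v := by
  classical
  haveI : QuasiCompact P.hom := inferInstance
  haveI : IsReduced P.left := isReduced_of_smooth P.hom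
  obtain ⟨P₀, _, u₀, _, _, _, _, hu₀⟩ := UnipPart.exists_smooth_component P
  haveI : IsAffine P₀.left := isAffine_of_isAffineHom u₀.left
  haveI : Mono u₀ := Over.mono_of_mono_left u₀
  obtain ⟨B, _, iB, hB⟩ := BorelCor.exists_borel P₀
  obtain ⟨_, _, _, _, hsB, -⟩ := id hB
  haveI : IsAffine B.left := isAffine_of_isAffineHom iB.left
  haveI : Mono iB := Over.mono_of_mono_left iB
  obtain ⟨W, _, iW, _, _, _, _, nW, -, hmW, -⟩ := UnipPart.exists_unipPart B hsB
  haveI : IsAffine W.left := isAffine_of_isAffineHom iW.left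
  haveI : Mono iW := Over.mono_of_mono_left iW
  haveI : IsClosedImmersion (iW ≫ iB ≫ u₀).left :=
    inferInstanceAs (IsClosedImmersion (iW.left ≫ iB.left ≫ u₀.left))
  -- every normal unipotent connected subgroup lies in `W`
  have hle : ∀ (V : Over (Spec (CommRingCat.of k))) [GrpObj V] (v : V ⟶ P) [IsMonHom v], IsClosedImmersion v.left →
      Smooth V.hom → ConnectedSpace V.left → AlgGrp.IsNormalHom v → Red.HasNoSubtorus k V →
      ∃ a : V ⟶ W, a ≫ iW ≫ iB ≫ u₀ = v := by
    intro V _ v _ hv hvs hvc hvn hV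
    haveI := hv; haveI := hvs; haveI := hvc
    haveI : IsAffine V.left := isAffine_of_isAffineHom v.left
    haveI : IsReduced V.left := isReduced_of_smooth V.hom
    obtain ⟨v₀, hv₀⟩ := exists_factor_component v u₀ hu₀
    haveI := BorelCor.isMonHom_factor v₀ u₀ v hv₀
    haveI : IsClosedImmersion v₀.left := by
      haveI : IsClosedImmersion (v₀.left ≫ u₀.left) := by rw [← Over.comp_left, hv₀]; infer_instance
      exact IsClosedImmersion.of_comp v₀.left u₀.left
    have hn₀ : AlgGrp.IsNormalHom v₀ := fun T g n => by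
      obtain ⟨n', hn'⟩ := hvn T (g ≫ u₀) n
      exact ⟨n', by rw [← cancel_mono u₀, MonObj.mul_comp _ _ u₀, MonObj.mul_comp _ _ u₀, GrpObj.inv_comp,
        Category.assoc, Category.assoc, hv₀, hn']⟩
    obtain ⟨w, hw⟩ := normal_le_borel v₀ hn₀ (UnipBasic.isSolvableGrp_unip V hV) hB
    haveI := BorelCor.isMonHom_factor w iB v₀ hw
    haveI : IsClosedImmersion w.left := by
      haveI : IsClosedImmersion (w.left ≫ iB.left) := by rw [← Over.comp_left, hw]; infer_instance
      exact IsClosedImmersion.of_comp w.left iB.left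
    obtain ⟨a, ha⟩ := hmW V w inferInstance inferInstance inferInstance hV
    exact ⟨a, by rw [reassoc_of% ha, reassoc_of% hw, hv₀]⟩
  obtain ⟨Q, _, _, _, ψ, _, hQ⟩ := UnipBasic.exists_unip_coord W nW
  let pt := 𝟙_ (Over (Spec (CommRingCat.of k)))
  let S : Set P.left := {z | ∃ (V : Over (Spec (CommRingCat.of k))) (_ : GrpObj V) (v : V ⟶ P) (_ : IsMonHom v)
    (_ : IsClosedImmersion v.left) (_ : Smooth V.hom) (_ : ConnectedSpace V.left) (_ : AlgGrp.IsNormalHom v)
    (_ : Red.HasNoSubtorus k V), closure {z} = Set.range v.left}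
  have hmem : ∀ (V : Over (Spec (CommRingCat.of k))) [GrpObj V] (v : V ⟶ P) [IsMonHom v], IsClosedImmersion v.left →
      Smooth V.hom → ConnectedSpace V.left → AlgGrp.IsNormalHom v → Red.HasNoSubtorus k V →
      ∃ z ∈ S, closure {z} = Set.range v.left := by
    intro V _ v _ hv hvs hvc hvn hV
    haveI := hv; haveI := hvs; haveI := hvc
    haveI : QuasiCompact V.hom := by rw [← Over.w v]; infer_instance
    haveI := isIntegral_grp V
    have hz : closure {v.left (genericPoint V.left)} = Set.range v.left := by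
      rw [← Set.image_singleton, v.left.isClosedEmbedding.closure_image_eq, (genericPoint_spec V.left).def, Set.image_univ]
    exact ⟨_, ⟨V, inferInstance, v, inferInstance, hv, hvs, hvc, hvn, hV, hz⟩, hz⟩
  have hS : S.Nonempty := by
    haveI := isSeparated_grp P
    let one : pt ⟶ P := η[P]
    haveI : IsClosedImmersion one.left := BorelFixed.rat_isClosedImmersion one
    haveI : Smooth pt.hom := inferInstanceAs (Smooth (𝟙 (Spec (CommRingCat.of k))))
    haveI : ConnectedSpace pt.left := inferInstanceAs (ConnectedSpace (PrimeSpectrum k))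
    have hone : ∀ {T : Over (Spec (CommRingCat.of k))} (s : T ⟶ pt), s ≫ one = 1 := fun s => by
      rw [Hom.one_def, toUnit_unique s (toUnit _)]
    haveI : IsMonHom one := AlgGrp79.isMonHom_of_forall _ fun T s t => by rw [hone, hone, hone, _root_.one_mul]
    obtain ⟨z, hz, -⟩ := hmem pt one inferInstance inferInstance inferInstance
      (fun T g n => ⟨n, by rw [hone]; group⟩)
      (fun T _ j _ _ _ => by
        haveI : IsSplitEpi j := ⟨⟨⟨η[T], toUnit_unique _ _⟩⟩⟩
        haveI := isIso_of_mono_of_isSplitEpi j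
        show IsIso T.hom
        rw [← Over.w j]
        haveI : IsIso j.left := (Over.forget _).map_isIso j
        exact inferInstanceAs (IsIso (j.left ≫ 𝟙 _)))
    exact ⟨z, hz⟩
  haveI := Var76.FibreBound.noetherianSpace P.hom
  have hb : BddAbove (WC97.tdegN P.hom '' S) := by
    obtain ⟨z, -, hz⟩ := @Var76.FibreBound.exists_tdegN_eq_dim k _ P.left P.hom _ ⟨η[P].left (IsLocalRing.closedPoint k)⟩ _
    refine ⟨WC97.tdegN P.hom z, ?_⟩
    rintro _ ⟨y, -, rfl⟩
    exact_mod_cast (Var76.FibreBound.tdegN_le_dim P.hom y).trans hz.le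
  obtain ⟨g₀, hg₀, hg₀max⟩ := Nat.sSup_mem (hS.image _) hb
  obtain ⟨U, _, u, _, _, _, _, hun, hU, hgu⟩ := hg₀
  refine ⟨U, inferInstance, u, inferInstance, inferInstance, inferInstance, inferInstance, hun, hU, ?_⟩
  intro V _ v _ hv hvs hvc hvn hV
  haveI := hv; haveI := hvs; haveI := hvc
  haveI : IsReduced U.left := isReduced_of_smooth U.hom
  haveI : IsReduced V.left := isReduced_of_smooth V.hom
  haveI : IsAffine U.left := isAffine_of_isAffineHom u.left
  haveI : IsAffine V.left := isAffine_of_isAffineHom v.left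
  haveI := isIntegral_grp U
  haveI := isIntegral_grp V
  obtain ⟨a, ha⟩ := hle U u inferInstance inferInstance inferInstance hun hU
  obtain ⟨b, hb'⟩ := hle V v hv hvs hvc hvn hV
  let A : Fam P :=
    { X := U ⊗ V
      f := (fst U V ≫ u) * (snd U V ≫ v)
      x := lift 1 1
      hx := by simp [MonObj.comp_mul, MonObj.one_comp]
      red := reduced_prod U V
      irr := irreducible_prod U V
      lft := lft_prod U V
      qc := qc_prod U V }
  obtain ⟨D, _, iD, _, _, _, _, hD⟩ := exists_generated A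
  haveI : Mono iD := Over.mono_of_mono_left iD
  haveI : ConnectedSpace D.left := inferInstance
  haveI : IsReduced D.left := isReduced_of_smooth D.hom
  haveI : LocallyOfFiniteType D.hom := by rw [← Over.w iD]; infer_instance
  let φ : (pt ⟶ U) →* (pt ⟶ P) := IsMonHom.monoidHom u pt
  let χ : (pt ⟶ V) →* (pt ⟶ P) := IsMonHom.monoidHom v pt
  let θ : (pt ⟶ W) →* (pt ⟶ P) := IsMonHom.monoidHom (iW ≫ iB ≫ u₀) pt
  let ιD : (pt ⟶ D) →* (pt ⟶ P) := IsMonHom.monoidHom iD pt
  haveI : φ.range.Normal := ⟨by rintro _ ⟨y, rfl⟩ g; obtain ⟨n, hn⟩ := hun pt g y; exact ⟨n, hn.symm⟩⟩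
  haveI : χ.range.Normal := ⟨by rintro _ ⟨y, rfl⟩ g; obtain ⟨n, hn⟩ := hvn pt g y; exact ⟨n, hn.symm⟩⟩
  have hDr : ιD.range = φ.range ⊔ χ.range := by
    refine SetLike.coe_injective (hD.trans (congrArg _ (le_antisymm ((Subgroup.closure_le _).2 ?_) (sup_le ?_ ?_))))
    · rintro _ ⟨p, rfl⟩
      show p ≫ ((fst U V ≫ u) * (snd U V ≫ v)) ∈ φ.range ⊔ χ.range
      rw [MonObj.comp_mul, ← Category.assoc, ← Category.assoc]
      exact mul_mem (Subgroup.mem_sup_left ⟨_, rfl⟩) (Subgroup.mem_sup_right ⟨_, rfl⟩)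
    · rintro _ ⟨b, rfl⟩
      exact Subgroup.subset_closure ⟨lift b 1, by simp [A, φ, MonObj.comp_mul, MonObj.one_comp]⟩
    · rintro _ ⟨b, rfl⟩
      exact Subgroup.subset_closure ⟨lift 1 b, by simp [A, χ, MonObj.comp_mul, MonObj.one_comp]⟩
  have hsubW : φ.range ⊔ χ.range ≤ θ.range := sup_le
    (by rintro _ ⟨y, rfl⟩; exact ⟨y ≫ a, by show (y ≫ a) ≫ iW ≫ iB ≫ u₀ = y ≫ u; rw [Category.assoc, ha]⟩)
    (by rintro _ ⟨y, rfl⟩; exact ⟨y ≫ b, by show (y ≫ b) ≫ iW ≫ iB ≫ u₀ = y ≫ v; rw [Category.assoc, hb']⟩)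
  obtain ⟨w, hw⟩ := BorelCor.exists_factor_of_pts iD (iW ≫ iB ≫ u₀) fun p => by
    obtain ⟨q, hq⟩ := hsubW (hDr.le ⟨p, rfl⟩)
    exact ⟨q, hq⟩
  haveI : Mono (iW ≫ iB ≫ u₀) := Over.mono_of_mono_left _
  haveI := BorelCor.isMonHom_factor w (iW ≫ iB ≫ u₀) iD hw
  haveI : Mono (w ≫ iW ≫ iB ≫ u₀) := by rw [hw]; infer_instance
  haveI : Mono w := mono_of_mono w (iW ≫ iB ≫ u₀)
  have nD : Red.HasNoSubtorus k D := UnipBasic.hasNoSubtorus_of_unipotent hQ ψ w
  have hDn : AlgGrp.IsNormalHom iD := UnipBasic.isNormalHom_of_pts iD fun g n => by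
    obtain ⟨n', hn'⟩ := hDr.ge ((inferInstance : (φ.range ⊔ χ.range).Normal).conj_mem _ (hDr.le ⟨n, rfl⟩) g)
    exact ⟨n', hn'.symm⟩
  obtain ⟨gD, hgD, hgDr⟩ := hmem D iD inferInstance inferInstance inferInstance hDn nD
  have hUD : Set.range u.left ⊆ Set.range iD.left := range_subset_of_pts u iD.left.isClosedEmbedding.isClosed_range fun p => by
    obtain ⟨d, hd⟩ := hDr.ge (Subgroup.mem_sup_left ⟨p, rfl⟩)
    exact ⟨d.left (IsLocalRing.closedPoint k), by
      rw [show p ≫ u = d ≫ iD from hd.symm, Over.comp_left, Scheme.Hom.comp_apply]⟩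
  have hsp : gD ⤳ g₀ := by
    rw [specializes_iff_mem_closure, hgDr]
    exact hUD (hgu.le (subset_closure rfl))
  have heq : gD = g₀ := Var76.FibreBound.eq_of_tdegN_le P.hom hsp (hg₀max ▸ le_csSup hb ⟨gD, hgD, rfl⟩)
  exact exists_lift_of_range_subset u v (range_subset_of_pts v u.left.isClosedEmbedding.isClosed_range fun p => by
    obtain ⟨d, hd⟩ := hDr.ge (Subgroup.mem_sup_right ⟨p, rfl⟩)
    rw [← hgu, ← heq, hgDr, show p ≫ v = d ≫ iD from hd.symm, Over.comp_left, Scheme.Hom.comp_apply]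
    exact ⟨_, rfl⟩)

end Groth.Agent.AGF80.UnipExist
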