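import Groth.Agent.AGF80.UnipExist
import Groth.Agent.AlgGrp79.TorusPts
import Groth.Prelude.Def_Red

/-!
Normal subgroups of reductive groups over an algebraically closed field, and centrality of normal tori.
-/

set_option autoImplicit false
set_option linter.unusedSectionVars false
set_option linter.style.haveILetI false
set_option backward.isDefEq.respectTransparency.types false

universe u

open CategoryTheory MonoidalCategory CartesianMonoidalCategory MonObj GrpObj AlgebraicGeometry
open WithConv Groth.Agent.GMod80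

noncomputable section

namespace Groth.Agent.AGF80.Reductive

open AlgGrp79

variable {k : Type u} [Field k] [IsAlgClosed k]

/-- A subgroup mapping monomorphically into a trivial group is trivial. -/
theorem isTrivialGrp_of_mono {U R : Over (Spec (CommRingCat.of k))} [GrpObj U] [GrpObj R] (f : U ⟶ R) [Mono f]
    (hR : Red.IsTrivialGrp R) : Red.IsTrivialGrp U := by
  haveI : IsIso R.hom := hR
  have huniq : ∀ {X : Over (Spec (CommRingCat.of k))} (a b : X ⟶ U), a = b := by
    intro X a b
    rw [← cancel_mono f]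
    apply Over.OverMorphism.ext
    rw [← cancel_mono R.hom, Over.w, Over.w]
  refine ⟨η[U].left, ?_, Over.w η[U]⟩
  have h := congrArg CommaMorphism.left (huniq (toUnit U ≫ η[U]) (𝟙 U))
  exact h

/-- Reductivity, without connectedness, passes to smooth normal subgroups. -/
theorem normal_unip_trivial {G N : Over (Spec (CommRingCat.of k))} [GrpObj G] [GrpObj N] [IsAffine G.left]
    [Smooth G.hom] (j : N ⟶ G) [IsMonHom j] [IsClosedImmersion j.left] [Smooth N.hom] (hN : AlgGrp.IsNormalHom j)
    (hG : ∀ (U : Over (Spec (CommRingCat.of k))) [GrpObj U] (i : U ⟶ G) [IsMonHom i], IsClosedImmersion i.left →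
      Smooth U.hom → ConnectedSpace U.left → AlgGrp.IsNormalHom i → Red.HasNoSubtorus k U → Red.IsTrivialGrp U)
    {U : Over (Spec (CommRingCat.of k))} [GrpObj U] (i : U ⟶ N) [IsMonHom i] [IsClosedImmersion i.left] [Smooth U.hom]
    [ConnectedSpace U.left] (hi : AlgGrp.IsNormalHom i) (hU : Red.HasNoSubtorus k U) : Red.IsTrivialGrp U := by
  haveI : IsAffine N.left := isAffine_of_isAffineHom j.left
  haveI : IsReduced G.left := isReduced_of_smooth G.hom
  haveI : Mono j := Over.mono_of_mono_left j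
  obtain ⟨R, _, r, _, _, _, _, hrn, hR, hmax⟩ := UnipExist.exists_unipRad N
  haveI : IsReduced R.left := isReduced_of_smooth R.hom
  haveI : IsClosedImmersion (r ≫ j).left := inferInstanceAs (IsClosedImmersion (r.left ≫ j.left))
  obtain ⟨f, hf⟩ := hmax U i inferInstance inferInstance inferInstance hi hU
  haveI : Mono i := Over.mono_of_mono_left i
  haveI : Mono (f ≫ r) := by rw [hf]; infer_instance
  haveI : Mono f := mono_of_mono f r
  refine isTrivialGrp_of_mono f (hG R (r ≫ j) inferInstance inferInstance inferInstance ?_ hR)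
  let pt := 𝟙_ (Over (Spec (CommRingCat.of k)))
  refine UnipBasic.isNormalHom_of_pts _ fun g n => ?_
  obtain ⟨w, hw⟩ := hN R (toUnit R ≫ g) r
  have hw' : w ≫ j = AGF.conjBy g (r ≫ j) := hw.symm
  haveI := BorelConj.isMonHom_conjBy g (r ≫ j)
  haveI := BorelConj.isClosedImmersion_conjBy g (r ≫ j)
  haveI := BorelCor.isMonHom_factor w j (AGF.conjBy g (r ≫ j)) hw'
  haveI : IsClosedImmersion w.left := by
    haveI : IsClosedImmersion (w.left ≫ j.left) := by rw [← Over.comp_left, hw']; infer_instance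
    exact IsClosedImmersion.of_comp w.left j.left
  haveI : LocallyOfFiniteType N.hom := by rw [← Over.w j]; infer_instance
  haveI : IsReduced N.left := isReduced_of_smooth N.hom
  have hwn : AlgGrp.IsNormalHom w := UnipBasic.isNormalHom_of_pts w fun m y => by
    obtain ⟨m', hm'⟩ := hN pt g⁻¹ m
    rw [_root_.inv_inv] at hm'
    obtain ⟨y', hy'⟩ := hrn pt m' y
    refine ⟨y', ?_⟩
    have e : ∀ z : pt ⟶ R, (z ≫ w) ≫ j = g * ((z ≫ r) ≫ j) * g⁻¹ := fun z => by
      rw [Category.assoc z w, hw', UnipRad.pt_conjBy, Category.assoc z r j]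
    rw [← cancel_mono j, MonObj.mul_comp _ _ j, MonObj.mul_comp _ _ j, GrpObj.inv_comp, e, e, ← hy',
      MonObj.mul_comp _ _ j, MonObj.mul_comp _ _ j, GrpObj.inv_comp, ← hm']
    group
  obtain ⟨a, ha⟩ := hmax R w inferInstance inferInstance inferInstance hwn hR
  exact ⟨n ≫ a, by rw [Category.assoc, reassoc_of% ha, hw', UnipRad.pt_conjBy]⟩

variable {G : Over (Spec (CommRingCat.of k))} [GrpObj G]

/-- Smooth connected solvable normal subgroups of reductive groups are tori. -/
theorem normal_solvable_isTorus (hG : Red.IsReductiveOver k G) {H : Over (Spec (CommRingCat.of k))} [GrpObj H]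
    (i : H ⟶ G) [IsMonHom i] [IsClosedImmersion i.left] [Smooth H.hom] [ConnectedSpace H.left]
    (hH : Red.IsSolvableGrp H) (hn : AlgGrp.IsNormalHom i) : Red.IsTorus H := by
  obtain ⟨_, _, _, hU⟩ := hG
  haveI : IsAffine H.left := isAffine_of_isAffineHom i.left
  haveI : IsReduced H.left := isReduced_of_smooth H.hom
  obtain ⟨W, _, iW, _, _, _, _, nW, hnW, -, T, _, j, _, _, hT, F, hF⟩ := UnipPart.exists_unipPart H hH
  haveI : IsIso W.hom := normal_unip_trivial i hn hU iW hnW nW
  have hy1 : ∀ y : 𝟙_ (Over (Spec (CommRingCat.of k))) ⟶ W, y ≫ iW = 1 := by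
    intro y
    have : y = 1 := by
      apply Over.OverMorphism.ext
      rw [← cancel_mono W.hom, Over.w, Over.w]
    rw [this, MonObj.one_comp]
  haveI : Mono j := Over.mono_of_mono_left j
  obtain ⟨r, hr⟩ := BorelCor.exists_factor_of_pts (𝟙 H) j fun p => by
    obtain ⟨t, y, hty⟩ := UnipRad.pts_decomp iW hnW j hT F hF p
    exact ⟨t, by rw [Category.comp_id, hty, hy1, _root_.mul_one]⟩
  let e : T ≅ H := ⟨j, r, by rw [← cancel_mono j, Category.assoc, hr, Category.comp_id, Category.id_comp], hr⟩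
  haveI : IsMonHom e.hom := ‹IsMonHom j›
  exact UnipRad.isTorus_of_grpIso e hT

/-- An endomorphism of a torus fixing the torsion points is the identity. -/
theorem torus_endo_eq_id {T : Over (Spec (CommRingCat.of k))} [GrpObj T] (hT : Red.IsTorus T) (w : T ⟶ T)
    {ℓ : ℕ} (hℓ : 1 < ℓ) (hℓk : (ℓ : k) ≠ 0)
    (h : ∀ (t : 𝟙_ (Over (Spec (CommRingCat.of k))) ⟶ T) (j : ℕ), t ^ (ℓ ^ j) = 1 → t ≫ w = t) : w = 𝟙 T := by
  obtain ⟨_, _, _, _, _⟩ := AlgGrp33.IsogSub.torus_props hT
  obtain ⟨C, _, _, ψ, _⟩ := exists_coord T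
  haveI : Algebra.FiniteType k C := finiteType ψ
  haveI : IsDomain C := by
    haveI := Hopf35.TorDom.isDomain_tensor ψ hT k
    exact (Algebra.TensorProduct.lid k C).symm.toMulEquiv.isDomain _
  have hC : HopfRep.IsDiagonalizable k C := by
    obtain ⟨hco, hprim⟩ := (Groth.Agent.S7979.result k C).1 (AlgGrp33.isDiagonalizable_of_isTorus ψ hT)
    haveI := hco
    exact Comod33.Diag.isDiagonalizable_of_no_prim fun x hx => hprim x hx
  have hp : pull ψ ψ w = AlgHom.id k C := by
    refine AlgHom.ext fun c => sub_eq_zero.1 (TorusPts.eq_zero_of_torsion hC hℓ hℓk fun g hg => ?_)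
    obtain ⟨j, hj⟩ := hg
    have h1 := h (ToriConj.ev ψ g) j (by rw [← map_pow, hj, map_one])
    have h2 : ToriConj.ev ψ g ≫ w = ToriConj.ev ψ (toConv (g.ofConv.comp (pull ψ ψ w))) := by
      show (ToriConj.pt0 ≫ e ψ k g) ≫ w = ToriConj.pt0 ≫ e ψ k _
      rw [Category.assoc, e_comp ψ ψ w]
    have h3 := ToriConj.ev_injective ψ (h2.symm.trans h1)
    rw [map_sub, sub_eq_zero]
    exact DFunLike.congr_fun (congrArg WithConv.ofConv h3) c
  have h4 := e_comp ψ ψ w (toConv (AlgHom.id k C))
  rw [e_id, ofConv_toConv, hp, AlgHom.comp_id, e_id] at h4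
  exact (cancel_epi ψ.hom).1 (h4.trans (Category.comp_id _).symm)

/-- A normal torus of a connected group is central. -/
theorem normal_torus_central [Smooth G.hom] [IsAffine G.left] [ConnectedSpace G.left]
    {T : Over (Spec (CommRingCat.of k))} [GrpObj T] (hT : Red.IsTorus T) (i : T ⟶ G) [IsMonHom i] [Mono i]
    (hn : AlgGrp.IsNormalHom i) (X : Over (Spec (CommRingCat.of k))) (g : X ⟶ G) (x : X ⟶ T) :
    g * (x ≫ i) = (x ≫ i) * g := by
  obtain ⟨_, _, _, _, _⟩ := AlgGrp33.IsogSub.torus_props hT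
  haveI : IsClosedImmersion i.left := BorelCor.isClosedImmersion_torus G hT i
  haveI : IsReduced G.left := isReduced_of_smooth G.hom
  haveI : IsReduced T.left := isReduced_of_smooth T.hom
  obtain ⟨ℓ, hℓ, hℓk⟩ := SolvTori.exists_ell (k := k)
  let pt := 𝟙_ (Over (Spec (CommRingCat.of k)))
  obtain ⟨C, _, _, ψ, _⟩ := exists_coord T
  haveI : Algebra.FiniteType k C := finiteType ψ
  have hC : HopfRep.IsDiagonalizable k C := by
    obtain ⟨hco, hprim⟩ := (Groth.Agent.S7979.result k C).1 (AlgGrp33.isDiagonalizable_of_isTorus ψ hT)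
    haveI := hco
    exact Comod33.Diag.isDiagonalizable_of_no_prim fun x hx => hprim x hx
  haveI : Group.FG (GroupLike k C) := by
    haveI := Hopf35.GL.fg_groupLike (k := k) (B := C)
    infer_instance
  -- rational points commute with torsion points
  have hfix : ∀ (t : pt ⟶ T) (j : ℕ), t ^ (ℓ ^ j) = 1 → ∀ g : pt ⟶ G, g * (t ≫ i) * g⁻¹ = t ≫ i := by
    intro t j ht g
    obtain ⟨c, hc⟩ := hn G (𝟙 G) (toUnit G ≫ t)
    have hcp : ∀ z : pt ⟶ G, (z ≫ c) ≫ i = z * (t ≫ i) * z⁻¹ := fun z => by
      rw [Category.assoc, ← hc, MonObj.comp_mul, MonObj.comp_mul, GrpObj.comp_inv, Category.comp_id, ← Category.assoc,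
        ← Category.assoc, toUnit_unique (z ≫ toUnit G) (𝟙 pt), Category.id_comp]
    let τ : Set (pt ⟶ T) := {s | s ^ (ℓ ^ j) = 1}
    have hτ : τ.Finite := by
      refine ((TorusPts.finite_torsion hC (n := ℓ ^ j) (pow_pos hℓ.pos j)).image (ToriConj.ev ψ)).subset fun s hs => ?_
      obtain ⟨a, rfl⟩ := ToriConj.ev_surjective ψ s
      exact ⟨a, ToriConj.ev_injective ψ (by rw [map_pow, map_one]; exact hs), rfl⟩
    let P : Set T.left := (fun s : pt ⟶ T => s.left (IsLocalRing.closedPoint k)) '' τ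
    have hPf : P.Finite := hτ.image _
    have hPc : ∀ s : Set T.left, s ⊆ P → IsClosed s := by
      intro s hs
      rw [← Set.biUnion_of_singleton s]
      refine (hPf.subset hs).isClosed_biUnion fun y hy => ?_
      obtain ⟨q, -, rfl⟩ := hs hy
      exact rat_isClosed q
    have hmemτ : ∀ z : pt ⟶ G, (z ≫ c).left (IsLocalRing.closedPoint k) ∈ P := fun z => by
      refine ⟨z ≫ c, ?_, rfl⟩
      let φ : (pt ⟶ T) →* (pt ⟶ G) := IsMonHom.monoidHom i pt
      have hφ : Function.Injective φ := fun a b e => (cancel_mono i).1 e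
      refine hφ ?_
      rw [map_pow, map_one, show φ (z ≫ c) = MulAut.conj z (φ t) from hcp z, ← map_pow, ← map_pow, ht, map_one, map_one]
    have hrange : Set.range c.left ⊆ P := range_subset_of_pts c (hPc P le_rfl) hmemτ
    have hconn := (isConnected_range c.left.continuous).isPreconnected
    have hgt : (g ≫ c).left (IsLocalRing.closedPoint k) = ((1 : pt ⟶ G) ≫ c).left (IsLocalRing.closedPoint k) := by
      by_contra hne
      have h1 := isPreconnected_closed_iff.1 hconn {((1 : pt ⟶ G) ≫ c).left (IsLocalRing.closedPoint k)}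
        (P \ {((1 : pt ⟶ G) ≫ c).left (IsLocalRing.closedPoint k)})
        (hPc _ (Set.singleton_subset_iff.2 (hmemτ 1))) (hPc _ Set.diff_subset)
        (fun y hy => by
          by_cases h : y = ((1 : pt ⟶ G) ≫ c).left (IsLocalRing.closedPoint k)
          · exact Or.inl h
          · exact Or.inr ⟨hrange hy, h⟩)
        ⟨_, ⟨(1 : pt ⟶ G).left (IsLocalRing.closedPoint k), by rw [Over.comp_left, Scheme.Hom.comp_apply]⟩, rfl⟩
        ⟨_, ⟨g.left (IsLocalRing.closedPoint k), by rw [Over.comp_left, Scheme.Hom.comp_apply]⟩, hmemτ g, hne⟩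
      obtain ⟨y, -, hy1, -, hy2⟩ := h1
      exact hy2 hy1
    rw [← hcp g, pt_ext _ _ hgt, hcp 1]
    group
  -- so conjugation by a rational point is the identity on the torus
  have hpt : ∀ (g : pt ⟶ G), AGF.conjBy g i = i := by
    intro g
    obtain ⟨w, hw⟩ := hn T (toUnit T ≫ g) (𝟙 T)
    rw [Category.id_comp] at hw
    have hid : w = 𝟙 T := torus_endo_eq_id hT w hℓ.one_lt hℓk fun t j ht => by
      rw [← cancel_mono i, Category.assoc, ← hw, show (toUnit T ≫ g) * i * (toUnit T ≫ g)⁻¹ = AGF.conjBy g i from rfl,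
        UnipRad.pt_conjBy, hfix t j ht g]
    show (toUnit T ≫ g) * i * (toUnit T ≫ g)⁻¹ = i
    rw [hw, hid, Category.id_comp]
  -- hence the torus is central
  haveI := reduced_prod G T
  haveI := lft_prod G T
  haveI := isSeparated_grp G
  have huniv : fst G T * (snd G T ≫ i) = (snd G T ≫ i) * fst G T := BorelFixed.hom_ext_pts _ _ fun p => by
    have := congrArg (fun m => (p ≫ snd G T) ≫ m) (hpt (p ≫ fst G T))
    rw [UnipRad.pt_conjBy] at this
    rw [MonObj.comp_mul, MonObj.comp_mul, ← Category.assoc, mul_inv_eq_iff_eq_mul.1 this]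
  have := lift g x ≫= huniv
  rwa [MonObj.comp_mul, MonObj.comp_mul, lift_fst, lift_snd_assoc] at this

end Groth.Agent.AGF80.Reductive
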