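import Groth.Agent.AGF80.UnipPart
import Groth.Agent.S3278

/-!
Unipotent radicals of Borel subgroups, maximal connected unipotent subgroups, and groups without
unipotent subgroups over an algebraically closed field.
-/

set_option autoImplicit false
set_option linter.unusedSectionVars false
set_option linter.style.haveILetI false
set_option backward.isDefEq.respectTransparency.types false

universe u

open CategoryTheory MonoidalCategory CartesianMonoidalCategory MonObj GrpObj AlgebraicGeometry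

noncomputable section

namespace Groth.Agent.AGF80.UnipRad

open AlgGrp79

/-- Tori are stable under isomorphisms of groups. -/
theorem isTorus_of_grpIso {S : Scheme.{u}} {T T' : Over S} [GrpObj T] [GrpObj T'] (e : T ≅ T') [IsMonHom e.hom]
    (hT : Red.IsTorus T) : Red.IsTorus T' := by
  obtain ⟨S', f, h1, h2, h3, h4⟩ := hT
  refine ⟨S', f, h1, h2, h3, fun s' => ?_⟩
  obtain ⟨U, hU, r, ⟨i⟩⟩ := h4 s'
  haveI : IsMonHom ((Over.pullback (U.ι ≫ f)).mapIso e).hom :=
    inferInstanceAs (IsMonHom ((Over.pullback (U.ι ≫ f)).map e.hom))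
  exact ⟨U, hU, r, ⟨(Grp.mkIso' ((Over.pullback (U.ι ≫ f)).mapIso e)).symm ≪≫ i⟩⟩

/-- Being a torus descends along flat surjective affine morphisms of the base. -/
theorem isTorus_of_bc {S S' : Scheme.{u}} (f : S' ⟶ S) [Flat f] [Surjective f] [IsAffineHom f] {T : Over S} [GrpObj T]
    (hT : Red.IsTorus (Red.bc f T)) : Red.IsTorus T := by
  obtain ⟨S'', g, _, _, h3, h4⟩ := hT
  refine ⟨S'', g ≫ f, inferInstance, inferInstance, fun V hV => ?_, fun s'' => ?_⟩
  · obtain ⟨W, hW, hWV⟩ := h3 (f ⁻¹ᵁ V) (hV.preimage f)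
    refine ⟨W, hW, ?_⟩
    rw [Scheme.Hom.comp_base, TopCat.coe_comp, Set.image_comp, hWV]
    exact Set.image_preimage_eq _ f.surjective
  · obtain ⟨U, hU, r, ⟨i⟩⟩ := h4 s''
    obtain ⟨c⟩ := AlgGrp33.nonempty_bc_comp (U.ι ≫ g) f T
    refine ⟨U, hU, r, ?_⟩
    show Nonempty (Grp.mk (Red.bc (U.ι ≫ g ≫ f) T) ≅ _)
    rw [← Category.assoc]
    exact ⟨c.symm ≪≫ i⟩

variable {k : Type u} [Field k] [IsAlgClosed k]

/-- Commutative groups are solvable. -/
theorem isSolvableGrp_comm {S : Scheme.{u}} (T : Over S) [GrpObj T] [IsCommMonObj T] : Red.IsSolvableGrp T :=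
  ⟨1, fun X => by
    rw [derivedSeries_one, commutator_eq_bot_iff_center_eq_top, eq_top_iff]
    intro x _
    rw [Subgroup.mem_center_iff]
    exact fun y => mul_comm y x⟩

theorem pt_conjBy {G H : Over (Spec (CommRingCat.of k))} [GrpObj G] (g : 𝟙_ (Over (Spec (CommRingCat.of k))) ⟶ G)
    (i : H ⟶ G) (p : 𝟙_ (Over (Spec (CommRingCat.of k))) ⟶ H) : p ≫ AGF.conjBy g i = g * (p ≫ i) * g⁻¹ := by
  rw [BorelConj.comp_conjBy, AGF.conjBy, toUnit_unique (toUnit (𝟙_ (Over (Spec (CommRingCat.of k))))) (𝟙 _),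
    Category.id_comp]

/-- A solvable group is the product of a maximal torus and its unipotent part. -/
theorem pts_decomp {B U T : Over (Spec (CommRingCat.of k))} [GrpObj B] [GrpObj U] [GrpObj T] [IsAffine B.left]
    [Smooth B.hom] [ConnectedSpace B.left] [Smooth U.hom] [ConnectedSpace U.left] (iU : U ⟶ B) [IsMonHom iU]
    [IsClosedImmersion iU.left] (hn : AlgGrp.IsNormalHom iU) (j : T ⟶ B) [IsMonHom j] [IsClosedImmersion j.left]
    (hT : Red.IsTorus T) (F : Finset (𝟙_ (Over (Spec (CommRingCat.of k))) ⟶ B))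
    (hF : ∀ x, ∃ t : 𝟙_ (Over (Spec (CommRingCat.of k))) ⟶ T, ∃ f ∈ F,
      ∃ y : 𝟙_ (Over (Spec (CommRingCat.of k))) ⟶ U, x = (t ≫ j) * f * (y ≫ iU))
    (x : 𝟙_ (Over (Spec (CommRingCat.of k))) ⟶ B) :
    ∃ (t : 𝟙_ (Over (Spec (CommRingCat.of k))) ⟶ T) (y : 𝟙_ (Over (Spec (CommRingCat.of k))) ⟶ U),
      x = (t ≫ j) * (y ≫ iU) := by
  obtain ⟨_, _, _, _, _⟩ := AlgGrp33.IsogSub.torus_props hT
  haveI : IsAffine U.left := isAffine_of_isAffineHom iU.left
  haveI := isIntegral_grp B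
  haveI := isIntegral_grp T
  haveI := isIntegral_grp U
  haveI : IsReduced B.left := isReduced_of_smooth B.hom
  let A : Fam B :=
    { X := T ⊗ U
      f := (fst T U ≫ j) * (snd T U ≫ iU)
      x := lift 1 1
      hx := by simp [MonObj.comp_mul, MonObj.one_comp]
      red := reduced_prod T U
      irr := irreducible_prod T U
      lft := lft_prod T U
      qc := qc_prod T U }
  obtain ⟨D, _, iD, _, _, _, _, hD⟩ := exists_generated A
  let pt := 𝟙_ (Over (Spec (CommRingCat.of k)))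
  let φ : (pt ⟶ T) →* (pt ⟶ B) := IsMonHom.monoidHom j pt
  let ψ : (pt ⟶ U) →* (pt ⟶ B) := IsMonHom.monoidHom iU pt
  haveI : ψ.range.Normal := ⟨by
    rintro _ ⟨y, rfl⟩ g
    obtain ⟨n, hn'⟩ := hn pt g y
    exact ⟨n, hn'.symm⟩⟩
  have hsub : Subgroup.closure A.pts ≤ φ.range ⊔ ψ.range := by
    rw [Subgroup.closure_le]
    rintro _ ⟨p, rfl⟩
    show p ≫ ((fst T U ≫ j) * (snd T U ≫ iU)) ∈ φ.range ⊔ ψ.range
    rw [MonObj.comp_mul, ← Category.assoc, ← Category.assoc]
    exact mul_mem (Subgroup.mem_sup_left ⟨_, rfl⟩) (Subgroup.mem_sup_right ⟨_, rfl⟩)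
  have hcov : ∀ z : pt ⟶ B, ∃ f ∈ F, ∃ d : pt ⟶ D, z = (d ≫ iD) * f := by
    intro z
    obtain ⟨t, f, hf, y, rfl⟩ := hF z
    refine ⟨f, hf, ?_⟩
    obtain ⟨y', hy'⟩ := hn pt f y
    have h1 : (t ≫ j) * (y' ≫ iU) ∈ A.pts := ⟨lift t y', by simp [A, MonObj.comp_mul]⟩
    obtain ⟨d, hd⟩ := hD.ge (Subgroup.subset_closure h1)
    refine ⟨d, ?_⟩
    rw [show d ≫ iD = _ from hd, ← hy']
    group
  let R : (pt ⟶ B) → (B ⟶ B) := fun f => 𝟙 B * (toUnit B ≫ f)
  have hR : ∀ f (z : pt ⟶ B), z ≫ R f = z * f := fun f z => by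
    show z ≫ (𝟙 B * (toUnit B ≫ f)) = z * f
    rw [MonObj.comp_mul, Category.comp_id, ← Category.assoc,
      toUnit_unique (z ≫ toUnit B) (𝟙 (𝟙_ (Over (Spec (CommRingCat.of k))))), Category.id_comp]
  have hRi : ∀ f, IsIso (R f) := fun f => ⟨R f⁻¹, by
      simp [R, MonObj.comp_mul, GrpObj.comp_inv], by
      simp [R, MonObj.comp_mul, GrpObj.comp_inv]⟩
  let Z : (pt ⟶ B) → Set B.left := fun f => Set.range (iD ≫ R f).left
  have hZc : ∀ f, IsClosed (Z f) := fun f => by
    haveI := hRi f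
    haveI : IsIso (R f).left := (Over.forget _).map_isIso (R f)
    haveI : IsClosedImmersion (iD ≫ R f).left := inferInstanceAs (IsClosedImmersion (iD.left ≫ (R f).left))
    exact (iD ≫ R f).left.isClosedEmbedding.isClosed_range
  have hall : Set.range (𝟙 B : B ⟶ B).left ⊆ ⋃₀ ↑(F.image Z) := by
    refine range_subset_of_pts (𝟙 B) ?_ fun p => ?_
    · rw [Set.sUnion_eq_biUnion]
      exact (Finset.finite_toSet _).isClosed_biUnion (by simp [hZc])
    obtain ⟨f, hf, d, hd⟩ := hcov p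
    rw [Category.comp_id, Set.mem_sUnion]
    exact ⟨Z f, Finset.mem_coe.2 (Finset.mem_image_of_mem _ hf), d.left (IsLocalRing.closedPoint k), by
      rw [← Scheme.Hom.comp_apply, ← Over.comp_left, ← Category.assoc, hR, ← hd]⟩
  obtain ⟨C, hC, hCu⟩ := (isIrreducible_iff_sUnion_isClosed.1 (IrreducibleSpace.isIrreducible_univ B.left)) (F.image Z)
    (fun C hC => by obtain ⟨f, -, rfl⟩ := Finset.mem_image.1 hC; exact hZc f)
    (fun z _ => hall ⟨z, rfl⟩)
  obtain ⟨f, -, rfl⟩ := Finset.mem_image.1 hC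
  haveI := hRi f
  haveI : IsIso (R f).left := (Over.forget _).map_isIso (R f)
  haveI : Surjective iD.left := ⟨fun z => by
    obtain ⟨w, hw⟩ := hCu (Set.mem_univ ((R f).left z))
    exact ⟨w, (R f).left.homeomorph.injective hw⟩⟩
  obtain ⟨d, rfl⟩ := BorelImage.exists_pt_lift iD x
  have hmem : d ≫ iD ∈ φ.range ⊔ ψ.range := hsub (hD.le ⟨d, rfl⟩)
  have hmem' := (Subgroup.mul_normal φ.range ψ.range).le hmem
  obtain ⟨_, ⟨t, rfl⟩, _, ⟨y, rfl⟩, e⟩ := hmem'
  exact ⟨t, y, e.symm⟩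

variable {G : Over (Spec (CommRingCat.of k))} [GrpObj G] [IsAffine G.left] [Smooth G.hom] [ConnectedSpace G.left]

/-- A maximal connected unipotent subgroup is the unipotent radical of a Borel subgroup. -/
theorem exists_borel_of_maxUnip {U : Over (Spec (CommRingCat.of k))} [GrpObj U] (iU : U ⟶ G) [IsMonHom iU]
    [IsClosedImmersion iU.left] [Smooth U.hom] [ConnectedSpace U.left] (nU : Red.HasNoSubtorus k U)
    (maxU : ∀ (V : Over (Spec (CommRingCat.of k))) [GrpObj V] (j : V ⟶ G) [IsMonHom j] (f : U ⟶ V),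
      IsClosedImmersion j.left → Smooth V.hom → ConnectedSpace V.left → Red.HasNoSubtorus k V → f ≫ j = iU → IsIso f) :
    ∃ (B : Over (Spec (CommRingCat.of k))) (_ : GrpObj B) (iB : B ⟶ G) (_ : Red.IsBorelOver k iB) (u : U ⟶ B),
      u ≫ iB = iU ∧ Par.IsUnipotentRadical u := by
  haveI : IsAffine U.left := isAffine_of_isAffineHom iU.left
  obtain ⟨B, _, iB, f, hB, hf⟩ := BorelCor.exists_borel_ge G iU (UnipBasic.isSolvableGrp_unip U nU)
  obtain ⟨_, _, _, _, hsB, -⟩ := id hB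
  haveI : IsAffine B.left := isAffine_of_isAffineHom iB.left
  haveI : Mono iB := Over.mono_of_mono_left iB
  haveI := BorelCor.isMonHom_factor f iB iU hf
  haveI : IsClosedImmersion f.left := by
    haveI : IsClosedImmersion (f.left ≫ iB.left) := by rw [← Over.comp_left, hf]; infer_instance
    exact IsClosedImmersion.of_comp f.left iB.left
  obtain ⟨W, _, iW, _, _, _, _, nW, hnW, hmW, -⟩ := UnipPart.exists_unipPart B hsB
  obtain ⟨e, he⟩ := hmW U f inferInstance inferInstance inferInstance nU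
  haveI : IsClosedImmersion (iW ≫ iB).left := inferInstanceAs (IsClosedImmersion (iW.left ≫ iB.left))
  haveI := maxU W (iW ≫ iB) e inferInstance inferInstance inferInstance nW (by rw [reassoc_of% he, hf])
  haveI : IsAffine W.left := isAffine_of_isAffineHom iW.left
  refine ⟨B, inferInstance, iB, hB, f, hf, UnipBasic.isUnipotentRadical_of_largest f ?_ nU ?_⟩
  · intro T g n
    obtain ⟨n', hn'⟩ := hnW T g (n ≫ e)
    exact ⟨n' ≫ inv e, by rw [← he, ← Category.assoc n e iW, hn', Category.assoc, IsIso.inv_hom_id_assoc]⟩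
  · intro V _ v _ hv hvs hvc _ nV
    obtain ⟨a, ha⟩ := hmW V v hv hvs hvc nV
    exact ⟨a ≫ inv e, by rw [← he, Category.assoc, IsIso.inv_hom_id_assoc, ha]⟩

/-- Maximal connected unipotent subgroups are conjugate. -/
theorem maxUnip_conj {U U' : Over (Spec (CommRingCat.of k))} [GrpObj U] [GrpObj U'] (iU : U ⟶ G) (iU' : U' ⟶ G)
    [IsMonHom iU] [IsMonHom iU'] [IsClosedImmersion iU.left] [IsClosedImmersion iU'.left]
    [Smooth U.hom] [Smooth U'.hom] [ConnectedSpace U.left] [ConnectedSpace U'.left]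
    (nU : Red.HasNoSubtorus k U) (nU' : Red.HasNoSubtorus k U')
    (maxU : ∀ (V : Over (Spec (CommRingCat.of k))) [GrpObj V] (j : V ⟶ G) [IsMonHom j] (f : U ⟶ V),
      IsClosedImmersion j.left → Smooth V.hom → ConnectedSpace V.left → Red.HasNoSubtorus k V → f ≫ j = iU → IsIso f)
    (maxU' : ∀ (V : Over (Spec (CommRingCat.of k))) [GrpObj V] (j : V ⟶ G) [IsMonHom j] (f : U' ⟶ V),
      IsClosedImmersion j.left → Smooth V.hom → ConnectedSpace V.left → Red.HasNoSubtorus k V → f ≫ j = iU' → IsIso f) :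
    ∃ (g : 𝟙_ (Over (Spec (CommRingCat.of k))) ⟶ G) (e : U ≅ U'), e.hom ≫ iU' = AGF.conjBy g iU := by
  obtain ⟨B, _, iB, hB, u, hu, -⟩ := exists_borel_of_maxUnip iU nU maxU
  obtain ⟨B', _, iB', hB', u', hu', hu'rad⟩ := exists_borel_of_maxUnip iU' nU' maxU'
  obtain ⟨g, f, hf⟩ := BorelConj.borel_conj G B B' iB iB' hB hB'
  obtain ⟨_, _, _, _, hsB', -⟩ := id hB'
  haveI : IsAffine B'.left := isAffine_of_isAffineHom iB'.left
  haveI : Mono iB' := Over.mono_of_mono_left iB'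
  haveI := BorelConj.isMonHom_conjBy g iU
  haveI := BorelConj.isClosedImmersion_conjBy g iU
  have hcomp : (u ≫ f.hom) ≫ iB' = AGF.conjBy g iU := by rw [Category.assoc, hf, BorelConj.comp_conjBy, hu]
  haveI := BorelCor.isMonHom_factor (u ≫ f.hom) iB' (AGF.conjBy g iU) hcomp
  haveI : IsClosedImmersion (u ≫ f.hom).left := by
    haveI : IsClosedImmersion ((u ≫ f.hom).left ≫ iB'.left) := by rw [← Over.comp_left, hcomp]; infer_instance
    exact IsClosedImmersion.of_comp (u ≫ f.hom).left iB'.left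
  obtain ⟨W, _, iW, _, _, _, _, nW, -, hmW, -⟩ := UnipPart.exists_unipPart B' hsB'
  haveI := BorelCor.isMonHom_factor u' iB' iU' hu'
  haveI : IsClosedImmersion u'.left := hu'rad.2.1
  obtain ⟨a, ha⟩ := hmW U (u ≫ f.hom) inferInstance inferInstance inferInstance nU
  obtain ⟨a', ha'⟩ := hmW U' u' inferInstance inferInstance inferInstance nU'
  haveI : IsClosedImmersion (iW ≫ iB').left := inferInstanceAs (IsClosedImmersion (iW.left ≫ iB'.left))
  haveI := maxU' W (iW ≫ iB') a' inferInstance inferInstance inferInstance nW (by rw [reassoc_of% ha', hu'])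
  have he : (a ≫ inv a') ≫ iU' = AGF.conjBy g iU := by
    rw [← hcomp, ← ha, ← hu', ← ha']
    simp
  haveI := BorelConj.isMonHom_conjBy g⁻¹ iU'
  haveI := maxU U' (AGF.conjBy g⁻¹ iU') (a ≫ inv a') (BorelConj.isClosedImmersion_conjBy g⁻¹ iU') inferInstance
    inferInstance nU' (by rw [BorelConj.comp_conjBy, he, BorelConj.conjBy_conjBy, inv_mul_cancel, BorelConj.conjBy_one])
  exact ⟨g, asIso (a ≫ inv a'), he⟩

/-- The unipotent radical lies in the unipotent radical of every Borel subgroup. -/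
theorem unipRad_le {U : Over (Spec (CommRingCat.of k))} [GrpObj U] {u : U ⟶ G} (hU : Par.IsUnipotentRadical u)
    {B : Over (Spec (CommRingCat.of k))} [GrpObj B] {iB : B ⟶ G} (hB : Red.IsBorelOver k iB)
    {V : Over (Spec (CommRingCat.of k))} [GrpObj V] {v : V ⟶ B} (hV : Par.IsUnipotentRadical v) :
    ∃ f : U ⟶ V, f ≫ v ≫ iB = u := by
  obtain ⟨_, _, hn, _, -, -, -⟩ := id hU
  obtain ⟨_, _, _, _, hsB, -⟩ := id hB
  haveI : IsAffine U.left := isAffine_of_isAffineHom u.left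
  haveI : IsAffine B.left := isAffine_of_isAffineHom iB.left
  haveI : Mono iB := Over.mono_of_mono_left iB
  obtain ⟨_, nU⟩ := UnipBasic.connected_noSubtorus_of_isUnipotentRadical hU
  obtain ⟨B₀, _, i₀, f₀, hB₀, hf₀⟩ := BorelCor.exists_borel_ge G u (UnipBasic.isSolvableGrp_unip U nU)
  obtain ⟨g, f, hf⟩ := BorelConj.borel_conj G B₀ B i₀ iB hB₀ hB
  obtain ⟨n', hn'⟩ := hn U (toUnit U ≫ g⁻¹) (𝟙 U)
  have hu : u = AGF.conjBy g (n' ≫ u) := by
    rw [← hn', AGF.conjBy, Category.id_comp, GrpObj.comp_inv]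
    group
  let w : U ⟶ B := n' ≫ f₀ ≫ f.hom
  have hw : w ≫ iB = u := by
    rw [Category.assoc, Category.assoc, hf, BorelConj.comp_conjBy, hf₀, BorelConj.comp_conjBy, ← hu]
  haveI := BorelCor.isMonHom_factor w iB u hw
  haveI : IsClosedImmersion w.left := by
    haveI : IsClosedImmersion (w.left ≫ iB.left) := by rw [← Over.comp_left, hw]; infer_instance
    exact IsClosedImmersion.of_comp w.left iB.left
  obtain ⟨W, _, iW, _, _, _, _, nW, hnW, hmW, -⟩ := UnipPart.exists_unipPart B hsB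
  have hW : Par.IsUnipotentRadical iW := UnipBasic.isUnipotentRadical_of_largest iW hnW nW
    fun V' _ v' _ h1 h2 h3 _ h5 => hmW V' v' h1 h2 h3 h5
  obtain ⟨a, ha⟩ := hmW U w inferInstance inferInstance inferInstance nU
  obtain ⟨b, hb⟩ := hV.2.2.2.2.2.2 W iW inferInstance hnW inferInstance hW.2.2.2.2.1 hW.2.2.2.2.2.1
  exact ⟨a ≫ b, by rw [Category.assoc, reassoc_of% hb, reassoc_of% ha, hw]⟩

/-- A group without nontrivial connected unipotent subgroups is a torus. -/
theorem isTorus_of_no_unip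
    (h : ∀ (U : Over (Spec (CommRingCat.of k))) [GrpObj U] (i : U ⟶ G) [IsMonHom i], IsClosedImmersion i.left →
      Smooth U.hom → ConnectedSpace U.left → Red.HasNoSubtorus k U → Red.IsTrivialGrp U) : Red.IsTorus G := by
  obtain ⟨B, _, iB, hB⟩ := BorelCor.exists_borel G
  obtain ⟨_, _, _, _, hsB, -⟩ := id hB
  haveI : IsAffine B.left := isAffine_of_isAffineHom iB.left
  haveI : Mono iB := Over.mono_of_mono_left iB
  haveI : IsReduced B.left := isReduced_of_smooth B.hom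
  obtain ⟨W, _, iW, _, _, _, _, nW, hnW, -, T, _, j, _, _, hT, F, hF⟩ := UnipPart.exists_unipPart B hsB
  have hWt : IsIso W.hom :=
    h W (iW ≫ iB) (inferInstanceAs (IsClosedImmersion (iW.left ≫ iB.left))) inferInstance inferInstance nW
  have hy1 : ∀ y : 𝟙_ (Over (Spec (CommRingCat.of k))) ⟶ W, y ≫ iW = 1 := by
    intro y
    have : y = 1 := by
      apply Over.OverMorphism.ext
      rw [← cancel_mono W.hom, Over.w, Over.w]
    rw [this, MonObj.one_comp]
  haveI : Mono j := Over.mono_of_mono_left j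
  obtain ⟨_, _, _, _, _⟩ := AlgGrp33.IsogSub.torus_props hT
  obtain ⟨r, hr⟩ := BorelCor.exists_factor_of_pts (𝟙 B) j fun p => by
    obtain ⟨t, y, hty⟩ := pts_decomp iW hnW j hT F hF p
    exact ⟨t, by rw [Category.comp_id, hty, hy1, _root_.mul_one]⟩
  let e : T ≅ B := ⟨j, r, by rw [← cancel_mono j, Category.assoc, hr, Category.comp_id, Category.id_comp], hr⟩
  haveI : IsMonHom r := BorelCor.isMonHom_factor r j (𝟙 B) hr
  have hBcomm : ∀ (X : Over (Spec (CommRingCat.of k))) (a b : X ⟶ B), a * b = b * a := fun X a b => by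
    rw [← Category.comp_id a, ← Category.comp_id b, ← hr, ← Category.assoc, ← Category.assoc, ← MonObj.mul_comp _ _ j,
      ← MonObj.mul_comp _ _ j, mul_comm (a ≫ r) (b ≫ r)]
  have hcen : ∀ (X : Over (Spec (CommRingCat.of k))) (b : X ⟶ B) (x : X ⟶ G), (b ≫ iB) * x = x * (b ≫ iB) :=
    fun X b x => BorelOps.comm_all_of_comm_borel G iB hB (b ≫ iB) (fun X' u b' => by
      rw [← Category.assoc, ← MonObj.mul_comp _ _ iB, ← MonObj.mul_comp _ _ iB, hBcomm]) x
  have hnorm : AlgGrp.IsNormalHom iB := fun X g n => ⟨n, by rw [← hcen, mul_inv_cancel_right]⟩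
  obtain ⟨Q, _, q, _, _, _, _, _, hker⟩ := Groth.Agent.S3278.result k G B iB hnorm
  have hq : iB ≫ q = iB ≫ (1 : G ⟶ Q) := by
    rw [MonObj.comp_one, Hom.one_def, hker.w]
  haveI : IsMonHom (1 : G ⟶ Q) := AlgGrp79.isMonHom_of_forall _ fun X a b => by simp [MonObj.comp_one]
  have hq1 := BorelOps.hom_eq_of_eq_on_borel G Q iB hB q 1 hq
  obtain ⟨s, hs, -⟩ := hker.exists_lift (𝟙 G) (toUnit G) (by rw [Category.id_comp, hq1, Hom.one_def])
  let e' : B ≅ G := ⟨iB, s, by rw [← cancel_mono iB, Category.assoc, hs, Category.comp_id, Category.id_comp], hs⟩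
  haveI : IsMonHom (e ≪≫ e').hom := inferInstanceAs (IsMonHom (j ≫ iB))
  exact isTorus_of_grpIso (e ≪≫ e') hT

end Groth.Agent.AGF80.UnipRad
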