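import Groth.Agent.AGF80.Reductive
import Groth.Agent.AlgGrp79.CentralTorus
import Groth.Agent.AlgGrp33.SpecLaws
import Groth.Agent.S3267
import Groth.Agent.S7957

/-!
Nilpotent connected affine groups over an algebraically closed field and their maximal tori.
-/

set_option autoImplicit false
set_option linter.unusedSectionVars false
set_option linter.style.haveILetI false
set_option backward.isDefEq.respectTransparency.types false

universe u

open CategoryTheory MonoidalCategory CartesianMonoidalCategory MonObj GrpObj AlgebraicGeometry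
open WithConv Groth.Agent.GMod80
open scoped commutatorElement

noncomputable section

namespace Groth.Agent.AGF80.Nilp

open AlgGrp79

variable {k : Type u} [Field k] [IsAlgClosed k]

/-- Morphisms from a torus to an affine scheme with group structure agreeing on torsion points are equal. -/
theorem torus_hom_ext {T G : Over (Spec (CommRingCat.of k))} [GrpObj T] [GrpObj G] [IsAffine G.left]
    (hT : Red.IsTorus T) (a b : T ⟶ G) {ℓ : ℕ} (hℓ : 1 < ℓ) (hℓk : (ℓ : k) ≠ 0)
    (h : ∀ (t : 𝟙_ (Over (Spec (CommRingCat.of k))) ⟶ T) (j : ℕ), t ^ (ℓ ^ j) = 1 → t ≫ a = t ≫ b) : a = b := by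
  obtain ⟨_, _, _, _, _⟩ := AlgGrp33.IsogSub.torus_props hT
  obtain ⟨A, _, _, ψG, _⟩ := exists_coord G
  obtain ⟨C, _, _, ψ, _⟩ := exists_coord T
  haveI : Algebra.FiniteType k C := finiteType ψ
  haveI : IsDomain C := by
    haveI := Hopf35.TorDom.isDomain_tensor ψ hT k
    exact (Algebra.TensorProduct.lid k C).symm.toMulEquiv.isDomain _
  have hC : HopfRep.IsDiagonalizable k C := by
    obtain ⟨hco, hprim⟩ := (Groth.Agent.S7979.result k C).1 (AlgGrp33.isDiagonalizable_of_isTorus ψ hT)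
    haveI := hco
    exact Comod33.Diag.isDiagonalizable_of_no_prim fun x hx => hprim x hx
  have hp : pull ψG ψ a = pull ψG ψ b := by
    refine AlgHom.ext fun c => sub_eq_zero.1 (TorusPts.eq_zero_of_torsion hC hℓ hℓk fun g hg => ?_)
    obtain ⟨j, hj⟩ := hg
    have h1 := h (ToriConj.ev ψ g) j (by rw [← map_pow, hj, map_one])
    have h2 : ∀ w : T ⟶ G, ToriConj.ev ψ g ≫ w = ToriConj.ev ψG (toConv (g.ofConv.comp (pull ψG ψ w))) := fun w => by
      show (ToriConj.pt0 ≫ e ψ k g) ≫ w = ToriConj.pt0 ≫ e ψG k _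
      rw [Category.assoc, e_comp ψG ψ w]
    rw [h2, h2] at h1
    rw [map_sub, sub_eq_zero]
    exact DFunLike.congr_fun (congrArg WithConv.ofConv (ToriConj.ev_injective ψG h1)) c
  have ha := e_comp ψG ψ a (toConv (AlgHom.id k C))
  have hb := e_comp ψG ψ b (toConv (AlgHom.id k C))
  rw [hp, ← hb, e_id] at ha
  exact (cancel_epi ψ.hom).1 ha

/-- Powers prime to the characteristic are injective on connected unipotent groups. -/
theorem pow_injective_unip {U : Over (Spec (CommRingCat.of k))} [GrpObj U] [IsAffine U.left] [Smooth U.hom]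
    [ConnectedSpace U.left] (hU : Red.HasNoSubtorus k U) {n : ℕ} (hn : (n : k) ≠ 0) :
    Function.Injective fun x : 𝟙_ (Over (Spec (CommRingCat.of k))) ⟶ U => x ^ n := by
  obtain ⟨Q, _, _, _, ψ, _, hQ⟩ := UnipBasic.exists_unip_coord U hU
  intro x y hxy
  obtain ⟨a, rfl⟩ := ToriConj.ev_surjective ψ x
  obtain ⟨b, rfl⟩ := ToriConj.ev_surjective ψ y
  have hb := (Groth.Agent.S7957.result k Q hQ n fun h => hn ((ringChar.spec k n).2 h)).1
  exact congrArg _ (hb (ToriConj.ev_injective ψ (by rw [map_pow, map_pow]; exact hxy)))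

variable (G : Over (Spec (CommRingCat.of k))) [GrpObj G] [IsAffine G.left] [Smooth G.hom] [ConnectedSpace G.left]

/-- Tori of nilpotent groups are central. -/
theorem torus_central (hnil : AGF.IsNilpotentGrp G) {T : Over (Spec (CommRingCat.of k))} [GrpObj T] (hT : Red.IsTorus T)
    (iT : T ⟶ G) [IsMonHom iT] [Mono iT] (X : Over (Spec (CommRingCat.of k))) (g : X ⟶ G) (x : X ⟶ T) :
    g * (x ≫ iT) = (x ≫ iT) * g := by
  obtain ⟨N, hN⟩ := hnil
  let pt := 𝟙_ (Over (Spec (CommRingCat.of k)))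
  haveI : Group.IsNilpotent (pt ⟶ G) := ⟨⟨N, hN pt⟩⟩
  have hs : Red.IsSolvableGrp G := BorelConj.isSolvableGrp_of_pts G
  obtain ⟨U, _, iU, _, _, _, _, nU, hnU, -, T₀, _, j, _, _, hT₀, F, hF⟩ := UnipPart.exists_unipPart G hs
  haveI : IsReduced G.left := isReduced_of_smooth G.hom
  haveI : IsAffine U.left := isAffine_of_isAffineHom iU.left
  haveI : Mono iU := Over.mono_of_mono_left iU
  obtain ⟨_, _, _, _, _⟩ := AlgGrp33.IsogSub.torus_props hT₀
  obtain ⟨ℓ, hℓ, hℓk⟩ := SolvTori.exists_ell (k := k)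
  let φ : (pt ⟶ U) →* (pt ⟶ G) := IsMonHom.monoidHom iU pt
  have hφ : Function.Injective φ := fun a b e => (cancel_mono iU).1 e
  have hU : ∀ (τ : pt ⟶ G) (m : ℕ), τ ^ (ℓ ^ m) = 1 → ∀ (i : ℕ) (u : pt ⟶ U),
      φ u ∈ Subgroup.upperCentralSeries (pt ⟶ G) i → τ * φ u = φ u * τ := by
    intro τ m ht i
    induction i with
    | zero =>
      intro u hu
      rw [Subgroup.upperCentralSeries_zero, Subgroup.mem_bot] at hu
      rw [hu, _root_.mul_one, _root_.one_mul]
    | succ i ih =>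
      intro u hu
      obtain ⟨c, hc⟩ := hnU pt τ u
      let d : pt ⟶ U := c * u⁻¹
      have hd : φ d = τ * φ u * τ⁻¹ * (φ u)⁻¹ := by
        rw [map_mul, map_inv, show φ c = τ * φ u * τ⁻¹ from hc.symm]
      have hdc : φ d ∈ Subgroup.upperCentralSeries (pt ⟶ G) i := by
        have h1 := inv_mem (Subgroup.mem_upperCentralSeries_succ_iff.1 hu τ)
        rw [commutatorElement_inv] at h1
        rw [hd]
        exact h1
      have hcomm := ih d hdc
      have hiter : ∀ n : ℕ, τ ^ n * φ u * (τ ^ n)⁻¹ = φ d ^ n * φ u := by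
        intro n
        induction n with
        | zero => simp
        | succ n ihn =>
          have hs : Commute τ (φ d ^ n) := Commute.pow_right hcomm n
          rw [pow_succ' τ n, pow_succ (φ d) n,
            show τ * τ ^ n * φ u * (τ * τ ^ n)⁻¹ = τ * (τ ^ n * φ u * (τ ^ n)⁻¹) * τ⁻¹ by group, ihn,
            show τ * (φ d ^ n * φ u) * τ⁻¹ = τ * φ d ^ n * τ⁻¹ * (τ * φ u * τ⁻¹ * (φ u)⁻¹ * φ u) by group, ← hd, hs.eq]
          group
      have hd1 : d = 1 := by
        refine pow_injective_unip nU (n := ℓ ^ m) (by rw [Nat.cast_pow]; exact pow_ne_zero _ hℓk) ?_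
        show d ^ (ℓ ^ m) = 1 ^ (ℓ ^ m)
        refine hφ ?_
        have h1 := hiter (ℓ ^ m)
        rw [ht, _root_.one_mul, inv_one, _root_.mul_one] at h1
        rw [map_pow, one_pow, map_one]
        exact mul_right_cancel (h1.symm.trans (_root_.one_mul _).symm)
      rw [hd1, map_one] at hd
      exact mul_inv_eq_iff_eq_mul.1 (mul_inv_eq_one.1 hd.symm)
  have main : ∀ (T : Over (Spec (CommRingCat.of k))) [GrpObj T], Red.IsTorus T → ∀ (i : T ⟶ G) [IsMonHom i],
      (∀ (s : pt ⟶ T₀) (t : pt ⟶ T), (s ≫ j) * (t ≫ i) = (t ≫ i) * (s ≫ j)) →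
      ∀ (Y : Over (Spec (CommRingCat.of k))) (g : Y ⟶ G) (t : Y ⟶ T), g * (t ≫ i) = (t ≫ i) * g := by
    intro T _ hT i _ hc Y g t
    obtain ⟨_, _, _, _, _⟩ := AlgGrp33.IsogSub.torus_props hT
    haveI : IsReduced T.left := isReduced_of_smooth T.hom
    haveI := lft_prod G T
    haveI := reduced_prod G T
    have hpt : ∀ g : pt ⟶ G, AGF.conjBy g i = i := by
      intro g
      refine torus_hom_ext hT _ _ hℓ.one_lt hℓk fun t m ht => ?_
      rw [UnipRad.pt_conjBy]
      obtain ⟨s, y, rfl⟩ := UnipRad.pts_decomp iU hnU j hT₀ F hF g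
      have ht' : (t ≫ i) ^ (ℓ ^ m) = 1 := by
        show (IsMonHom.monoidHom i pt t) ^ (ℓ ^ m) = 1
        rw [← map_pow, ht, map_one]
      have h1 : (t ≫ i) * (y ≫ iU) = (y ≫ iU) * (t ≫ i) := hU _ m ht' N y (hN pt ▸ Subgroup.mem_top _)
      calc (s ≫ j) * (y ≫ iU) * (t ≫ i) * ((s ≫ j) * (y ≫ iU))⁻¹
          = (s ≫ j) * ((y ≫ iU) * (t ≫ i)) * (y ≫ iU)⁻¹ * (s ≫ j)⁻¹ := by group
        _ = (s ≫ j) * (t ≫ i) * (s ≫ j)⁻¹ := by rw [← h1]; group
        _ = t ≫ i := by rw [hc, mul_inv_cancel_right]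
    haveI := isSeparated_grp G
    have huniv : fst G T * (snd G T ≫ i) = (snd G T ≫ i) * fst G T := BorelFixed.hom_ext_pts _ _ fun p => by
      have := congrArg (fun m => (p ≫ snd G T) ≫ m) (hpt (p ≫ fst G T))
      rw [UnipRad.pt_conjBy] at this
      rw [MonObj.comp_mul, MonObj.comp_mul, ← Category.assoc, mul_inv_eq_iff_eq_mul.1 this]
    have := lift g t ≫= huniv
    rwa [MonObj.comp_mul, MonObj.comp_mul, lift_fst, lift_snd_assoc] at this
  have hcen := main T₀ hT₀ j fun s t => by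
    rw [← MonObj.mul_comp _ _ j, ← MonObj.mul_comp _ _ j, mul_comm s t]
  exact main T hT iT (fun s t => (hcen pt (t ≫ iT) s).symm) X g x

/-- Maximal tori exist. -/
theorem exists_isMaxTorus : ∃ (T : Over (Spec (CommRingCat.of k))) (_ : GrpObj T) (iT : T ⟶ G), AGF.IsMaxTorus iT := by
  obtain ⟨B, _, iB, _, _, _, _, hsB, X, a, o, hX, _⟩ := BorelConj.exists_solvable_proper G
  haveI : IsAffine B.left := isAffine_of_isAffineHom iB.left
  haveI : Mono iB := Over.mono_of_mono_left iB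
  obtain ⟨T₁, _, j₁, _, _, hT₁, hconj⟩ := ToriConj.exists_maxTorus B hsB
  obtain ⟨_, _, _, _, _⟩ := AlgGrp33.IsogSub.torus_props hT₁
  haveI : IsClosedImmersion (j₁ ≫ iB).left := inferInstanceAs (IsClosedImmersion (j₁.left ≫ iB.left))
  haveI : Mono (j₁ ≫ iB) := Over.mono_of_mono_left _
  refine ⟨T₁, inferInstance, j₁ ≫ iB, inferInstance, inferInstance, hT₁, fun T' _ j _ _ f hT' hf => ?_⟩
  obtain ⟨_, _, _, _, _⟩ := AlgGrp33.IsogSub.torus_props hT'
  haveI : IsClosedImmersion j.left := BorelCor.isClosedImmersion_torus G hT' j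
  haveI := isSeparated_grp G
  obtain ⟨g, φ, hφ⟩ := BorelConj.exists_conj_into iB hX (BorelCor.isSolvableGrp_torus hT') j
  haveI := BorelConj.isMonHom_conjBy g iB
  haveI := BorelConj.isClosedImmersion_conjBy g iB
  haveI : Mono (AGF.conjBy g iB) := Over.mono_of_mono_left _
  haveI := BorelCor.isMonHom_factor φ (AGF.conjBy g iB) j hφ
  obtain ⟨b, χ, hχ⟩ := hconj T' hT' φ
  haveI := BorelConj.isClosedImmersion_conjBy b j₁
  haveI : IsClosedImmersion φ.left := by
    haveI : IsClosedImmersion (φ.left ≫ (AGF.conjBy g iB).left) := by rw [← Over.comp_left, hφ]; infer_instance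
    exact IsClosedImmersion.of_comp φ.left (AGF.conjBy g iB).left
  haveI : IsClosedImmersion χ.left := by
    haveI : IsClosedImmersion (χ.left ≫ (AGF.conjBy b j₁).left) := by rw [← Over.comp_left, hχ]; infer_instance
    exact IsClosedImmersion.of_comp χ.left (AGF.conjBy b j₁).left
  haveI : IsClosedImmersion f.left := by
    haveI : IsClosedImmersion (f.left ≫ j.left) := by rw [← Over.comp_left, hf]; infer_instance
    exact IsClosedImmersion.of_comp f.left j.left
  haveI := Var76.FibreBound.noetherianSpace T₁.hom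
  haveI : Surjective f.left := by
    haveI := BorelConj.surjective_endo (f.left ≫ χ.left)
    refine ⟨fun z => ?_⟩
    obtain ⟨w, hw⟩ := (f.left ≫ χ.left).surjective (χ.left z)
    exact ⟨w, χ.left.isClosedEmbedding.injective hw⟩
  haveI : IsReduced T'.left := isReduced_of_smooth T'.hom
  exact BorelConj.isIso_of_surj f

/-- A group with a unique maximal torus is nilpotent. -/
theorem isNilpotentGrp_of_unique (huniq : ∀ (T T' : Over (Spec (CommRingCat.of k))) [GrpObj T] [GrpObj T'] (iT : T ⟶ G)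
      (iT' : T' ⟶ G), AGF.IsMaxTorus iT → AGF.IsMaxTorus iT' → ∃ f : T ≅ T', f.hom ≫ iT' = iT)
    {T : Over (Spec (CommRingCat.of k))} [GrpObj T] (iT : T ⟶ G) (hT : AGF.IsMaxTorus iT) : AGF.IsNilpotentGrp G := by
  obtain ⟨_, _, hTt, -⟩ := id hT
  obtain ⟨_, _, _, _, _⟩ := AlgGrp33.IsogSub.torus_props hTt
  haveI : IsReduced G.left := isReduced_of_smooth G.hom
  haveI : IsReduced T.left := isReduced_of_smooth T.hom
  haveI := BorelCor.isClosedImmersion_torus G hTt iT
  let pt := 𝟙_ (Over (Spec (CommRingCat.of k)))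
  have hn : AlgGrp.IsNormalHom iT := UnipBasic.isNormalHom_of_pts iT fun g t => by
    obtain ⟨f, hf⟩ := huniq T T (AGF.conjBy g iT) iT (BorelCor.isMaxTorus_conjBy hT g) hT
    exact ⟨t ≫ f.hom, by rw [Category.assoc, hf, UnipRad.pt_conjBy]⟩
  have hcen := Reductive.normal_torus_central hTt iT hn
  obtain ⟨A, _, _, ψ, _⟩ := exists_coord G
  haveI : Algebra.FiniteType k A := finiteType ψ
  have htrig := CentralTorus.isTrigonalizable_of_central G ψ iT hT hcen
  haveI := Groth.Agent.S3267.result k A htrig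
  haveI : Group.IsSolvable (pt ⟶ G) := solvable_of_surjective (f := ToriConj.ev ψ) (ToriConj.ev_surjective ψ)
  obtain ⟨U, _, iU, _, _, _, _, nU, hnU, -, T₀, _, j, _, _, hT₀, F, hF⟩ :=
    UnipPart.exists_unipPart G (BorelConj.isSolvableGrp_of_pts G)
  haveI : IsAffine U.left := isAffine_of_isAffineHom iU.left
  haveI := UnipBasic.isNilpotent_pts U nU
  -- the other torus is central as well, being conjugate into the maximal one
  obtain ⟨_, _, _, _, _⟩ := AlgGrp33.IsogSub.torus_props hT₀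
  have hmx : ∀ (s : pt ⟶ T₀) (g : pt ⟶ G), g * (s ≫ j) = (s ≫ j) * g := by
    obtain ⟨T₁, _, j₁, _, _, hT₁, -, hconj⟩ := ToriConj.exists_maxTorus_coord G (BorelConj.isSolvableGrp_of_pts G) ψ
    obtain ⟨b, χ, hχ⟩ := hconj T hTt iT
    haveI : Mono j₁ := Over.mono_of_mono_left j₁
    haveI := BorelConj.isMonHom_conjBy b j₁
    haveI := BorelConj.isClosedImmersion_conjBy b j₁
    haveI : Mono (AGF.conjBy b j₁) := Over.mono_of_mono_left _
    haveI := hT.2.2.2 T₁ (AGF.conjBy b j₁) χ hT₁ hχ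
    obtain ⟨b', χ', hχ'⟩ := hconj T₀ hT₀ j
    intro s g
    have e : j = AGF.conjBy (b' * b⁻¹) ((χ' ≫ inv χ) ≫ iT) := by
      rw [← hχ', BorelConj.comp_conjBy, ← hχ, Category.assoc, IsIso.inv_hom_id_assoc, BorelConj.comp_conjBy,
        BorelConj.conjBy_conjBy, inv_mul_cancel_right]
    have e' : (s ≫ j) = (s ≫ χ' ≫ inv χ) ≫ iT := by
      rw [e, UnipRad.pt_conjBy, ← Category.assoc s, hcen pt, mul_inv_cancel_right]
    rw [e', hcen pt]
  let ψU : (pt ⟶ U) →* (pt ⟶ G) := IsMonHom.monoidHom iU pt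
  haveI : Group.IsNilpotent ((pt ⟶ G) ⧸ Subgroup.center (pt ⟶ G)) := by
    refine nilpotent_of_surjective ((QuotientGroup.mk' (Subgroup.center (pt ⟶ G))).comp ψU) fun z => ?_
    obtain ⟨z, rfl⟩ := QuotientGroup.mk'_surjective _ z
    obtain ⟨s, y, rfl⟩ := UnipRad.pts_decomp iU hnU j hT₀ F hF z
    refine ⟨y, ?_⟩
    show QuotientGroup.mk _ = QuotientGroup.mk _
    rw [QuotientGroup.eq, Subgroup.mem_center_iff]
    intro g
    show g * ((y ≫ iU)⁻¹ * ((s ≫ j) * (y ≫ iU))) = (y ≫ iU)⁻¹ * ((s ≫ j) * (y ≫ iU)) * g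
    rw [← hmx s (y ≫ iU), inv_mul_cancel_left, hmx s g]
  haveI : Group.IsNilpotent (pt ⟶ G) := Group.of_quotient_center_nilpotent inferInstance
  obtain ⟨n, hn'⟩ := Subgroup.nilpotent_iff_lowerCentralSeries.1 (inferInstance : Group.IsNilpotent (pt ⟶ G))
  haveI := AlgGrp33.IsogSub.geometricallyIntegral_of_smooth G
  exact AlgGrp33.SpecPts.nilpotent_of_rat n hn'

end Groth.Agent.AGF80.Nilp
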