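import Groth.Prelude.Def_W4bk4grossh1223Act
import Groth.Prelude.Def_W4bk4grossh111Obs
import Groth.Agent.RedPts82.GrpIrred
import Groth.Agent.Curves2.SmoothNormal
import Groth.Agent.AlgGrp79.SepDense
import Groth.Agent.LimTop61.FiniteBirational
import Mathlib.RingTheory.Flat.Basic
import Mathlib.RingTheory.IntegralClosure.IntegrallyClosed
import Mathlib.AlgebraicGeometry.FunctionField

/-!
Rings of invariants in normal domains are normal.
-/

set_option autoImplicit false
set_option linter.style.haveILetI false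

universe u

open CategoryTheory MonoidalCategory CartesianMonoidalCategory MonObj GrpObj AlgebraicGeometry
open scoped TensorProduct

namespace Groth.Agent.AGF80.NormalInv

/-- A ring included in a normal domain and closed under exact division is normal. -/
theorem isIntegrallyClosed_of_division {T A : Type*} [CommRing T] [IsDomain T] [CommRing A]
    [IsDomain A] [IsIntegrallyClosed A] (j : T →+* A) (hj : Function.Injective j)
    (hdiv : ∀ (a b : T) (c : A), b ≠ 0 → j b * c = j a → ∃ c' : T, j c' = c) :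
    IsIntegrallyClosed T := by
  let φ : T →+* FractionRing A := (algebraMap A (FractionRing A)).comp j
  have hφ : Function.Injective φ := (IsFractionRing.injective A (FractionRing A)).comp hj
  let Φ : FractionRing T →+* FractionRing A := IsFractionRing.lift hφ
  rw [isIntegrallyClosed_iff (FractionRing T)]
  intro x hx
  have h1 : IsIntegral A (Φ x) := by
    obtain ⟨p, hp, hpx⟩ := hx
    refine ⟨p.map j, hp.map j, ?_⟩
    rw [Polynomial.eval₂_map]
    have := congrArg Φ hpx
    rw [map_zero, Polynomial.hom_eval₂] at this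
    have e : Φ.comp (algebraMap T (FractionRing T)) = φ := RingHom.ext fun t => by
      exact IsFractionRing.lift_algebraMap (K := FractionRing T) (L := FractionRing A) hφ t
    rw [e] at this
    exact this
  obtain ⟨c, hc⟩ := IsIntegrallyClosed.isIntegral_iff.1 h1
  obtain ⟨a, b, hb, rfl⟩ := IsFractionRing.div_surjective T x
  have hb0 : b ≠ 0 := nonZeroDivisors.ne_zero hb
  have hφb : φ b ≠ 0 := fun h => hb0 (hφ (h.trans φ.map_zero.symm))
  have hbc : j b * c = j a := by
    apply IsFractionRing.injective A (FractionRing A)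
    rw [map_mul, hc, map_div₀, IsFractionRing.lift_algebraMap, IsFractionRing.lift_algebraMap]
    exact mul_div_cancel₀ _ hφb
  obtain ⟨c', rfl⟩ := hdiv a b c hb0 hbc
  refine ⟨c', ?_⟩
  rw [eq_div_iff (IsFractionRing.to_map_ne_zero_of_mem_nonZeroDivisors hb), ← map_mul]
  congr 1
  exact hj (by rw [map_mul, mul_comm, hbc])

section Act

variable {k : Type u} [Field k] {G H : Over (Spec (CommRingCat.of k))} [GrpObj G]
  {A : Type u} [CommRing A] [IsDomain A] [Algebra k A] (ρ : VecGrp.GMod G A) (hρ : ρ.IsMult)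
  (i : H ⟶ G)

theorem fixed_of_mul_eq {a b c : A} (ha : a ∈ ρ.fixedSubalgebra hρ i)
    (hb : b ∈ ρ.fixedSubalgebra hρ i) (hb0 : b ≠ 0) (h : b * c = a) :
    c ∈ ρ.fixedSubalgebra hρ i := by
  intro B _ _ g
  have hreg : Function.Injective fun z : B ⊗[k] A => ((1 : B) ⊗ₜ[k] b) * z := by
    have e : (fun z : B ⊗[k] A => ((1 : B) ⊗ₜ[k] b) * z) = (LinearMap.mul k A b).lTensor B := by
      funext z
      induction z using TensorProduct.induction_on with
      | zero => simp
      | tmul x y => simp
      | add x y hx hy => simp only [mul_add, map_add, hx, hy]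
    rw [e]
    exact Module.Flat.lTensor_preserves_injective_linearMap _ (mul_right_injective₀ hb0)
  refine hreg (?_ : ((1 : B) ⊗ₜ[k] b) * _ = ((1 : B) ⊗ₜ[k] b) * _)
  conv_lhs => rw [← hb B g, ← (hρ B (g ≫ i)).1]
  rw [Algebra.TensorProduct.tmul_mul_tmul, _root_.one_mul, h]
  exact ha B g

theorem isIntegrallyClosed_fixed [IsIntegrallyClosed A] :
    IsIntegrallyClosed ↥(ρ.fixedSubalgebra hρ i) :=
  isIntegrallyClosed_of_division (ρ.fixedSubalgebra hρ i).val.toRingHom Subtype.val_injective
    fun a b c hb hbc => ⟨⟨c, fixed_of_mul_eq ρ hρ i a.2 b.2 (fun e => hb (Subtype.ext e)) hbc⟩, rfl⟩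

end Act

section Functions

theorem isIntegrallyClosed_sections {k : Type u} [Field k] {X : Scheme.{u}} [IsIntegral X]
    [IsAffine X] (f : X ⟶ Spec (CommRingCat.of k)) [Smooth f] : IsIntegrallyClosed Γ(X, ⊤) := by
  haveI : Nonempty (⊤ : X.Opens) := ⟨⟨genericPoint X, trivial⟩⟩
  exact LimTop61.isIntegrallyClosed_affineOpen
    (fun x => (Curves2.isIntegrallyClosed_stalk_of_smooth f x).2) (isAffineOpen_top X)

theorem regular_appTop {X Y : Scheme.{u}} [IsAffine X] [IsAffine Y] (f : X ⟶ Y) [Flat f]
    [IsDomain Γ(Y, ⊤)] {b : Γ(Y, ⊤)} (hb : b ≠ 0) {z w : Γ(X, ⊤)}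
    (h : f.appTop.hom b * z = f.appTop.hom b * w) : z = w := by
  algebraize [f.appTop.hom]
  haveI : Module.Flat Γ(Y, ⊤) Γ(X, ⊤) := f.flat_appTop
  exact (IsSMulRegular.of_flat (S := Γ(X, ⊤)) (IsSMulRegular.of_ne_zero hb)) h

theorem isIntegrallyClosed_rTransInv {k : Type u} [Field k] [IsAlgClosed k]
    (G : Over (Spec (CommRingCat.of k))) [GrpObj G] [IsAffine G.left] [Smooth G.hom]
    (H : Over (Spec (CommRingCat.of k))) (i : H ⟶ G) [IsAffine H.left] [ConnectedSpace G.left] :
    IsIntegrallyClosed ↥(AGF.rTransInv i) := by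
  haveI := RedPts82.irreducibleSpace_of_connected_grp G
  haveI : IsReduced G.left := AlgGrp79.isReduced_of_smooth G.hom
  haveI : IsIntegral G.left := isIntegral_of_irreducibleSpace_of_isReduced G.left
  haveI := isIntegrallyClosed_sections G.hom
  haveI : IsAffineHom G.hom := inferInstance
  haveI hfl : Flat H.hom := by
    haveI : IsAffineHom H.hom := inferInstance
    infer_instance
  haveI : IsAffine (G ⊗ H).left := inferInstanceAs (IsAffine (Limits.pullback G.hom H.hom))
  haveI : Flat (fst G H).left := inferInstanceAs (Flat (Limits.pullback.fst G.hom H.hom))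
  refine isIntegrallyClosed_of_division (AGF.rTransInv i).subtype Subtype.val_injective
    fun a b c hb hbc => ⟨⟨c, ?_⟩, rfl⟩
  refine regular_appTop (fst G H).left (fun e => hb (Subtype.ext e)) ?_
  have ha := a.2
  have hb' := b.2
  change ((G ◁ i) ≫ μ[G]).left.appTop.hom _ = (fst G H).left.appTop.hom _ at ha hb'
  calc (fst G H).left.appTop.hom b.1 * ((G ◁ i) ≫ μ[G]).left.appTop.hom c
      = ((G ◁ i) ≫ μ[G]).left.appTop.hom (b.1 * c) := by rw [map_mul, hb']
    _ = (fst G H).left.appTop.hom (b.1 * c) := by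
        rw [show b.1 * c = a.1 from hbc]; exact ha
    _ = _ := map_mul _ _ _

end Functions

end Groth.Agent.AGF80.NormalInv
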