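import Groth.Agent.VarGal.GeomRed
import Groth.Agent.VarGal.Components
import Groth.Agent.SchBasics.Reduced
import Mathlib.RingTheory.KrullDimension.Zero

/-!
The maximal geometrically reduced closed subscheme carrying the separable points.
-/

set_option autoImplicit false
set_option linter.style.haveILetI false

universe u

open CategoryTheory CategoryTheory.Limits AlgebraicGeometry TopologicalSpace
open scoped TensorProduct

namespace Groth.Agent.AGF80.SepPoints

variable {k : Type u} [Field k]

/-- An algebra embedding in a product of geometrically reduced algebras is geometrically reduced. -/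
theorem isGeometricallyReduced_of_pi (A : Type u) [CommRing A] [Algebra k A] {ι : Type u}
    (B : ι → Type u) [∀ i, CommRing (B i)] [∀ i, Algebra k (B i)]
    [∀ i, Algebra.IsGeometricallyReduced k (B i)] (f : ∀ i, A →ₐ[k] B i)
    (hf : ∀ a, (∀ i, f i a = 0) → a = 0) : Algebra.IsGeometricallyReduced k A := by
  rw [Algebra.isGeometricallyReduced_field_iff]
  refine ⟨fun z hz => ?_⟩
  let b := Module.Free.chooseBasis k (AlgebraicClosure k)
  apply (TensorProduct.equivFinsuppOfBasisLeft b).injective
  ext j
  rw [map_zero, Finsupp.zero_apply]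
  refine hf _ fun i => ?_
  let φ := Algebra.TensorProduct.map (AlgHom.id k (AlgebraicClosure k)) (f i)
  have : _root_.IsReduced (AlgebraicClosure k ⊗[k] B i) :=
    (Algebra.isGeometricallyReduced_field_iff k (B i)).1 inferInstance
  have h0 : φ z = 0 := (hz.map φ).eq_zero
  have hnat : ∀ w, TensorProduct.equivFinsuppOfBasisLeft b (φ w) j =
      f i (TensorProduct.equivFinsuppOfBasisLeft b w j) := by
    intro w
    induction w using TensorProduct.induction_on with
    | zero => simp
    | tmul c a => simp [φ]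
    | add a c ha hc => simp only [map_add, Finsupp.add_apply, ha, hc]
  rw [← hnat, h0, map_zero, Finsupp.zero_apply]

variable {X : Scheme.{u}} (f : X ⟶ Spec (CommRingCat.of k))

/-- The points through which a point with values in a separable extension passes. -/
def sepPts : Set X :=
  {x | ∃ (L : Type u) (_ : Field L) (_ : Algebra k L), Algebra.IsGeometricallyReduced k L ∧
    ∃ q : Spec (CommRingCat.of L) ⟶ X, q ≫ f = Spec.map (CommRingCat.ofHom (algebraMap k L)) ∧
      q (IsLocalRing.closedPoint L) = x}

theorem mem_sepPts_of_maximal {Z : Scheme.{u}} (z : Z ⟶ X) (hZ : GeometricallyReduced (z ≫ f))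
    {η : Z} (hη : ∀ w, w ⤳ η → w = η) : z η ∈ sepPts f := by
  letI : Z.Over (Spec (CommRingCat.of k)) := ⟨z ≫ f⟩
  obtain ⟨A, _, _, j, _, ⟨P, rfl⟩, hj⟩ := FBase64.exists_chart (z ≫ f) η
  have hgr : Algebra.IsGeometricallyReduced k (Localization.AtPrime P.asIdeal) :=
    (VarGal.isGeomReducedAt_chart_iff (X := Z) j hj P).1
      ((FBase64.geometricallyReduced_iff_forall (z ≫ f)).1 hZ _)
  haveI : _root_.IsReduced (Localization.AtPrime P.asIdeal) :=
    Algebra.isReduced_of_isGeometricallyReduced k
  have hmin : P.asIdeal ∈ minimalPrimes A := by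
    refine ⟨⟨P.2, bot_le⟩, fun p hp hle => ?_⟩
    have h1 : (⟨p, hp.1⟩ : PrimeSpectrum A) ⤳ P := (PrimeSpectrum.le_iff_specializes _ _).1 hle
    have h2 := j.isOpenEmbedding.injective (hη _ (h1.map j.continuous))
    exact le_of_eq (congrArg PrimeSpectrum.asIdeal h2).symm
  haveI : Ring.KrullDimLE 0 (Localization.AtPrime P.asIdeal) :=
    Ring.krullDimLE_iff.2 (by
      rw [IsLocalization.AtPrime.ringKrullDim_eq_height P.asIdeal,
        Ideal.height_eq_zero_iff.2 hmin]
      simp)
  letI := (Ring.KrullDimLE.isField_of_isReduced (R := Localization.AtPrime P.asIdeal)).toField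
  let loc : Spec (CommRingCat.of (Localization.AtPrime P.asIdeal)) ⟶ Spec (CommRingCat.of A) :=
    Spec.map (CommRingCat.ofHom (algebraMap A (Localization.AtPrime P.asIdeal)))
  refine ⟨Localization.AtPrime P.asIdeal, _, inferInstance, hgr, loc ≫ j ≫ z, ?_, ?_⟩
  · rw [Category.assoc, Category.assoc, hj, ← Spec.map_comp, ← CommRingCat.ofHom_comp,
      ← IsScalarTower.algebraMap_eq]
  · rw [Scheme.Hom.comp_apply, Scheme.Hom.comp_apply]
    congr 2
    exact PrimeSpectrum.ext (Localization.AtPrime.comap_maximalIdeal)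

/-- The subscheme of the closure of the separable points. -/
noncomputable def sepIdeal : X.IdealSheafData :=
  Scheme.IdealSheafData.vanishingIdeal ⟨closure (sepPts f), isClosed_closure⟩

theorem range_sepIdeal : Set.range (sepIdeal f).subschemeι = closure (sepPts f) :=
  SchBasics.range_vanishingIdeal_subschemeι _

theorem exists_lift_point (L : Type u) [Field L] [Algebra k L]
    [hL : Algebra.IsGeometricallyReduced k L] (x : Spec (CommRingCat.of L) ⟶ X)
    (hx : x ≫ f = Spec.map (CommRingCat.ofHom (algebraMap k L))) :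
    ∃ y : Spec (CommRingCat.of L) ⟶ (sepIdeal f).subscheme, y ≫ (sepIdeal f).subschemeι = x := by
  refine ⟨IsClosedImmersion.lift _ x (SchBasics.ker_le_ker_of_range_subset x _ ?_),
    IsClosedImmersion.lift_fac _ _ _⟩
  rw [range_sepIdeal]
  rintro _ ⟨p, rfl⟩
  refine subset_closure ⟨L, _, _, hL, x, hx, ?_⟩
  exact congrArg x (Subsingleton.elim (α := PrimeSpectrum L) _ _)

theorem geometricallyReduced_sep : GeometricallyReduced ((sepIdeal f).subschemeι ≫ f) := by
  let Z := (sepIdeal f).subscheme
  let ι := (sepIdeal f).subschemeι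
  letI : Z.Over (Spec (CommRingCat.of k)) := ⟨ι ≫ f⟩
  haveI : IsReduced Z := SchBasics.isReduced_vanishingIdeal_subscheme _
  refine (FBase64.geometricallyReduced_iff_forall _).2 fun x => ?_
  obtain ⟨A, _, _, j, _, ⟨P, rfl⟩, hj⟩ := FBase64.exists_chart (ι ≫ f) x
  haveI : _root_.IsReduced A := (affine_isReduced_iff _).mp (isReduced_of_isOpenImmersion j)
  suffices Algebra.IsGeometricallyReduced k A from
    (VarGal.isGeomReducedAt_chart_iff (X := Z) j hj P).2
      (VarGal.isGeometricallyReduced_localization A _ P.asIdeal.primeCompl)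
  let T : Set (PrimeSpectrum A) := {p | ι (j p) ∈ sepPts f}
  have hT : Dense T := by
    have h1 : Dense (⇑ι ⁻¹' sepPts f) := by
      rw [dense_iff_closure_eq, ι.isEmbedding.closure_eq_preimage_closure_image,
        Set.image_preimage_eq_of_subset (by rw [range_sepIdeal]; exact subset_closure)]
      refine Set.eq_univ_of_forall fun w => ?_
      show ι w ∈ closure (sepPts f)
      rw [← range_sepIdeal]
      exact ⟨w, rfl⟩
    exact h1.preimage j.isOpenEmbedding.isOpenMap
  have hpt : ∀ p : T, ∃ (L : Type u) (_ : Field L) (_ : Algebra k L)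
      (_ : Algebra.IsGeometricallyReduced k L) (g : A →ₐ[k] L), RingHom.ker g = p.1.asIdeal := by
    rintro ⟨p, L, _, _, hL, x, hx, hxp⟩
    obtain ⟨y, hy⟩ := exists_lift_point f L x hx
    have hyp : y (IsLocalRing.closedPoint L) = j p := by
      apply ι.isEmbedding.injective
      rw [← Scheme.Hom.comp_apply, hy, hxp]
    have hr : Set.range y ⊆ Set.range j := by
      rintro _ ⟨w, rfl⟩
      exact ⟨p, hyp.symm.trans (congrArg y (Subsingleton.elim (α := PrimeSpectrum L) _ _))⟩
    let w := IsOpenImmersion.lift j y hr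
    have hw : w ≫ j = y := IsOpenImmersion.lift_fac _ _ _
    obtain ⟨φ, hφ⟩ := Spec.map_surjective w
    have hk : Spec.map φ ≫ Spec.map (CommRingCat.ofHom (algebraMap k A)) =
        Spec.map (CommRingCat.ofHom (algebraMap k L)) := by
      rw [hφ, ← hj, reassoc_of% hw, reassoc_of% hy, hx]
    rw [← Spec.map_comp] at hk
    refine ⟨L, _, _, hL, AlgHom.mk φ.hom fun c =>
      DFunLike.congr_fun (congrArg CommRingCat.Hom.hom (Spec.map_injective hk)) c, ?_⟩
    have hwp : w (IsLocalRing.closedPoint L) = p := by
      apply j.isOpenEmbedding.injective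
      rw [← Scheme.Hom.comp_apply, hw, hyp]
    rw [← hφ] at hwp
    rw [← congrArg PrimeSpectrum.asIdeal hwp]
    change RingHom.ker φ.hom = (IsLocalRing.closedPoint L).asIdeal.comap φ.hom
    rw [RingHom.ker, show (IsLocalRing.closedPoint L).asIdeal = ⊥ from
      IsLocalRing.maximalIdeal_eq_bot]
  choose L iF iA hL g hg using hpt
  refine isGeometricallyReduced_of_pi A L g fun a ha => ?_
  have hmem : a ∈ PrimeSpectrum.vanishingIdeal T := by
    rw [PrimeSpectrum.mem_vanishingIdeal]
    intro p hp
    rw [← hg ⟨p, hp⟩]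
    exact ha ⟨p, hp⟩
  rw [← PrimeSpectrum.vanishingIdeal_closure, hT.closure_eq, PrimeSpectrum.vanishingIdeal_univ,
    nilradical_eq_zero] at hmem
  exact hmem

attribute [local instance] Curv2.stalkAlgebra in
theorem exists_iso {Z' : Scheme.{u}} (z' : Z' ⟶ X) [IsClosedImmersion z']
    (hgr : GeometricallyReduced (z' ≫ f))
    (hpts : ∀ (L : Type u) [Field L] [Algebra k L] [Algebra.IsGeometricallyReduced k L]
      (x : Spec (CommRingCat.of L) ⟶ X), x ≫ f = Spec.map (CommRingCat.ofHom (algebraMap k L)) →
      ∃ y : Spec (CommRingCat.of L) ⟶ Z', y ≫ z' = x) :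
    ∃ e : Z' ≅ (sepIdeal f).subscheme, e.hom ≫ (sepIdeal f).subschemeι = z' := by
  have hsub : closure (sepPts f) ⊆ Set.range z' := by
    refine closure_minimal ?_ z'.isClosedEmbedding.isClosed_range
    rintro _ ⟨L, _, _, hL, q, hq, rfl⟩
    haveI := hL
    obtain ⟨y, rfl⟩ := hpts L q hq
    exact ⟨y (IsLocalRing.closedPoint L), (Scheme.Hom.comp_apply y z' _).symm⟩
  have hsup : Set.range z' ⊆ closure (sepPts f) := by
    rintro _ ⟨w, rfl⟩
    obtain ⟨η, hη, hmax⟩ := VarGal.exists_maximal_generization Z' w
    exact (hη.map z'.continuous).mem_closed isClosed_closure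
      (subset_closure (mem_sepPts_of_maximal f z' hgr hmax))
  haveI : IsReduced Z' := by
    refine @isReduced_of_isReduced_stalk _ fun w => ?_
    letI : Z'.Over (Spec (CommRingCat.of k)) := ⟨z' ≫ f⟩
    have := (VarGal.isGeomReducedAt_iff_stalk (X := Z') (k := k) w).1
      ((FBase64.geometricallyReduced_iff_forall (z' ≫ f)).1 hgr w)
    exact Algebra.isReduced_of_isGeometricallyReduced k
  haveI : IsReduced (sepIdeal f).subscheme := SchBasics.isReduced_vanishingIdeal_subscheme _
  have h1 := SchBasics.ker_le_ker_of_range_subset z' (sepIdeal f).subschemeι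
    (hsup.trans (range_sepIdeal f).ge)
  have h2 := SchBasics.ker_le_ker_of_range_subset (sepIdeal f).subschemeι z'
    ((range_sepIdeal f).le.trans hsub)
  refine ⟨⟨IsClosedImmersion.lift _ z' h1, IsClosedImmersion.lift z' _ h2, ?_, ?_⟩,
    IsClosedImmersion.lift_fac _ _ _⟩
  · rw [← cancel_mono z', Category.assoc, IsClosedImmersion.lift_fac, IsClosedImmersion.lift_fac,
      Category.id_comp]
  · rw [← cancel_mono (sepIdeal f).subschemeι, Category.assoc, IsClosedImmersion.lift_fac,
      IsClosedImmersion.lift_fac, Category.id_comp]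

end Groth.Agent.AGF80.SepPoints
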