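import Groth.Agent.H98EqInt.StabGroup
import Groth.Agent.SGA3a.GrpLocalDim
import Groth.Agent.Grpd80.DimStab
import Groth.Agent.E4O.FibreDim
import Groth.Agent.AlgGrp79.OrbitDim

/-! Semicontinuity of stabiliser dimensions; orbit closures have the dimension of the orbit. -/

set_option autoImplicit false
set_option linter.style.haveILetI false

universe u

open CategoryTheory MonoidalCategory CartesianMonoidalCategory MonObj GrpObj AlgebraicGeometry Limits

noncomputable section

namespace Groth.Agent.AGF80.StabDim

open H98EqInt (stToX stIncl)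

variable {k : Type u} [Field k] {G X : Over (Spec (CommRingCat.of k))} [GrpObj G]
  [LocallyOfFiniteType G.hom] [LocallyOfFiniteType X.hom] (a : AlgGrp.Action G X)

/-- The unit section of the stabiliser scheme. -/
def unitSec : X.left ⟶
    pullback (GIT.psi a (𝟙 X)).left (CartesianMonoidalCategory.lift (𝟙 X) (𝟙 X)).left :=
  pullback.lift (lift (1 : X ⟶ G) (𝟙 X)).left (𝟙 _) (H98EqInt.st_cond a _ _
    (by rw [← Over.comp_left, AlgGrp79.one_act']; rfl)
    (by rw [← Over.comp_left, lift_snd]; rfl))

omit [LocallyOfFiniteType G.hom] [LocallyOfFiniteType X.hom] in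
lemma unitSec_stToX : unitSec a ≫ stToX a = 𝟙 X.left := pullback.lift_snd _ _ _

lemma fibreDimAt_unitSec (p : X.left) :
    FlatMor.fibreDimAt (stToX a) (unitSec a p) = topologicalKrullDim ↥((stToX a).fiber p) := by
  haveI := H98EqInt.stToX_locallyOfFiniteType a
  have hp : stToX a (unitSec a p) = p := by
    rw [← Scheme.Hom.comp_apply, unitSec_stToX]; rfl
  have hlft : LocallyOfFiniteType (H98EqInt.stFibre a (stToX a (unitSec a p))).hom :=
    MorphismProperty.pullback_snd (P := @LocallyOfFiniteType) (stToX a) _ inferInstance
  refine (@SGA3a.localDim_eq_dim _ _ (H98EqInt.stFibre a (stToX a (unitSec a p)))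
    (H98EqInt.stFibreGrp a _) hlft ((stToX a).asFiber (unitSec a p))).trans ?_
  show topologicalKrullDim ↥((stToX a).fiber (stToX a (unitSec a p))) = _
  rw [hp]

/-- Upper semicontinuity of the dimension of the stabiliser. -/
theorem isClosed_setOf_le_dim_fiber (n : WithBot ℕ∞) :
    IsClosed {p : X.left | n ≤ topologicalKrullDim ↥((stToX a).fiber p)} := by
  haveI := H98EqInt.stToX_locallyOfFiniteType a
  simp only [← fibreDimAt_unitSec a]
  refine IsClosed.preimage (unitSec a).continuous (t := {q | n ≤ FlatMor.fibreDimAt (stToX a) q}) ?_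
  rw [← isOpen_compl_iff, isOpen_iff_forall_mem_open]
  intro q hq
  obtain ⟨U, hqU, hU⟩ := E4O.exists_open_forall_fibreDimAt_le (stToX a) q
  exact ⟨U, fun q' hq' h => hq (le_trans h (hU q' hq')), U.isOpen, hqU⟩

omit [LocallyOfFiniteType G.hom] [LocallyOfFiniteType X.hom] in
lemma fst_hom (x : 𝟙_ (Over (Spec (CommRingCat.of k))) ⟶ X) :
    ((pullback.fst (stToX a) x.left ≫ stIncl a) ≫ (fst G X).left) ≫ G.hom = pullback.snd (stToX a) x.left := by
  rw [Category.assoc, Category.assoc, Over.w (fst G X), ← Over.w (snd G X), ← Category.assoc (stIncl a),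
    H98EqInt.stIncl_snd, ← Category.assoc, pullback.condition, Category.assoc, Over.w x]
  exact Category.comp_id _

/-- The stabiliser of a rational point. -/
def stabIso (x : 𝟙_ (Over (Spec (CommRingCat.of k))) ⟶ X) :
    pullback (a.orbitMap x).left x.left ≅ pullback (stToX a) x.left where
  hom := pullback.lift
    (pullback.lift (pullback.fst _ _ ≫ (lift (𝟙 G) (toUnit G ≫ x)).left) (pullback.snd _ _ ≫ x.left)
      (H98EqInt.st_cond a _ _ (by rw [Category.assoc, ← Over.comp_left]; exact pullback.condition)
        (by
          rw [Category.assoc, ← Over.comp_left, lift_snd, Over.comp_left, ← Category.assoc]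
          congr 1
          have h := congrArg (· ≫ X.hom) (pullback.condition (f := (a.orbitMap x).left) (g := x.left))
          simp only [Category.assoc, Over.w, Over.tensorUnit_hom, Category.comp_id] at h
          exact h)))
    (pullback.snd _ _) (pullback.lift_snd _ _ _)
  inv := pullback.lift (pullback.fst _ _ ≫ stIncl a ≫ (fst G X).left) (pullback.snd _ _) (by
    have hl : (pullback.fst (stToX a) x.left ≫ stIncl a ≫ (fst G X).left) ≫ (lift (𝟙 G) (toUnit G ≫ x)).left =
        pullback.fst (stToX a) x.left ≫ stIncl a := by
      apply pullback.hom_ext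
      · show _ ≫ (fst G X).left = _ ≫ (fst G X).left
        simp only [Category.assoc, ← Over.comp_left, lift_fst]
        simp
      · show _ ≫ (snd G X).left = _ ≫ (snd G X).left
        simp only [Category.assoc, ← Over.comp_left, lift_snd]
        rw [Over.comp_left, H98EqInt.stIncl_snd, pullback.condition]
        rw [Over.comp_left, ← fst_hom a x]
        simp only [Category.assoc]
        rfl
    show _ ≫ (lift (𝟙 G) (toUnit G ≫ x)).left ≫ a.act.left = _
    rw [← Category.assoc, hl, Category.assoc, H98EqInt.stIncl_act, pullback.condition])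
  hom_inv_id := by
    apply pullback.hom_ext
    · rw [Category.assoc, pullback.lift_fst, pullback.lift_fst_assoc, pullback.lift_fst_assoc,
        Category.assoc, ← Over.comp_left, lift_fst]
      simp
    · simp [pullback.lift_snd]
  inv_hom_id := by
    apply pullback.hom_ext
    · rw [Category.assoc, pullback.lift_fst, Category.id_comp]
      apply pullback.hom_ext
      · rw [Category.assoc, pullback.lift_fst, pullback.lift_fst_assoc]
        apply pullback.hom_ext
        · show _ ≫ (fst G X).left = _ ≫ (fst G X).left
          simp only [Category.assoc, ← Over.comp_left, lift_fst]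
          simp
          rfl
        · show _ ≫ (snd G X).left = _ ≫ (snd G X).left
          simp only [Category.assoc, ← Over.comp_left, lift_snd]
          rw [Over.comp_left, H98EqInt.stIncl_snd, pullback.condition]
          rw [Over.comp_left, ← fst_hom a x]
          simp only [Category.assoc]
          rfl
      · rw [Category.assoc, pullback.lift_snd, pullback.lift_snd_assoc]
        exact pullback.condition.symm
    · simp [pullback.lift_snd]

theorem dim_fiber_eq (x : 𝟙_ (Over (Spec (CommRingCat.of k))) ⟶ X) :
    topologicalKrullDim ↥((stToX a).fiber (x.left (IsLocalRing.closedPoint k))) =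
      topologicalKrullDim ↥(pullback (a.orbitMap x).left x.left) := by
  haveI := H98EqInt.stToX_locallyOfFiniteType a
  rw [IsHomeomorph.topologicalKrullDim_eq _ (stabIso a x).hom.homeomorph.isHomeomorph]
  set p := x.left (IsLocalRing.closedPoint k)
  have hfac : ∀ y : Spec (CommRingCat.of k) ⟶ X.left, ∃ g : Spec (CommRingCat.of k) ⟶
      Spec (X.left.residueField (y (IsLocalRing.closedPoint k))),
      g ≫ X.left.fromSpecResidueField _ = y := fun y =>
    ⟨_, Scheme.descResidueField_stalkClosedPointTo_fromSpecResidueField _ _ y⟩
  obtain ⟨g, hg⟩ := hfac x.left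
  haveI : LocallyOfFiniteType ((stToX a).fiberToSpecResidueField p) :=
    MorphismProperty.pullback_snd (P := @LocallyOfFiniteType) (stToX a) _ inferInstance
  rw [← Grpd80.dim_pullback_point (k := X.left.residueField p) (L := k) (Iso.refl _) ((stToX a).fiberToSpecResidueField p) g]
  exact IsHomeomorph.topologicalKrullDim_eq _ ((pullbackLeftPullbackSndIso (stToX a) (X.left.fromSpecResidueField p) g
    ≪≫ pullback.congrHom rfl hg).hom.homeomorph.isHomeomorph)

theorem dim_closure_range [QuasiCompact G.hom] [QuasiCompact X.hom] (x : 𝟙_ (Over (Spec (CommRingCat.of k))) ⟶ X)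
    (hO : IsLocallyClosed (Set.range ⇑(a.orbitMap x).left.base)) :
    topologicalKrullDim ↥(closure (Set.range ⇑(a.orbitMap x).left.base)) =
      topologicalKrullDim ↥(Set.range ⇑(a.orbitMap x).left.base) := by
  haveI := Var76.FibreBound.noetherianSpace G.hom
  refine le_antisymm (Var76.FibreBound.dim_le_of_forall X.hom isClosed_closure fun w hw => ?_)
    (TopDim50.dim_mono subset_closure)
  obtain ⟨e, he, hew⟩ := AlgGrp79.closure_range_orbit (a.orbitMap x).left hw
  exact le_trans (Nat.cast_le.2 (Var76.FibreBound.tdegN_le X.hom hew))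
    (AlgGrp79.tdegN_le_dim_of_locallyClosed X.hom hO he)

end Groth.Agent.AGF80.StabDim
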