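import Groth.Agent.AGF80.BorelCor
import Groth.Agent.GMod80.NoTorus
import Groth.Agent.AlgGrp33.TorusBridge
import Groth.Agent.AlgGrp33.SpecLaws
import Groth.Agent.S2966
import Groth.Agent.S7951
import Groth.Prelude.Def_Par

/-!
Unipotent groups: subtori, base change, unipotent radicals over an algebraically closed field and
normality checked on rational points.
-/

set_option autoImplicit false
set_option linter.unusedSectionVars false
set_option linter.style.haveILetI false
set_option backward.isDefEq.respectTransparency.types false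

universe u

open CategoryTheory MonoidalCategory CartesianMonoidalCategory MonObj GrpObj AlgebraicGeometry
open scoped TensorProduct
open WithConv Groth.Agent.GMod80

noncomputable section

namespace Groth.Agent.AGF80.UnipBasic

variable {k : Type u} [Field k]

/-- A group mapping monomorphically into a unipotent group contains no subtorus. -/
theorem hasNoSubtorus_of_unipotent [IsAlgClosed k] {U V : Over (Spec (CommRingCat.of k))} [GrpObj U] [GrpObj V] {Q : Type u}
    [CommRing Q] [HopfAlgebra k Q] [Algebra.FiniteType k Q] (hQ : HopfRep.IsUnipotent k Q) (ψ : sp k Q ≅ V)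
    [IsMonHom ψ.hom] (w : U ⟶ V) [IsMonHom w] [Mono w] : Red.HasNoSubtorus k U := by
  intro T _ j _ _ hT
  obtain ⟨_, _, _, _, _⟩ := AlgGrp33.IsogSub.torus_props hT
  obtain ⟨C, _, _, ψT, _⟩ := exists_coord T
  haveI : Algebra.FiniteType k C := finiteType ψT
  let φ := pullBialg ψ ψT (j ≫ w)
  have hφ := (Groth.Agent.S2966.result (AlgGrp33.isDiagonalizable_of_isTorus ψT hT) hQ).1 φ
  have e1 : ψT.hom ≫ j ≫ w = 1 := by
    have h := e_comp ψ ψT (j ≫ w) (toConv (AlgHom.id k C))
    rw [e_id, ofConv_toConv, AlgHom.id_comp] at h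
    refine h.trans ?_
    rw [show toConv (pull ψ ψT (j ≫ w)) = (1 : WithConv (Q →ₐ[k] C)) from
      WithConv.ofConv_injective (AlgHom.ext fun a => hφ a)]
    exact map_one _
  have hid : 𝟙 T = 1 := by
    rw [← cancel_mono j, ← cancel_mono w, MonObj.one_comp j, MonObj.one_comp w, Category.id_comp,
      ← cancel_epi ψT.hom, e1, MonObj.comp_one]
  refine ⟨η[T].left, ?_, Over.w η[T]⟩
  have := congrArg CommaMorphism.left hid
  rw [Hom.one_def] at this
  exact this.symm

/-- Base changes of unipotent groups to fields contain no subtorus. -/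
theorem hasNoSubtorus_bc {U : Over (Spec (CommRingCat.of k))} [GrpObj U] {Q : Type u} [CommRing Q] [HopfAlgebra k Q]
    [Algebra.FiniteType k Q] (hQ : HopfRep.IsUnipotent k Q) (ψ : sp k Q ≅ U) [IsMonHom ψ.hom] {L : Type u} [Field L] [IsAlgClosed L]
    (f : Spec (CommRingCat.of L) ⟶ Spec (CommRingCat.of k)) : Red.HasNoSubtorus L (Red.bc f U) := by
  obtain ⟨φ, rfl⟩ := Spec.map_surjective f
  letI : Algebra k L := φ.hom.toAlgebra
  obtain ⟨ψL, _⟩ := AlgGrp33.exists_coord_bc L ψ
  haveI : IsMonHom (𝟙 (Red.bc (Spec.map φ) U)) := inferInstance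
  exact hasNoSubtorus_of_unipotent ((Groth.Agent.S7951.result k L Q).1 hQ) ψL (𝟙 _)

variable [IsAlgClosed k]

/-- The unipotent coordinates of a smooth connected group without subtori. -/
theorem exists_unip_coord (U : Over (Spec (CommRingCat.of k))) [GrpObj U] [IsAffine U.left] [Smooth U.hom]
    [ConnectedSpace U.left] (hU : Red.HasNoSubtorus k U) :
    ∃ (Q : Type u) (_ : CommRing Q) (_ : HopfAlgebra k Q) (_ : Algebra.FiniteType k Q) (ψ : sp k Q ≅ U),
      IsMonHom ψ.hom ∧ HopfRep.IsUnipotent k Q := by
  obtain ⟨Q, _, _, ψ, _⟩ := exists_coord U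
  exact ⟨Q, inferInstance, inferInstance, finiteType ψ, ψ, inferInstance, isUnipotent_of_hasNoSubtorus ψ hU⟩

/-- Smooth connected groups without subtori are nilpotent on rational points. -/
theorem isNilpotent_pts (U : Over (Spec (CommRingCat.of k))) [GrpObj U] [IsAffine U.left] [Smooth U.hom]
    [ConnectedSpace U.left] (hU : Red.HasNoSubtorus k U) :
    Group.IsNilpotent (𝟙_ (Over (Spec (CommRingCat.of k))) ⟶ U) := by
  obtain ⟨Q, _, _, _, ψ, _, hQ⟩ := exists_unip_coord U hU
  haveI := Groth.Agent.S7986.result k Q hQ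
  exact nilpotent_of_surjective (AlgGrp79.ToriConj.ev ψ) (AlgGrp79.ToriConj.ev_surjective ψ)

/-- Smooth connected groups without subtori are solvable. -/
theorem isSolvableGrp_unip (U : Over (Spec (CommRingCat.of k))) [GrpObj U] [IsAffine U.left] [Smooth U.hom]
    [ConnectedSpace U.left] (hU : Red.HasNoSubtorus k U) : Red.IsSolvableGrp U := by
  haveI := isNilpotent_pts U hU
  exact AlgGrp79.BorelConj.isSolvableGrp_of_pts U

/-- A property of being largest: unipotent radicals over an algebraically closed field. -/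
theorem connected_noSubtorus_of_isUnipotentRadical {U P : Over (Spec (CommRingCat.of k))} [GrpObj U] [GrpObj P]
    [IsAffine U.left] {u : U ⟶ P} (hu : Par.IsUnipotentRadical u) : ConnectedSpace U.left ∧ Red.HasNoSubtorus k U := by
  haveI : Smooth U.hom := hu.2.2.2.1
  obtain ⟨Q, _, _, ψ, _⟩ := exists_coord U
  haveI : Algebra.FiniteType k Q := finiteType ψ
  haveI : IsMonHom (𝟙 U) := inferInstance
  refine ⟨?_, hasNoSubtorus_of_unipotent (isUnipotent_of_isUnipotentRadical ψ u hu) ψ (𝟙 U)⟩
  obtain ⟨hconn, -⟩ := hu.2.2.2.2.2.1 default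
  haveI := isIso_geomPt (k := k) default
  haveI : IsIso (Limits.pullback.fst U.hom (Red.geomPt (default : Spec (CommRingCat.of k)))) := inferInstance
  haveI : ConnectedSpace ↥(Limits.pullback U.hom (Red.geomPt (default : Spec (CommRingCat.of k)))) := hconn
  exact (Limits.pullback.fst U.hom (Red.geomPt (default : Spec (CommRingCat.of k)))).homeomorph.surjective.connectedSpace
    (Scheme.Hom.homeomorph _).continuous

/-- Over an algebraically closed field the unipotent radical is the largest normal smooth connected subgroup without subtori. -/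
theorem isUnipotentRadical_of_largest {U P : Over (Spec (CommRingCat.of k))} [GrpObj U] [GrpObj P] [IsAffine P.left]
    (u : U ⟶ P) [IsMonHom u] [IsClosedImmersion u.left] [Smooth U.hom] [ConnectedSpace U.left]
    (hn : AlgGrp.IsNormalHom u) (hU : Red.HasNoSubtorus k U)
    (hmax : ∀ (V : Over (Spec (CommRingCat.of k))) [GrpObj V] (v : V ⟶ P) [IsMonHom v], IsClosedImmersion v.left →
      Smooth V.hom → ConnectedSpace V.left → AlgGrp.IsNormalHom v → Red.HasNoSubtorus k V → ∃ f : V ⟶ U, f ≫ u = v) :
    Par.IsUnipotentRadical u := by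
  haveI : IsAffine U.left := isAffine_of_isAffineHom u.left
  refine ⟨inferInstance, inferInstance, hn, inferInstance, inferInstance, fun s => ⟨?_, ?_⟩, ?_⟩
  · haveI := isIso_geomPt (k := k) s
    haveI : IsIso (Limits.pullback.fst U.hom (Red.geomPt s)) := inferInstance
    exact (Limits.pullback.fst U.hom (Red.geomPt s)).homeomorph.symm.surjective.connectedSpace
      (Scheme.Hom.homeomorph _).symm.continuous
  · obtain ⟨Q, _, _, _, ψ, _, hQ⟩ := exists_unip_coord U hU
    exact hasNoSubtorus_bc hQ ψ _
  · intro V _ v _ hv hvn hvs hvq hgeo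
    haveI := hv
    haveI := hvs
    haveI : IsAffine V.left := isAffine_of_isAffineHom v.left
    obtain ⟨Q, _, _, ψ, _⟩ := exists_coord V
    haveI : Algebra.FiniteType k Q := finiteType ψ
    haveI : ConnectedSpace V.left := by
      obtain ⟨hconn, -⟩ := hgeo default
      haveI := isIso_geomPt (k := k) default
      haveI : IsIso (Limits.pullback.fst V.hom (Red.geomPt (default : Spec (CommRingCat.of k)))) := inferInstance
      haveI : ConnectedSpace ↥(Limits.pullback V.hom (Red.geomPt (default : Spec (CommRingCat.of k)))) := hconn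
      exact (Limits.pullback.fst V.hom (Red.geomPt (default : Spec (CommRingCat.of k)))).homeomorph.surjective.connectedSpace
        (Scheme.Hom.homeomorph _).continuous
    have hQ : HopfRep.IsUnipotent k Q := by
      haveI := isIso_geomPt (k := k) default
      exact isUnipotent_of_no_Gm ψ (no_Gm_of_bc _ (hgeo default).2)
    haveI : IsMonHom (𝟙 V) := inferInstance
    exact hmax V v hv hvs ‹_› hvn (hasNoSubtorus_of_unipotent hQ ψ (𝟙 V))

/-- Normality of a subgroup is seen on rational points. -/
theorem isNormalHom_of_pts {N G : Over (Spec (CommRingCat.of k))} [GrpObj N] [GrpObj G] [LocallyOfFiniteType G.hom]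
    [LocallyOfFiniteType N.hom] [IsReduced G.left] [IsReduced N.left] (i : N ⟶ G) [IsClosedImmersion i.left]
    (h : ∀ (g : 𝟙_ (Over (Spec (CommRingCat.of k))) ⟶ G) (n : 𝟙_ (Over (Spec (CommRingCat.of k))) ⟶ N),
      ∃ n' : 𝟙_ (Over (Spec (CommRingCat.of k))) ⟶ N, g * (n ≫ i) * g⁻¹ = n' ≫ i) :
    AlgGrp.IsNormalHom i := by
  haveI := AlgGrp79.reduced_prod G N
  haveI := AlgGrp79.lft_prod G N
  obtain ⟨c, hc⟩ := BorelCor.exists_factor_of_pts (fst G N * (snd G N ≫ i) * (fst G N)⁻¹) i fun p => by
    obtain ⟨n', hn'⟩ := h (p ≫ fst G N) (p ≫ snd G N)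
    exact ⟨n', by rw [← hn', MonObj.comp_mul, MonObj.comp_mul, GrpObj.comp_inv, Category.assoc]⟩
  intro T g n
  exact ⟨lift g n ≫ c, by
    rw [Category.assoc, hc, MonObj.comp_mul, MonObj.comp_mul, GrpObj.comp_inv, lift_fst, lift_snd_assoc]⟩

end Groth.Agent.AGF80.UnipBasic
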