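import Groth.Agent.AGF80.UnipBasic
import Groth.Agent.AGF80.BorelCor2
import Groth.Agent.S7967
import Groth.Agent.AlgGrp33.FiniteUnip

/-!
The unipotent part of a smooth connected solvable group over an algebraically closed field.
-/

set_option autoImplicit false
set_option linter.unusedSectionVars false
set_option linter.style.haveILetI false
set_option backward.isDefEq.respectTransparency.types false

universe u

open CategoryTheory MonoidalCategory CartesianMonoidalCategory MonObj GrpObj AlgebraicGeometry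
open scoped TensorProduct
open WithConv Groth.Agent.GMod80

noncomputable section

namespace Groth.Agent.AGF80.UnipPart

open AlgGrp79

variable {k : Type u} [Field k] [IsAlgClosed k]

/-- The identity component of a reduced structure on a group of finite type, meeting every coset in finitely many steps. -/
theorem exists_smooth_component (W : Over (Spec (CommRingCat.of k))) [GrpObj W] [LocallyOfFiniteType W.hom]
    [QuasiCompact W.hom] :
    ∃ (U : Over (Spec (CommRingCat.of k))) (_ : GrpObj U) (u : U ⟶ W), IsMonHom u ∧ IsClosedImmersion u.left ∧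
      Smooth U.hom ∧ ConnectedSpace U.left ∧
      Set.range u.left = connectedComponent (η[W].left (IsLocalRing.closedPoint k)) := by
  obtain ⟨W₀, _, incl, _, _, _, hrange, _, _⟩ := Grp57.exists_identityComponent W
  haveI : LocallyOfFiniteType W₀.hom := by rw [← Over.w incl]; infer_instance
  obtain ⟨U, _, r, _, _, hr, _⟩ := exists_reduced_subgroup W₀
  haveI : LocallyOfFiniteType U.hom := by rw [← Over.w r]; infer_instance
  haveI := hr
  refine ⟨U, inferInstance, r ≫ incl, inferInstance, inferInstanceAs (IsClosedImmersion (r.left ≫ incl.left)),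
    AlgGrp33.IsogSub.smooth_of_reduced U, ?_, ?_⟩
  · haveI : IrreducibleSpace W₀.left := GeometricallyIrreducible.irreducibleSpace_of_subsingleton W₀.hom
    exact (r.left.isClosedEmbedding.isEmbedding.toHomeomorph.trans
      ((Homeomorph.setCongr r.left.surjective.range_eq).trans (Homeomorph.Set.univ _))).connectedSpace_iff.2 inferInstance
  · rw [← hrange, Over.comp_left, Scheme.Hom.comp_base, TopCat.coe_comp, Set.range_comp, r.left.surjective.range_eq,
      Set.image_univ]

/-- Finitely many translates of the identity component cover the rational points. -/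
theorem exists_finite_reps {W U : Over (Spec (CommRingCat.of k))} [GrpObj W] [LocallyOfFiniteType W.hom]
    [QuasiCompact W.hom] (u : U ⟶ W) [IsClosedImmersion u.left]
    (hu : Set.range u.left = connectedComponent (η[W].left (IsLocalRing.closedPoint k))) :
    ∃ F : Finset (𝟙_ (Over (Spec (CommRingCat.of k))) ⟶ W),
      ∀ x, ∃ f ∈ F, ∃ y : 𝟙_ (Over (Spec (CommRingCat.of k))) ⟶ U, x = f * (y ≫ u) := by
  classical
  haveI := Var76.FibreBound.noetherianSpace W.hom
  let cl : (𝟙_ (Over (Spec (CommRingCat.of k))) ⟶ W) → Set W.left :=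
    fun x => connectedComponent (x.left (IsLocalRing.closedPoint k))
  have hfinC : (Set.range fun z : W.left => connectedComponent z).Finite := by
    have hfi := TopologicalSpace.NoetherianSpace.finite_irreducibleComponents (α := W.left)
    refine (hfi.image fun s : Set W.left =>
      if h : ∃ a, a ∈ s then connectedComponent (Classical.choose h) else ∅).subset ?_
    rintro _ ⟨z, rfl⟩
    refine ⟨irreducibleComponent z, irreducibleComponent_mem_irreducibleComponents z, ?_⟩
    have hne : ∃ a, a ∈ irreducibleComponent z := ⟨z, mem_irreducibleComponent⟩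
    show dite _ _ _ = _
    rw [dif_pos hne]
    refine connectedComponent_eq ?_
    exact (isIrreducible_irreducibleComponent (x := z)).isConnected.isPreconnected.subset_connectedComponent
      (Classical.choose_spec hne) mem_irreducibleComponent
  have hfinT : (Set.range cl).Finite := hfinC.subset (by rintro _ ⟨x, rfl⟩; exact ⟨_, rfl⟩)
  choose g hg using fun C : hfinT.toFinset => hfinT.mem_toFinset.1 C.2
  refine ⟨Finset.univ.image g, fun x => ?_⟩
  let C : hfinT.toFinset := ⟨cl x, hfinT.mem_toFinset.2 ⟨x, rfl⟩⟩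
  refine ⟨g C, Finset.mem_image_of_mem _ (Finset.mem_univ _), ?_⟩
  let L : W ⟶ W := (toUnit W ≫ (g C)⁻¹) * 𝟙 W
  have hL : ∀ y : 𝟙_ (Over (Spec (CommRingCat.of k))) ⟶ W, y ≫ L = (g C)⁻¹ * y := fun y => by
    simp [L, MonObj.comp_mul, toUnit_unique (y ≫ toUnit W) (𝟙 _)]
  have hmem : ((g C)⁻¹ * x).left (IsLocalRing.closedPoint k) ∈ Set.range u.left := by
    rw [hu]
    have hx : x.left (IsLocalRing.closedPoint k) ∈ cl (g C) := by rw [hg C]; exact mem_connectedComponent
    have h1 := L.left.continuous.image_connectedComponent_subset ((g C).left (IsLocalRing.closedPoint k)) ⟨_, hx, rfl⟩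
    have h2 : L.left ((g C).left (IsLocalRing.closedPoint k)) = η[W].left (IsLocalRing.closedPoint k) := by
      rw [← Scheme.Hom.comp_apply, ← Over.comp_left, hL, inv_mul_cancel, Hom.one_def,
        toUnit_unique (toUnit _) (𝟙 (𝟙_ (Over (Spec (CommRingCat.of k))))), Category.id_comp]
    rw [h2, ← Scheme.Hom.comp_apply, ← Over.comp_left, hL] at h1
    exact h1
  haveI : IsReduced (𝟙_ (Over (Spec (CommRingCat.of k)))).left := inferInstanceAs (IsReduced (Spec (CommRingCat.of k)))
  obtain ⟨y, hy⟩ := exists_lift_of_range_subset u ((g C)⁻¹ * x) (by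
    rintro _ ⟨z, rfl⟩
    rwa [show z = IsLocalRing.closedPoint k from Subsingleton.elim (α := PrimeSpectrum k) _ _])
  exact ⟨y, by rw [hy, mul_inv_cancel_left]⟩

/-- The unipotent part of a solvable group: the largest smooth connected subgroup without subtori; it is normal, and
together with a maximal torus it exhausts the rational points up to finitely many translates. -/
theorem exists_unipPart (B : Over (Spec (CommRingCat.of k))) [GrpObj B] [IsAffine B.left] [Smooth B.hom]
    [ConnectedSpace B.left] (hs : Red.IsSolvableGrp B) :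
    ∃ (U : Over (Spec (CommRingCat.of k))) (_ : GrpObj U) (iU : U ⟶ B),
      IsMonHom iU ∧ IsClosedImmersion iU.left ∧ Smooth U.hom ∧ ConnectedSpace U.left ∧ Red.HasNoSubtorus k U ∧
      AlgGrp.IsNormalHom iU ∧
      (∀ (V : Over (Spec (CommRingCat.of k))) [GrpObj V] (v : V ⟶ B) [IsMonHom v], IsClosedImmersion v.left →
        Smooth V.hom → ConnectedSpace V.left → Red.HasNoSubtorus k V → ∃ f : V ⟶ U, f ≫ iU = v) ∧
      ∃ (T : Over (Spec (CommRingCat.of k))) (_ : GrpObj T) (j : T ⟶ B), IsMonHom j ∧ IsClosedImmersion j.left ∧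
        Red.IsTorus T ∧ ∃ F : Finset (𝟙_ (Over (Spec (CommRingCat.of k))) ⟶ B),
          ∀ x, ∃ t : 𝟙_ (Over (Spec (CommRingCat.of k))) ⟶ T, ∃ f ∈ F,
            ∃ y : 𝟙_ (Over (Spec (CommRingCat.of k))) ⟶ U, x = (t ≫ j) * f * (y ≫ iU) := by
  classical
  obtain ⟨A, _, _, ψ, _⟩ := exists_coord B
  haveI : Algebra.FiniteType k A := finiteType ψ
  haveI : IsReduced B.left := isReduced_of_smooth B.hom
  haveI : _root_.IsReduced A := GMod80.isReduced ψ
  obtain ⟨T, _, j, _, _, hT, hdec, -⟩ := ToriConj.exists_maxTorus_coord B hs ψ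
  haveI : Group.IsSolvable (WithConv (A →ₐ[k] k)) := by
    obtain ⟨n, hn⟩ := hs
    haveI : Group.IsSolvable (𝟙_ (Over (Spec (CommRingCat.of k))) ⟶ B) := ⟨⟨n, hn _⟩⟩
    exact solvable_of_solvable_injective (f := ToriConj.ev ψ) (ToriConj.ev_injective ψ)
  have hA : HopfRep.IsTrigonalizable k A := Groth.Agent.S3266.result k A (GMod80.connected ψ)
  obtain ⟨C₀, _, _, ψ₀, J, hJh, -, hC₀, hJ, hUJ⟩ := (Groth.Agent.S7967.result k A).1 hA
  let qJ : A →ₐc[k] A ⧸ J := Bialgebra.Quotient.mkBialgHom J
  let iW : sp k (A ⧸ J) ⟶ B := spHom qJ ≫ ψ.hom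
  haveI : IsClosedImmersion (spHom qJ).left := by
    rw [spHom_left]
    exact IsClosedImmersion.spec_of_surjective _ Ideal.Quotient.mk_surjective
  haveI : IsIso ψ.hom.left := ((Over.forget _).mapIso ψ).isIso_hom
  haveI : IsClosedImmersion iW.left := inferInstanceAs (IsClosedImmersion ((spHom qJ).left ≫ ψ.hom.left))
  haveI : IsMonHom iW := inferInstanceAs (IsMonHom (spHom qJ ≫ ψ.hom))
  haveI : LocallyOfFiniteType (sp k (A ⧸ J)).hom := by rw [← Over.w iW]; infer_instance
  haveI : QuasiCompact (sp k (A ⧸ J)).hom := by rw [← Over.w iW]; infer_instance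
  have hlift : ∀ x ∈ Comod33.DimOneClass.unipPts k A,
      ∃ w : 𝟙_ (Over (Spec (CommRingCat.of k))) ⟶ sp k (A ⧸ J), w ≫ iW = ToriConj.ev ψ x := by
    intro x hx
    have h1 := AlgGrp33.FiniteUnip.unip_comp_eq_one hC₀ ψ₀ hx
    have hk : ∀ a ∈ J, x.ofConv a = 0 := by
      intro a ha
      rw [hJ] at ha
      refine Submodule.span_induction (fun z hz => ?_) (map_zero _) (fun z y _ _ hz hy => by rw [map_add, hz, hy, add_zero])
        (fun c z _ hz => by rw [smul_eq_mul, map_mul, hz, mul_zero]) ha
      obtain ⟨c, hc, rfl⟩ := hz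
      have := DFunLike.congr_fun (congrArg WithConv.ofConv h1) c
      exact this.trans ((congrArg (algebraMap k k) (RingHom.mem_ker.1 hc)).trans (map_zero _))
    let x' : WithConv (A ⧸ J →ₐ[k] k) := toConv (Ideal.Quotient.liftₐ J x.ofConv fun a ha => hk a ha)
    refine ⟨ToriConj.pt0 ≫ (Spec.mapMulEquiv x' : VecGrp.pt k k ⟶ sp k (A ⧸ J)), ?_⟩
    show (ToriConj.pt0 ≫ Spec.mapMulEquiv x') ≫ spHom qJ ≫ ψ.hom = ToriConj.pt0 ≫ Spec.mapMulEquiv x ≫ ψ.hom
    rw [Category.assoc]
    exact (congrArg (ToriConj.pt0 ≫ ·) (Category.assoc _ _ _).symm).trans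
      (congrArg (fun z => ToriConj.pt0 ≫ z ≫ ψ.hom) (comp_spHom qJ x'))
  obtain ⟨U, _, u, _, _, _, _, hu⟩ := exists_smooth_component (sp k (A ⧸ J))
  haveI : IsClosedImmersion (u ≫ iW).left := inferInstanceAs (IsClosedImmersion (u.left ≫ iW.left))
  haveI : Mono u := Over.mono_of_mono_left u
  haveI : IsMonHom (Iso.refl (sp k (A ⧸ J))).hom := inferInstanceAs (IsMonHom (𝟙 _))
  have hUno : Red.HasNoSubtorus k U := UnipBasic.hasNoSubtorus_of_unipotent hUJ (Iso.refl _) u
  haveI : IsReduced U.left := isReduced_of_smooth U.hom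
  have hmax : ∀ (V : Over (Spec (CommRingCat.of k))) [GrpObj V] (v : V ⟶ B) [IsMonHom v], IsClosedImmersion v.left →
      Smooth V.hom → ConnectedSpace V.left → Red.HasNoSubtorus k V → ∃ f : V ⟶ U, f ≫ u ≫ iW = v := by
    intro V _ v _ hv hvs hvc hV
    haveI := hv; haveI := hvs; haveI := hvc
    haveI : IsAffine V.left := isAffine_of_isAffineHom v.left
    haveI : IsReduced V.left := isReduced_of_smooth V.hom
    obtain ⟨Q, _, _, _, ψV, _, hQ⟩ := UnipBasic.exists_unip_coord V hV
    obtain ⟨w, hw⟩ := BorelCor.exists_factor_of_pts v iW fun p => by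
      obtain ⟨g, hg⟩ := ToriConj.ev_surjective ψV p
      obtain ⟨w, hw⟩ := hlift _ (SolvTori.restrPts_mem_unipPts (pullBialg ψ ψV v) hQ g)
      exact ⟨w, by rw [hw, ← hg]; exact (CentTorus.ev_comp ψ ψV v g).symm⟩
    haveI : Mono iW := Over.mono_of_mono_left iW
    haveI := BorelCor.isMonHom_factor w iW v hw
    obtain ⟨f, hf⟩ := exists_lift_of_range_subset u w (by
      rw [hu]
      rintro _ ⟨z, rfl⟩
      have h1 := (isConnected_range w.left.continuous).isPreconnected.subset_connectedComponent
        (⟨η[V].left (IsLocalRing.closedPoint k), rfl⟩ : w.left (η[V].left (IsLocalRing.closedPoint k)) ∈ Set.range w.left)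
      have h2 : w.left (η[V].left (IsLocalRing.closedPoint k)) = η[sp k (A ⧸ J)].left (IsLocalRing.closedPoint k) := by
        rw [← Scheme.Hom.comp_apply, ← Over.comp_left, IsMonHom.one_hom]
      rw [h2] at h1
      exact h1 ⟨z, rfl⟩)
    exact ⟨f, by rw [reassoc_of% hf, hw]⟩
  refine ⟨U, inferInstance, u ≫ iW, inferInstance, inferInstance, inferInstance, inferInstance, hUno, ?_, hmax, T,
    inferInstance, j, inferInstance, inferInstance, hT, ?_⟩
  · refine UnipBasic.isNormalHom_of_pts _ fun g n => ?_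
    haveI := BorelConj.isMonHom_conjBy g (u ≫ iW)
    haveI := BorelConj.isClosedImmersion_conjBy g (u ≫ iW)
    obtain ⟨f, hf⟩ := hmax U (AGF.conjBy g (u ≫ iW)) inferInstance inferInstance inferInstance hUno
    exact ⟨n ≫ f, by
      rw [Category.assoc, hf, BorelConj.comp_conjBy, AGF.conjBy,
        toUnit_unique (toUnit (𝟙_ (Over (Spec (CommRingCat.of k))))) (𝟙 _), Category.id_comp]⟩
  · obtain ⟨F, hF⟩ := exists_finite_reps u hu
    refine ⟨F.image (fun f => f ≫ iW), fun x => ?_⟩
    obtain ⟨a, rfl⟩ := ToriConj.ev_surjective ψ x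
    obtain ⟨t, z, hz, htz⟩ := hdec a
    obtain ⟨w, hw⟩ := hlift z hz
    obtain ⟨f, hf, y, rfl⟩ := hF w
    refine ⟨t, f ≫ iW, Finset.mem_image_of_mem _ hf, y, ?_⟩
    rw [htz, ← hw, MonObj.mul_comp _ _ iW, _root_.mul_assoc, Category.assoc]

end Groth.Agent.AGF80.UnipPart
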